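import Groth.Agent.LC.GorRows
import Groth.Agent.LC.GorHull
import Groth.Prelude.Def_Found
import Mathlib.RingTheory.RegularLocalRing.Defs

/-!
# Regular rings are Cohen–Macaulay
-/

namespace Groth.Agent.FlatLoc6

universe u

open TensorProduct

theorem isCM_of_isRegularRing (S : Type u) [CommRing S] [IsRegularRing S] : LocCoh.IsCohenMacaulayRing S :=
  ⟨fun p _ => by
    haveI := LC.gorenstein_of_isRegularLocalRing (R := Localization.AtPrime p)
    exact LC.isCohenMacaulayLocalRing_of_gorenstein⟩

theorem isRegularRing_of_geometricallyRegular {k S : Type u} [Field k] [CommRing S] [Algebra k S]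
    (h : CAlg.IsGeometricallyRegular k S) : IsRegularRing S := by
  haveI := h k inferInstance
  exact IsRegularRing.of_ringEquiv (Algebra.TensorProduct.lid k S).toRingEquiv

theorem isCM_of_geometricallyRegular {k S : Type u} [Field k] [CommRing S] [Algebra k S]
    (h : CAlg.IsGeometricallyRegular k S) : LocCoh.IsCohenMacaulayRing S :=
  haveI := isRegularRing_of_geometricallyRegular h
  isCM_of_isRegularRing S

end Groth.Agent.FlatLoc6
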