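import Groth.Agent.FlatLoc6.FiberRing
import Groth.Agent.FlatLoc6.RegCM
import Groth.Agent.GeomReg.Basic
import Mathlib.FieldTheory.FinTrdeg
import Mathlib.FieldTheory.IntermediateField.Adjoin.Algebra
import Mathlib.RingTheory.AlgebraicIndependent.Adjoin
import Mathlib.RingTheory.RegularLocalRing.Polynomial
import Mathlib.RingTheory.TensorProduct.MvPolynomial
import Mathlib.RingTheory.Ideal.GoingUp

/-!
# The tensor product of two fields, one finitely generated, is Cohen–Macaulay
-/

namespace Groth.Agent.FlatLoc6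

universe u

open TensorProduct IsLocalRing

/-- A finite flat algebra over a Cohen–Macaulay ring is Cohen–Macaulay. -/
theorem isCM_of_finite_flat (R C : Type u) [CommRing R] [CommRing C] [Algebra R C] [Module.Flat R C]
    [Module.Finite R C] [LocCoh.IsCohenMacaulayRing R] : LocCoh.IsCohenMacaulayRing C := by
  haveI : IsNoetherianRing C := IsNoetherianRing.of_finite R C
  refine ⟨fun q _ => ?_⟩
  haveI : IsNoetherianRing (Localization.AtPrime q) := IsLocalization.isNoetherianRing q.primeCompl _ inferInstance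
  refine ⟨?_⟩
  let p := q.comap (algebraMap R C)
  have hC : (⟨q, ‹_›⟩ : PrimeSpectrum C) ∈ Module.support C C := by
    rw [Module.mem_support_iff]
    exact (LC.selfLoc q.primeCompl).toEquiv.nontrivial
  have hR : (⟨p, inferInstance⟩ : PrimeSpectrum R) ∈ Module.support R R := by
    rw [Module.mem_support_iff]
    exact (LC.selfLoc p.primeCompl).toEquiv.nontrivial
  obtain ⟨h0, h0'⟩ := fib_zero_of_minimal (A := R) C q hC fun P _ hle hpP => by
    by_contra hne
    obtain ⟨x, hxq, hxP⟩ := SetLike.exists_of_lt (lt_of_le_of_ne hle hne)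
    exact absurd hpP (Ideal.comap_lt_comap_of_integral_mem_sdiff hle ⟨hxq, hxP⟩
      (Algebra.IsIntegral.isIntegral x)).not_ge
  obtain ⟨h1, h2⟩ := formulas_atPrime C R p q rfl hC hR
  let e : LocalizedModule q.primeCompl (C ⊗[R] R) ≃ₗ[Localization.AtPrime q] LocalizedModule q.primeCompl C :=
    IsLocalizedModule.mapEquiv q.primeCompl (LocalizedModule.mkLinearMap _ _) (LocalizedModule.mkLinearMap _ _)
      (Localization.AtPrime q) (AlgebraTensorModule.rid R C C)
  rw [Hensel.depth_congr (e.trans (LC.selfLoc q.primeCompl)), Hensel.depth_congr (LC.selfLoc p.primeCompl), h0',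
    add_zero] at h1
  rw [Module.supportDim_eq_of_equiv (e.trans (LC.selfLoc q.primeCompl)),
    Module.supportDim_eq_of_equiv (LC.selfLoc p.primeCompl), h0, add_zero] at h2
  rw [h1, h2]
  exact (LocCoh.IsCohenMacaulayRing.isCohenMacaulayLocalRing_localization p).supportDim_eq_depth

theorem isCM_of_ringEquiv {R S : Type u} [CommRing R] [CommRing S] (e : R ≃+* S)
    (h : LocCoh.IsCohenMacaulayRing R) : LocCoh.IsCohenMacaulayRing S := by
  letI : Algebra R S := (e : R →+* S).toAlgebra
  let f : R ≃ₗ[R] S := (AlgEquiv.ofRingEquiv (f := e) fun _ => rfl : R ≃ₐ[R] S).toLinearEquiv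
  haveI : Module.Finite R S := Module.Finite.equiv f
  haveI : Module.Flat R S := Module.Flat.of_linearEquiv f.symm
  exact isCM_of_finite_flat R S

variable (k K L : Type u) [Field k] [Field K] [Field L] [Algebra k K] [Algebra k L]

/-- The base change of a rational function field is regular. -/
theorem isRegularRing_fractionRing_tensor (ι : Type u) [Finite ι] :
    IsRegularRing (FractionRing (MvPolynomial ι k) ⊗[k] K) := by
  let P := MvPolynomial ι k
  let F := FractionRing (MvPolynomial ι k)
  haveI : IsRegularRing (P ⊗[k] K) :=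
    IsRegularRing.of_ringEquiv ((Algebra.TensorProduct.comm k P K).toRingEquiv.trans
      (MvPolynomial.algebraTensorAlgEquiv k K).toRingEquiv).symm
  haveI : IsRegularRing ((P ⊗[k] K) ⊗[P] F) :=
    GeomReg.isRegularRing_of_isLocalization (Algebra.algebraMapSubmonoid (P ⊗[k] K) (nonZeroDivisors P)) _
  exact IsRegularRing.of_ringEquiv (R := (P ⊗[k] K) ⊗[P] F) ((Algebra.TensorProduct.comm P (P ⊗[k] K) F).toRingEquiv.trans
    (Algebra.TensorProduct.cancelBaseChange k P F F K).toRingEquiv)

theorem isCM_tensor_of_finite (F : Type u) [Field F] [Algebra k F] [Algebra F L] [IsScalarTower k F L]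
    [Module.Finite F L] [IsRegularRing (F ⊗[k] K)] : LocCoh.IsCohenMacaulayRing (L ⊗[k] K) := by
  haveI := isCM_of_isRegularRing (F ⊗[k] K)
  haveI := isCM_of_finite_flat (F ⊗[k] K) ((F ⊗[k] K) ⊗[F] L)
  exact isCM_of_ringEquiv (R := (F ⊗[k] K) ⊗[F] L) ((Algebra.TensorProduct.comm F (F ⊗[k] K) L).toRingEquiv.trans
    (Algebra.TensorProduct.cancelBaseChange k F L L K).toRingEquiv) inferInstance

/-- The tensor product with a finitely generated field extension is Cohen–Macaulay. -/
theorem isCM_tensor_field [Algebra.EssFiniteType k L] : LocCoh.IsCohenMacaulayRing (L ⊗[k] K) := by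
  obtain ⟨s, hs⟩ := exists_isTranscendenceBasis k L
  haveI : Finite s := by
    refine Cardinal.lt_aleph0_iff_finite.mp ?_
    rw [hs.cardinalMk_eq_trdeg]
    exact finTrdeg_iff_trdeg.mp inferInstance
  let F₀ := IntermediateField.adjoin k (Set.range ((↑) : s → L))
  haveI : Algebra.IsAlgebraic F₀ L := hs.isAlgebraic_field
  haveI : Algebra.EssFiniteType F₀ L := Algebra.EssFiniteType.of_comp k F₀ L
  haveI : Module.Finite F₀ L := Algebra.finite_of_essFiniteType_of_isAlgebraic (F := F₀) (E := L)
  haveI : IsRegularRing (F₀ ⊗[k] K) :=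
    haveI := isRegularRing_fractionRing_tensor k K s
    IsRegularRing.of_ringEquiv
      (Algebra.TensorProduct.congr hs.1.aevalEquivField (AlgEquiv.refl (R := k) (A₁ := K))).toRingEquiv
  exact isCM_tensor_of_finite k K L F₀

end Groth.Agent.FlatLoc6
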