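import Groth.Agent.FlatLoc6.DefinedPrime

/-!
# Regular and normal homomorphisms under base change
-/

namespace Groth.Agent.FlatLoc6

universe u

open TensorProduct IsLocalRing

/-- A field over `A` whose kernel is `p` is an extension of the residue field of `p`. -/
theorem exists_residueAlgebra {A L : Type u} [CommRing A] [Field L] [Algebra A L] (p : Ideal A) [p.IsPrime]
    (hp : RingHom.ker (algebraMap A L) = p) :
    ∃ _ : Algebra p.ResidueField L, IsScalarTower A p.ResidueField L := by
  have h2 : p.primeCompl ≤ (IsUnit.submonoid L).comap (algebraMap A L) := fun a ha => by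
    refine isUnit_iff_ne_zero.mpr fun h0 => ha ?_
    rw [← hp]
    exact h0
  letI := (Ideal.ResidueField.lift p (algebraMap A L) hp.ge h2).toAlgebra
  exact ⟨inferInstance, IsScalarTower.of_algebraMap_eq fun a =>
    (Ideal.ResidueField.lift_algebraMap p (algebraMap A L) hp.ge h2 a).symm⟩

theorem ker_algebraMap_over {A A' : Type u} [CommRing A] [CommRing A'] [Algebra A A'] (p' : Ideal A') [p'.IsPrime]
    (L : Type u) [Field L] [Algebra p'.ResidueField L] [Algebra A L] [IsScalarTower A p'.ResidueField L] :
    RingHom.ker (algebraMap A L) = p'.comap (algebraMap A A') := by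
  ext a
  rw [RingHom.mem_ker, Ideal.mem_comap, IsScalarTower.algebraMap_apply A p'.ResidueField L,
    map_eq_zero_iff _ (algebraMap p'.ResidueField L).injective, IsScalarTower.algebraMap_apply A A' p'.ResidueField,
    Ideal.algebraMap_residueField_eq_zero]

variable (A B A' : Type u) [CommRing A] [CommRing B] [CommRing A'] [Algebra A B] [Algebra A A']

theorem isNoetherianRing_baseChange [IsNoetherianRing A'] [IsNoetherianRing B]
    (hft : Algebra.FiniteType A B ∨ Algebra.FiniteType A A') : IsNoetherianRing (A' ⊗[A] B) := by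
  rcases hft with h | h
  · exact Algebra.FiniteType.isNoetherianRing A' _
  · haveI : IsNoetherianRing (B ⊗[A] A') := Algebra.FiniteType.isNoetherianRing B _
    exact isNoetherianRing_of_ringEquiv _ (Algebra.TensorProduct.comm A B A').toRingEquiv

/-- A field over the residue field of a prime of `A'` is an extension of the residue field of its image. -/
theorem exists_instances (p' : Ideal A') [p'.IsPrime] (L : Type u) [Field L] [Algebra p'.ResidueField L] :
    ∃ (_ : Algebra A L) (_ : Algebra (p'.comap (algebraMap A A')).ResidueField L),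
      IsScalarTower A (p'.comap (algebraMap A A')).ResidueField L ∧ IsScalarTower A p'.ResidueField L := by
  letI : Algebra A L := ((algebraMap p'.ResidueField L).comp (algebraMap A p'.ResidueField)).toAlgebra
  haveI : IsScalarTower A p'.ResidueField L := IsScalarTower.of_algebraMap_eq' rfl
  obtain ⟨_, _⟩ := exists_residueAlgebra (L := L) (p'.comap (algebraMap A A')) (ker_algebraMap_over p' L)
  exact ⟨inferInstance, inferInstance, inferInstance, inferInstance⟩

/-- A field over the residue field of the base change sees the original fibre. -/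
theorem fiber_baseChange_equiv (p' : Ideal A') [p'.IsPrime] (L : Type u) [Field L] [Algebra p'.ResidueField L]
    [Algebra A L] [IsScalarTower A p'.ResidueField L] (p : Ideal A) [p.IsPrime] [Algebra p.ResidueField L]
    [IsScalarTower A p.ResidueField L] :
    Nonempty (L ⊗[p'.ResidueField] p'.Fiber (A' ⊗[A] B) ≃+* L ⊗[p.ResidueField] p.Fiber B) := by
  letI : Algebra A' L := ((algebraMap p'.ResidueField L).comp (algebraMap A' p'.ResidueField)).toAlgebra
  haveI : IsScalarTower A' p'.ResidueField L := IsScalarTower.of_algebraMap_eq' rfl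
  haveI : IsScalarTower A A' L := IsScalarTower.of_algebraMap_eq fun a => by
    rw [IsScalarTower.algebraMap_apply A p'.ResidueField L, IsScalarTower.algebraMap_apply A A' p'.ResidueField]
    rfl
  exact ⟨((Algebra.TensorProduct.cancelBaseChange A' p'.ResidueField L L (A' ⊗[A] B)).toRingEquiv.trans
    (Algebra.TensorProduct.cancelBaseChange A A' L L B).toRingEquiv).trans
    (Algebra.TensorProduct.cancelBaseChange A p.ResidueField L L B).symm.toRingEquiv⟩

theorem essFiniteType_or_finiteType (hft : Algebra.FiniteType A B ∨ Algebra.FiniteType A A') (p' : Ideal A')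
    [p'.IsPrime] (L : Type u) [Field L] [Algebra p'.ResidueField L] [Module.Finite p'.ResidueField L]
    [Algebra A L] [IsScalarTower A p'.ResidueField L] (p : Ideal A) [p.IsPrime] [Algebra p.ResidueField L]
    [IsScalarTower A p.ResidueField L] :
    Algebra.EssFiniteType p.ResidueField L ∨ Algebra.EssFiniteType p.ResidueField (p.Fiber B) := by
  rcases hft with h | h
  · exact Or.inr inferInstance
  · haveI : Algebra.EssFiniteType A p'.ResidueField := Algebra.EssFiniteType.comp A A' _
    haveI : Algebra.EssFiniteType A L := Algebra.EssFiniteType.comp A p'.ResidueField L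
    exact Or.inl (Algebra.EssFiniteType.of_comp A p.ResidueField L)

theorem isRegularHom_baseChange [IsNoetherianRing B] [IsNoetherianRing A']
    (hft : Algebra.FiniteType A B ∨ Algebra.FiniteType A A') (h : CAlg.IsRegularHom A B) :
    CAlg.IsRegularHom A' (A' ⊗[A] B) := by
  haveI := h.1
  haveI := isNoetherianRing_baseChange A B A' hft
  refine ⟨inferInstance, fun p' _ => ⟨isNoetherianRing_fiber p', fun L _ _ hL => ?_⟩⟩
  obtain ⟨_, _, _, _⟩ := exists_instances A A' p' L
  obtain ⟨e⟩ := fiber_baseChange_equiv A B A' p' L (p'.comap (algebraMap A A'))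
  haveI := regular_tensor_arb _ L _ (essFiniteType_or_finiteType A B A' hft p' L _) (h.2 (p'.comap (algebraMap A A'))).2
  exact IsRegularRing.of_ringEquiv (R := L ⊗[(p'.comap (algebraMap A A')).ResidueField] (p'.comap (algebraMap A A')).Fiber B) e.symm

theorem isNormalHom_baseChange [IsNoetherianRing B] [IsNoetherianRing A']
    (hft : Algebra.FiniteType A B ∨ Algebra.FiniteType A A') (h : EGA4.IsNormalHom A B) :
    EGA4.IsNormalHom A' (A' ⊗[A] B) := by
  haveI := h.1
  refine ⟨inferInstance, fun p' _ L _ _ hL => ?_⟩
  obtain ⟨_, _, _, _⟩ := exists_instances A A' p' L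
  obtain ⟨e⟩ := fiber_baseChange_equiv A B A' p' L (p'.comap (algebraMap A A'))
  haveI := isNoetherianRing_fiber (B := B) (p'.comap (algebraMap A A'))
  exact isNormalRing_of_ringEquiv (R := L ⊗[(p'.comap (algebraMap A A')).ResidueField] (p'.comap (algebraMap A A')).Fiber B) e.symm
    (normal_tensor_arb _ L _ (essFiniteType_or_finiteType A B A' hft p' L _) (h.2 _)).2

/-- The properties descend along a faithfully flat base change. -/
theorem Permanence.of_baseChange {P : ∀ (R : Type u) [CommRing R], Prop} (hP : Permanence P)
    [Module.FaithfullyFlat A A']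
    (h : ∀ (p' : Ideal A') [p'.IsPrime] (L : Type u) [Field L] [Algebra p'.ResidueField L],
      Module.Finite p'.ResidueField L → P (L ⊗[p'.ResidueField] p'.Fiber (A' ⊗[A] B)))
    (p : Ideal A) [p.IsPrime] (k' : Type u) [Field k'] [Algebra p.ResidueField k'] [Module.Finite p.ResidueField k'] :
    P (k' ⊗[p.ResidueField] p.Fiber B) := by
  obtain ⟨Q, hQ⟩ := PrimeSpectrum.comap_surjective_of_faithfullyFlat (A := A) (B := A') ⟨p, ‹_›⟩
  have hQ' : Q.asIdeal.comap (algebraMap A A') = p := congrArg PrimeSpectrum.asIdeal hQ
  subst hQ'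
  obtain ⟨_, _⟩ := exists_residueAlgebra (L := Q.asIdeal.ResidueField) (Q.asIdeal.comap (algebraMap A A'))
    (ker_algebraMap_over Q.asIdeal Q.asIdeal.ResidueField)
  obtain ⟨L, _, _, _, _, htow, _, hL⟩ :=
    exists_compositum (Q.asIdeal.comap (algebraMap A A')).ResidueField Q.asIdeal.ResidueField k'
  refine hP.descend_field _ k' L _ ?_
  letI : Algebra A L := ((algebraMap (Q.asIdeal.comap (algebraMap A A')).ResidueField L).comp
    (algebraMap A (Q.asIdeal.comap (algebraMap A A')).ResidueField)).toAlgebra
  haveI : IsScalarTower A (Q.asIdeal.comap (algebraMap A A')).ResidueField L := IsScalarTower.of_algebraMap_eq' rfl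
  haveI : IsScalarTower A Q.asIdeal.ResidueField L := IsScalarTower.of_algebraMap_eq fun a => by
    rw [IsScalarTower.algebraMap_apply A (Q.asIdeal.comap (algebraMap A A')).ResidueField L,
      IsScalarTower.algebraMap_apply (Q.asIdeal.comap (algebraMap A A')).ResidueField Q.asIdeal.ResidueField L,
      ← IsScalarTower.algebraMap_apply A (Q.asIdeal.comap (algebraMap A A')).ResidueField Q.asIdeal.ResidueField]
  obtain ⟨e⟩ := fiber_baseChange_equiv A B A' Q.asIdeal L (Q.asIdeal.comap (algebraMap A A'))
  exact hP.equiv (R := L ⊗[Q.asIdeal.ResidueField] Q.asIdeal.Fiber (A' ⊗[A] B)) e (h Q.asIdeal L hL)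

end Groth.Agent.FlatLoc6
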