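import Groth.Agent.Alg6.AssDepth
import Groth.Agent.Alg6.LocLoc
import Groth.Agent.Alg6.RkLoc
import Groth.Agent.CDiv6.Normal
import Groth.Agent.LC.GorLoc
import Groth.Agent.Hensel.DepthFlat
import Groth.Agent.RegLoc6.Normal
import Mathlib.RingTheory.RegularLocalRing.Defs

/-!
# Serre's criterion of normality
-/

namespace Groth.Agent.FlatLoc6

universe u

open IsLocalRing

variable {R : Type u} [CommRing R] [IsNoetherianRing R]

omit [IsNoetherianRing R] in
theorem supportDim_self_atPrime (p : Ideal R) [p.IsPrime] :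
    Module.supportDim (Localization.AtPrime p) (LocalizedModule p.primeCompl R) = (p.height : WithBot ℕ∞) := by
  rw [Module.supportDim_eq_of_equiv (LC.selfLoc p.primeCompl), Module.supportDim_self_eq_ringKrullDim,
    IsLocalization.AtPrime.ringKrullDim_eq_height p]

theorem depth_self_atPrime (p : Ideal R) [p.IsPrime] :
    LocCoh.depth (Localization.AtPrime p) (LocalizedModule p.primeCompl R) =
      LocCoh.depth (Localization.AtPrime p) (Localization.AtPrime p) :=
  Hensel.depth_congr (LC.selfLoc p.primeCompl)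

/-- `(S_k)` of a ring, read on its local rings. -/
theorem hasSk_self_iff (k : ℕ) :
    LocCoh.HasSk k R R ↔ ∀ (p : Ideal R) [p.IsPrime],
      min (k : ℕ∞) p.height ≤ LocCoh.depth (Localization.AtPrime p) (Localization.AtPrime p) := by
  refine forall_congr' fun p => forall_congr' fun hp => ?_
  rw [supportDim_self_atPrime, depth_self_atPrime, ← WithBot.coe_natCast, ← WithBot.coe_min, WithBot.coe_le_coe]

theorem height_eq_zero_of_mem_ass (hS : LocCoh.HasSk 1 R R) {q : Ideal R} [q.IsPrime]
    (hq : q ∈ associatedPrimes R R) : q.height = 0 := by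
  have h := (hasSk_self_iff 1).mp hS q
  rw [← depth_self_atPrime] at h
  by_contra h0
  refine (Alg6.one_le_depth_atPrime_iff (M := R) q).mp (le_trans ?_ h) hq
  rw [Nat.cast_one]
  exact le_min le_rfl (Order.one_le_iff_ne_zero.mpr h0)

theorem height_le_one_of_mem_ass_quot (hS : LocCoh.HasSk 2 R R) {b : R} (hb : IsSMulRegular R b) {q : Ideal R}
    [q.IsPrime] (hbq : b ∈ q) (hq : q ∈ associatedPrimes R (QuotSMulTop b R)) : q.height ≤ 1 := by
  have h := (hasSk_self_iff 2).mp hS q
  rw [← depth_self_atPrime] at h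
  by_contra h0
  rw [not_le] at h0
  refine (Alg6.two_le_depth_atPrime_iff (M := R) q hbq hb).mp (le_trans ?_ h) hq
  exact le_min le_rfl (Order.add_one_le_of_lt h0)

theorem isReduced_of_R0_S1 (hR : ∀ (p : Ideal R) [p.IsPrime], p.height = 0 → IsReduced (Localization.AtPrime p))
    (hS : LocCoh.HasSk 1 R R) : IsReduced R := by
  refine ⟨fun x hx => ?_⟩
  by_contra hx0
  obtain ⟨q, hq, hann⟩ := Alg6.exists_ass_ge (R := R) (M := R) hx0
  haveI := (AssociatedPrimes.mem_iff.mp hq).isPrime
  haveI := hR q (height_eq_zero_of_mem_ass hS hq)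
  have h0 : algebraMap R (Localization.AtPrime q) x = 0 :=
    (hx.map (algebraMap R (Localization.AtPrime q))).eq_zero
  obtain ⟨⟨s, hs⟩, hsx⟩ := (IsLocalization.map_eq_zero_iff q.primeCompl _ x).mp h0
  exact hs (hann s hsx)

/-- With `(R_1)` and `(S_2)` the ring is integrally closed in its total ring of fractions. -/
theorem exists_eq_of_isIntegral (hR : LocCoh.HasRk 1 R) (hS : LocCoh.HasSk 2 R R) (a : R)
    (b : nonZeroDivisors R) (h : IsIntegral R (IsLocalization.mk' (FractionRing R) a b)) :
    ∃ r, a = r * b := by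
  obtain ⟨b, hb⟩ := b
  have hreg : IsSMulRegular R b := Module.Flat.isSMulRegular_of_nonZeroDivisors hb
  by_contra hc
  have hne : (Submodule.Quotient.mk a : QuotSMulTop b R) ≠ 0 := fun h0 => hc (by
    obtain ⟨w, hw⟩ := Alg6.mem_pointwise_smul_top_iff.mp h0
    exact ⟨w, by rw [← hw, smul_eq_mul, mul_comm]⟩)
  obtain ⟨q, hq, hann⟩ := Alg6.exists_ass_ge (R := R) hne
  haveI := (AssociatedPrimes.mem_iff.mp hq).isPrime
  have hbq : b ∈ q := hann b (by
    rw [← Submodule.Quotient.mk_smul]
    exact Alg6.mem_pointwise_smul_top_iff.mpr ⟨a, rfl⟩)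
  haveI := hR q (height_le_one_of_mem_ass_quot hS hreg hbq hq)
  let Rq := Localization.AtPrime q
  haveI := RegLoc6.isDomain_of_isRegularLocalRing Rq
  haveI := RegLoc6.isIntegrallyClosed_of_isRegularLocalRing Rq
  have hmap : ∀ c : nonZeroDivisors R, IsUnit ((algebraMap Rq (FractionRing Rq)).comp (algebraMap R Rq) c) := by
    rintro ⟨c, hc⟩
    refine IsUnit.mk0 _ fun h0 => ?_
    have h1 : algebraMap R Rq c = 0 := IsFractionRing.injective Rq (FractionRing Rq) (h0.trans (map_zero _).symm)
    obtain ⟨⟨s, hs⟩, hsc⟩ := (IsLocalization.map_eq_zero_iff q.primeCompl _ c).mp h1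
    exact hs ((mem_nonZeroDivisors_iff_right.mp hc) s hsc ▸ q.zero_mem)
  let j : FractionRing R →+* FractionRing Rq := IsLocalization.lift hmap
  have hint : IsIntegral Rq (j (IsLocalization.mk' (FractionRing R) a ⟨b, hb⟩)) := by
    obtain ⟨P, hP, hPx⟩ := h
    refine ⟨P.map (algebraMap R Rq), hP.map _, ?_⟩
    rw [Polynomial.eval₂_map, show (algebraMap Rq (FractionRing Rq)).comp (algebraMap R Rq) =
      j.comp (algebraMap R (FractionRing R)) from (IsLocalization.lift_comp hmap).symm,
      ← Polynomial.hom_eval₂, hPx, map_zero]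
  obtain ⟨c, hc'⟩ := IsIntegrallyClosed.isIntegral_iff.mp hint
  have key : c * algebraMap R Rq b = algebraMap R Rq a := by
    refine IsFractionRing.injective Rq (FractionRing Rq) ?_
    rw [map_mul, hc']
    show j _ * ((algebraMap Rq (FractionRing Rq)).comp (algebraMap R Rq)) b =
      ((algebraMap Rq (FractionRing Rq)).comp (algebraMap R Rq)) a
    rw [← IsLocalization.lift_eq (S := FractionRing R) hmap b, ← IsLocalization.lift_eq (S := FractionRing R) hmap a, ← map_mul]
    exact congrArg j (IsLocalization.mk'_spec (FractionRing R) a ⟨b, hb⟩)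
  obtain ⟨⟨r, s⟩, hrs⟩ := IsLocalization.surj q.primeCompl c
  have h2 : algebraMap R Rq (a * s) = algebraMap R Rq (r * b) := by
    rw [map_mul, map_mul, ← key, ← hrs]
    ring
  obtain ⟨⟨t, ht⟩, hts⟩ := (IsLocalization.eq_iff_exists q.primeCompl Rq).mp h2
  refine Ideal.IsPrime.mul_notMem (‹q.IsPrime›) ht s.2 (hann _ ?_)
  rw [← Submodule.Quotient.mk_smul]
  exact Alg6.mem_pointwise_smul_top_iff.mpr ⟨t * r, by simp only [smul_eq_mul] at hts ⊢; linear_combination -hts⟩

theorem hasSk_one_of_two (hS : LocCoh.HasSk 2 R R) : LocCoh.HasSk 1 R R :=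
  (hasSk_self_iff 1).mpr fun p _ => le_trans (min_le_min_right _ (by norm_num)) ((hasSk_self_iff 2).mp hS p)

/-- A local ring with `(R_1)` and `(S_2)` is a normal domain. -/
theorem normal_of_R1_S2 [IsLocalRing R] (hR : LocCoh.HasRk 1 R) (hS : LocCoh.HasSk 2 R R) :
    IsDomain R ∧ IsIntegrallyClosed R := by
  classical
  have hS1 := hasSk_one_of_two hS
  haveI : IsReduced R := isReduced_of_R0_S1 (fun p _ hp => by
    haveI := hR p (hp.le.trans zero_le)
    haveI := RegLoc6.isDomain_of_isRegularLocalRing (Localization.AtPrime p)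
    infer_instance) hS1
  have hass : ∀ q ∈ associatedPrimes R R, q ∈ minimalPrimes R := fun q hq => by
    haveI := (AssociatedPrimes.mem_iff.mp hq).isPrime
    exact Ideal.height_eq_zero_iff.mp (height_eq_zero_of_mem_ass hS1 hq)
  obtain ⟨P₁, hP₁, -⟩ := Ideal.exists_minimalPrimes_le (bot_le : (⊥ : Ideal R) ≤ maximalIdeal R)
  have huniq : ∀ P ∈ minimalPrimes R, P = P₁ := by
    by_contra hcon
    push Not at hcon
    obtain ⟨P₂, hP₂, hne⟩ := hcon
    let S : Set (Ideal R) := minimalPrimes R \ {P₁}
    have hSfin : S.Finite := (minimalPrimes.finite_of_isNoetherianRing R).subset Set.sdiff_subset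
    let I : Ideal R := ⨅ P ∈ S, P
    have hprod : ∀ u ∈ P₁, ∀ v ∈ I, u * v = 0 := by
      intro u hu v hv
      refine IsNilpotent.eq_zero (nilpotent_iff_mem_prime.mpr fun Q hQ => ?_)
      obtain ⟨P, hP, hPQ⟩ := Ideal.exists_minimalPrimes_le (bot_le : (⊥ : Ideal R) ≤ Q)
      refine hPQ ?_
      by_cases hPP : P = P₁
      · exact Ideal.mul_mem_right _ _ (hPP ▸ hu)
      · exact Ideal.mul_mem_left _ _ ((Submodule.mem_iInf _).mp ((Submodule.mem_iInf _).mp hv P) ⟨hP, hPP⟩)
    obtain ⟨b, hbI, hbreg⟩ : ∃ b ∈ P₁ ⊔ I, IsSMulRegular R b := by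
      refine (Alg6.exists_isSMulRegular_mem_iff (M := R) (P₁ ⊔ I)).mpr fun q hq hle => ?_
      have hqm := hass q hq
      haveI := hqm.1.1
      have hPq : q = P₁ := (le_antisymm (hle.trans' le_sup_left) (hqm.2 ⟨hP₁.1.1, bot_le⟩ (le_sup_left.trans hle))).symm
      have hIq : hSfin.toFinset.inf id ≤ q := by
        refine le_trans (le_trans ?_ (le_sup_right (a := P₁))) hle
        refine le_iInf₂ fun P hP => ?_
        exact Finset.inf_le (f := id) (hSfin.mem_toFinset.mpr hP)
      obtain ⟨P, hP, hPle⟩ := (Ideal.IsPrime.inf_le' inferInstance).mp hIq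
      have hP' := hSfin.mem_toFinset.mp hP
      exact hP'.2 ((le_antisymm hPle (hqm.2 ⟨hP'.1.1.1, bot_le⟩ hPle)).trans hPq)
    obtain ⟨x, hx, y, hy, rfl⟩ := Submodule.mem_sup.mp hbI
    have hb : x + y ∈ nonZeroDivisors R := mem_nonZeroDivisors_iff_right.mpr fun z hz =>
      hbreg.right_eq_zero_of_smul (by rw [smul_eq_mul, mul_comm]; exact hz)
    have hxx : x * (x + y) = x * x := by rw [mul_add, hprod x hx y hy, add_zero]
    set e := IsLocalization.mk' (FractionRing R) x (⟨x + y, hb⟩ : nonZeroDivisors R) with he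
    have hee : e * e = e := by
      rw [he, ← IsLocalization.mk'_mul]
      refine IsLocalization.mk'_eq_of_eq ?_
      show (x + y) * (x + y) * x = (x + y) * (x * x)
      rw [← hxx]; ring
    have hint : IsIntegral R e := by
      refine ⟨Polynomial.X ^ 2 - Polynomial.X,
        (Polynomial.monic_X_pow 2).sub_of_left (by
          rw [Polynomial.degree_X_pow]
          exact lt_of_le_of_lt Polynomial.degree_X_le (by norm_num)), ?_⟩
      simp [sq, hee]
    obtain ⟨r, hr⟩ := exists_eq_of_isIntegral hR hS x ⟨x + y, hb⟩ hint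
    change x = r * (x + y) at hr
    have hrr : IsIdempotentElem r := by
      have h1 : (r * r - r) * (x + y) * (x + y) = 0 := by
        have : r * (x + y) * (x + y) = r * (x + y) * (r * (x + y)) := by rw [← hr]; exact hxx
        linear_combination -this
      exact sub_eq_zero.mp ((mem_nonZeroDivisors_iff_right.mp hb) _ ((mem_nonZeroDivisors_iff_right.mp hb) _ h1))
    rcases (show r = 0 ∨ r = 1 by
      rcases IsLocalRing.isUnit_or_isUnit_one_sub_self r with h | h
      · right
        exact h.mul_left_cancel (by rw [mul_one]; exact hrr)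
      · left
        exact h.mul_right_eq_zero.mp (by rw [sub_mul, one_mul, hrr]; exact sub_self r)) with rfl | rfl
    · rw [zero_mul] at hr
      subst hr
      have hbP : (0 : R) + y ∈ P₂ := by
        rw [zero_add]
        exact (Submodule.mem_iInf _).mp ((Submodule.mem_iInf _).mp hy P₂) ⟨hP₂, hne⟩
      exact Set.disjoint_left.mp (Ideal.disjoint_nonZeroDivisors_of_mem_minimalPrimes hP₂) hbP hb
    · rw [one_mul] at hr
      exact Set.disjoint_left.mp (Ideal.disjoint_nonZeroDivisors_of_mem_minimalPrimes hP₁) (hr ▸ hx) hb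
  have hdom : IsDomain R := by
    have h0 : P₁ = ⊥ := eq_bot_iff.mpr fun z hz => by
      rw [Submodule.mem_bot]
      refine IsNilpotent.eq_zero (nilpotent_iff_mem_prime.mpr fun Q hQ => ?_)
      obtain ⟨P, hP, hPQ⟩ := Ideal.exists_minimalPrimes_le (bot_le : (⊥ : Ideal R) ≤ Q)
      exact hPQ (huniq P hP ▸ hz)
    haveI : (⊥ : Ideal R).IsPrime := h0 ▸ hP₁.1.1
    haveI : NoZeroDivisors R := ⟨fun {u v} h => by
      simpa using (inferInstance : (⊥ : Ideal R).IsPrime).mem_or_mem (show u * v ∈ (⊥ : Ideal R) by rw [h]; exact zero_mem _)⟩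
    exact NoZeroDivisors.to_isDomain R
  refine ⟨hdom, (isIntegrallyClosed_iff (FractionRing R)).mpr fun {z} hz => ?_⟩
  obtain ⟨a, b, rfl⟩ := IsLocalization.exists_mk'_eq (nonZeroDivisors R) z
  obtain ⟨r, rfl⟩ := exists_eq_of_isIntegral hR hS a b hz
  exact ⟨r, (IsLocalization.mk'_mul_cancel_right r b).symm⟩

end Groth.Agent.FlatLoc6

namespace Groth.Agent.FlatLoc6

universe u

open IsLocalRing

/-- A normal Noetherian local domain has depth at least `min 2 dim`. -/
theorem depth_of_normal (A : Type u) [CommRing A] [IsNoetherianRing A] [IsLocalRing A] [IsDomain A]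
    [IsIntegrallyClosed A] : min (2 : WithBot ℕ∞) (ringKrullDim A) ≤ ((LocCoh.depth A A : ℕ∞) : WithBot ℕ∞) := by
  by_cases h2 : (2 : ℕ∞) ≤ LocCoh.depth A A
  · exact (min_le_left _ _).trans (WithBot.coe_le_coe.mpr h2)
  by_cases hF : IsField A
  · rw [ringKrullDim_eq_zero_of_isField hF]
    exact (min_le_right _ _).trans (WithBot.coe_le_coe.mpr zero_le)
  have h1 : (1 : ℕ∞) ≤ LocCoh.depth A A := Alg6.one_le_depth_iff.mpr fun h => by
    obtain ⟨-, z, hz⟩ := Alg6.mem_ass_iff.mp h
    obtain ⟨b, hb, hb0⟩ := Submodule.exists_mem_ne_zero_of_ne_bot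
      (fun hh => hF (isField_iff_maximalIdeal_eq.mpr hh))
    rcases mul_eq_zero.mp ((hz b).mp hb : b * z = 0) with h | h
    · exact hb0 h
    · exact (maximalIdeal.isMaximal A).ne_top ((Ideal.eq_top_iff_one _).mpr ((hz 1).mpr (by rw [h, smul_zero])))
  have heq : LocCoh.depth A A = 1 :=
    le_antisymm (ENat.lt_add_one_iff ENat.one_ne_top |>.mp (by rw [one_add_one_eq_two]; exact not_le.mp h2)) h1
  haveI := CDiv6.isDVR_of_depth_eq_one A heq
  rw [heq, IsPrincipalIdealRing.ringKrullDim_eq_one A hF]
  exact min_le_right _ _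

/-- A normal Noetherian local domain of dimension at most one is regular. -/
theorem regular_of_normal (A : Type u) [CommRing A] [IsNoetherianRing A] [IsLocalRing A] [IsDomain A]
    [IsIntegrallyClosed A] (h : ringKrullDim A ≤ 1) : IsRegularLocalRing A := by
  by_cases hF : IsField A
  · exact RegLoc6.isRegularLocalRing_of_isField hF
  have : ringKrullDim A = 1 := by
    refine le_antisymm h ?_
    have h0 : ringKrullDim A ≠ 0 := fun h0 => hF (by
      haveI : Ring.KrullDimLE 0 A := Ring.krullDimLE_iff.mpr h0.le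
      exact Ring.KrullDimLE.isField_of_isDomain)
    obtain ⟨d, hd⟩ := WithBot.ne_bot_iff_exists.mp (ringKrullDim_ne_bot (R := A))
    rw [← hd] at h0 ⊢
    exact WithBot.coe_le_coe.mpr (Order.one_le_iff_ne_zero.mpr fun hh => h0 (by rw [hh]; rfl))
  haveI := CDiv6.isDVR_of_dim_eq_one A this
  infer_instance

variable {R : Type u} [CommRing R] [IsNoetherianRing R]

theorem R1_S2_of_normal (h : ∀ (p : Ideal R) [p.IsPrime],
    IsDomain (Localization.AtPrime p) ∧ IsIntegrallyClosed (Localization.AtPrime p)) :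
    LocCoh.HasRk 1 R ∧ LocCoh.HasSk 2 R R := by
  refine ⟨fun p _ hp => ?_, (hasSk_self_iff 2).mpr fun p _ => ?_⟩
  · obtain ⟨_, _⟩ := h p
    refine regular_of_normal _ ?_
    rw [IsLocalization.AtPrime.ringKrullDim_eq_height p]
    exact_mod_cast hp
  · obtain ⟨_, _⟩ := h p
    have := depth_of_normal (Localization.AtPrime p)
    rw [IsLocalization.AtPrime.ringKrullDim_eq_height p,
      show (2 : WithBot ℕ∞) = ((2 : ℕ∞) : WithBot ℕ∞) from rfl, ← WithBot.coe_min, WithBot.coe_le_coe] at this
    exact this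

theorem normal_atPrime_of_R1_S2 (hR : LocCoh.HasRk 1 R) (hS : LocCoh.HasSk 2 R R) (p : Ideal R) [p.IsPrime] :
    IsDomain (Localization.AtPrime p) ∧ IsIntegrallyClosed (Localization.AtPrime p) := by
  refine normal_of_R1_S2 ?_ ?_
  · show LocCoh.HasRk 1 (Localization p.primeCompl)
    rw [Alg6.hasRk_localization_iff]
    exact fun q _ _ hq => hR q hq
  · have h : LocCoh.HasSk 2 (Localization p.primeCompl) (LocalizedModule p.primeCompl R) := by
      rw [Alg6.hasSk_localization_iff]
      exact fun q _ _ => hS q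
    refine fun Q _ => ?_
    have h' := h Q
    let e := LC.selfLoc (R := R) p.primeCompl
    let e' : LocalizedModule Q.primeCompl (LocalizedModule p.primeCompl R) ≃ₗ[Localization.AtPrime Q]
        LocalizedModule Q.primeCompl (Localization p.primeCompl) :=
      IsLocalizedModule.mapEquiv Q.primeCompl (LocalizedModule.mkLinearMap _ _) (LocalizedModule.mkLinearMap _ _)
        (Localization.AtPrime Q) e
    rwa [Module.supportDim_eq_of_equiv e', Hensel.depth_congr e'] at h'

end Groth.Agent.FlatLoc6

namespace Groth.Agent.FlatLoc6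

universe u

open IsLocalRing

variable {R : Type u} [CommRing R] [IsNoetherianRing R]

/-- Serre's criterion at a prime, tested on the primes below it. -/
theorem normal_atPrime_of_le (p : Ideal R) [p.IsPrime]
    (hR : ∀ (q : Ideal R) [q.IsPrime], q ≤ p → q.height ≤ 1 → IsRegularLocalRing (Localization.AtPrime q))
    (hS : ∀ (q : Ideal R) [q.IsPrime], q ≤ p →
      min (2 : ℕ∞) q.height ≤ LocCoh.depth (Localization.AtPrime q) (Localization.AtPrime q)) :
    IsDomain (Localization.AtPrime p) ∧ IsIntegrallyClosed (Localization.AtPrime p) := by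
  refine normal_of_R1_S2 ?_ ?_
  · show LocCoh.HasRk 1 (Localization p.primeCompl)
    rw [Alg6.hasRk_localization_iff]
    exact fun q _ hq hh => hR q ((Alg6.disjoint_primeCompl_iff p q).mp hq) hh
  · have h : LocCoh.HasSk 2 (Localization p.primeCompl) (LocalizedModule p.primeCompl R) := by
      rw [Alg6.hasSk_localization_iff]
      intro q _ hq
      rw [supportDim_self_atPrime, depth_self_atPrime, ← WithBot.coe_natCast, ← WithBot.coe_min, WithBot.coe_le_coe]
      exact hS q ((Alg6.disjoint_primeCompl_iff p q).mp hq)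
    refine fun Q _ => ?_
    have h' := h Q
    let e' : LocalizedModule Q.primeCompl (LocalizedModule p.primeCompl R) ≃ₗ[Localization.AtPrime Q]
        LocalizedModule Q.primeCompl (Localization p.primeCompl) :=
      IsLocalizedModule.mapEquiv Q.primeCompl (LocalizedModule.mkLinearMap _ _) (LocalizedModule.mkLinearMap _ _)
        (Localization.AtPrime Q) (LC.selfLoc (R := R) p.primeCompl)
    rwa [Module.supportDim_eq_of_equiv e', Hensel.depth_congr e'] at h'

/-- A normal local ring at a prime gives the two conditions below that prime. -/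
theorem conds_of_normal_atPrime (p : Ideal R) [p.IsPrime] [IsDomain (Localization.AtPrime p)]
    [IsIntegrallyClosed (Localization.AtPrime p)] (q : Ideal R) [q.IsPrime] (hqp : q ≤ p) :
    (q.height ≤ 1 → IsRegularLocalRing (Localization.AtPrime q)) ∧
      min (2 : ℕ∞) q.height ≤ LocCoh.depth (Localization.AtPrime q) (Localization.AtPrime q) := by
  have hd : Disjoint (p.primeCompl : Set R) (q : Set R) := (Alg6.disjoint_primeCompl_iff p q).mpr hqp
  haveI hQ := IsLocalization.isPrime_of_isPrime_disjoint p.primeCompl (Localization.AtPrime p) q ‹_› hd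
  set Q := q.map (algebraMap R (Localization.AtPrime p))
  have hQ0 : Q.primeCompl ≤ nonZeroDivisors (Localization.AtPrime p) := fun z hz =>
    mem_nonZeroDivisors_of_ne_zero fun h0 => hz (h0 ▸ Q.zero_mem)
  haveI : IsDomain (Localization.AtPrime Q) := IsLocalization.isDomain_localization hQ0
  haveI : IsIntegrallyClosed (Localization.AtPrime Q) :=
    isIntegrallyClosed_of_isLocalization (Localization.AtPrime Q) Q.primeCompl hQ0
  have hcomap : Q.comap (algebraMap R (Localization.AtPrime p)) = q :=
    IsLocalization.under_map_of_isPrime_disjoint p.primeCompl (Localization.AtPrime p) ‹_› hd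
  have key : ∀ (q' : Ideal R) [q'.IsPrime], Q.comap (algebraMap R (Localization.AtPrime p)) = q' →
      IsDomain (Localization.AtPrime q') ∧ IsIntegrallyClosed (Localization.AtPrime q') := by
    intro q' _ e
    subst e
    let ψ : Localization.AtPrime (Q.comap (algebraMap R (Localization.AtPrime p))) ≃+* Localization.AtPrime Q :=
      (IsLocalization.localizationLocalizationAtPrimeIsoLocalization p.primeCompl Q).toRingEquiv
    haveI : IsDomain (Localization.AtPrime (Q.comap (algebraMap R (Localization.AtPrime p)))) :=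
      ψ.toMulEquiv.isDomain
    exact ⟨inferInstance, .of_equiv ψ.symm⟩
  obtain ⟨_, _⟩ := key q hcomap
  refine ⟨fun h => regular_of_normal _ (by rw [IsLocalization.AtPrime.ringKrullDim_eq_height q]; exact_mod_cast h), ?_⟩
  have := depth_of_normal (Localization.AtPrime q)
  rw [IsLocalization.AtPrime.ringKrullDim_eq_height q,
    show (2 : WithBot ℕ∞) = ((2 : ℕ∞) : WithBot ℕ∞) from rfl, ← WithBot.coe_min, WithBot.coe_le_coe] at this
  exact this

end Groth.Agent.FlatLoc6
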