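import Groth.Agent.FlatLoc6.Sk
import Groth.Agent.FlatLoc6.SerreNormal

/-!
# Local rings of the fibre rings
-/

namespace Groth.Agent.FlatLoc6

universe u

open TensorProduct IsLocalRing

variable {A B : Type u} [CommRing A] [CommRing B] [Algebra A B]

theorem depth_congr' {R : Type u} [CommRing R] [IsLocalRing R] {M N : Type u} [AddCommGroup M] [Module R M]
    [AddCommGroup N] [Module R N] (e : M ≃ₗ[R] N) : LocCoh.depth R M = LocCoh.depth R N :=
  Alg6.depth_eq_of_semilinear (RingHom.id R) Function.surjective_id e.toAddEquiv fun r x => e.map_smul r x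

theorem isNoetherianRing_fiber [IsNoetherianRing B] (p : Ideal A) [p.IsPrime] : IsNoetherianRing (p.Fiber B) :=
  letI : Algebra B (p.Fiber B) := Algebra.TensorProduct.rightAlgebra
  haveI : IsNoetherianRing (Localization (Algebra.algebraMapSubmonoid B p.primeCompl)) :=
    IsLocalization.isNoetherianRing (Algebra.algebraMapSubmonoid B p.primeCompl) _ inferInstance
  isNoetherianRing_of_ringEquiv _ (Ideal.Fiber.algEquivQuotient (S := B) p).toRingEquiv.symm

/-- Every prime over `p` comes from a prime of the fibre ring. -/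
theorem exists_fiber_prime (p : Ideal A) [p.IsPrime] (q : Ideal B) [hq : q.IsPrime]
    (h : q.comap (algebraMap A B) = p) :
    ∃ Q : PrimeSpectrum (p.Fiber B), Q.asIdeal.comap Algebra.TensorProduct.includeRight = q := by
  refine ⟨PrimeSpectrum.primesOverOrderIsoFiber A B p ⟨q, hq, ⟨h.symm⟩⟩, ?_⟩
  rw [← PrimeSpectrum.coe_primesOverOrderIsoFiber_symm_apply, OrderIso.symm_apply_apply]

theorem comap_fiber_prime (p : Ideal A) [p.IsPrime] (Q : Ideal (p.Fiber B)) [Q.IsPrime] :
    (Q.comap Algebra.TensorProduct.includeRight).comap (algebraMap A B) = p := by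
  have : (Q.comap Algebra.TensorProduct.includeRight).comap (algebraMap A B) =
      Q.comap (algebraMap A (p.Fiber B)) := by
    ext a
    simp only [Ideal.mem_comap, AlgHom.commutes]
  rw [this]
  exact (Ideal.over_def Q p).symm

/-- The local ring of the fibre at a point is the local ring of the fibre ring. -/
theorem exists_fibLocEquiv (p : Ideal A) [p.IsPrime] (Q : Ideal (p.Fiber B)) [Q.IsPrime] :
    Nonempty (Localization.AtPrime Q ≃+*
      EGA4.FibLocRing A B (Q.comap Algebra.TensorProduct.includeRight)) := by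
  refine ⟨(Ideal.Fiber.algEquivAux₂ p Q).toRingEquiv.trans (Ideal.quotEquivOfEq ?_)⟩
  rw [Ideal.map_map, ← IsScalarTower.algebraMap_eq, comap_fiber_prime p Q]

theorem fibDim_self (q : Ideal B) [q.IsPrime] : fibDim A q B = ringKrullDim (EGA4.FibLocRing A B q) := by
  let J : Ideal (Localization.AtPrime q) := (q.comap (algebraMap A B)).map (algebraMap A (Localization.AtPrime q))
  have hJ : (J • ⊤ : Submodule (Localization.AtPrime q) (LocalizedModule q.primeCompl B)).map
      (LC.selfLoc q.primeCompl).toLinearMap = J := by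
    rw [Submodule.map_smul'', Submodule.map_top, LinearMap.range_eq_top.mpr (LC.selfLoc q.primeCompl).surjective,
      Ideal.smul_eq_mul, Ideal.mul_top]
  let e : EGA4.FibLocMod A B q B ≃ₗ[Localization.AtPrime q] EGA4.FibLocRing A B q :=
    Submodule.Quotient.equiv _ J (LC.selfLoc q.primeCompl) hJ
  exact ((Module.supportDim_eq_of_equiv e).trans (Alg6.supportDim_eq_of_semilinear (Ideal.Quotient.mk J)
    Ideal.Quotient.mk_surjective (AddEquiv.refl (EGA4.FibLocRing A B q)) fun r x => by
      obtain ⟨x, rfl⟩ := Ideal.Quotient.mk_surjective x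
      rfl)).trans (Module.supportDim_self_eq_ringKrullDim _)

theorem fibDepth_self (q : Ideal B) [q.IsPrime] [IsLocalRing (EGA4.FibLocRing A B q)] :
    fibDepth A q B = LocCoh.depth (EGA4.FibLocRing A B q) (EGA4.FibLocRing A B q) := by
  let J : Ideal (Localization.AtPrime q) := (q.comap (algebraMap A B)).map (algebraMap A (Localization.AtPrime q))
  have hJ : (J • ⊤ : Submodule (Localization.AtPrime q) (LocalizedModule q.primeCompl B)).map
      (LC.selfLoc q.primeCompl).toLinearMap = J := by
    rw [Submodule.map_smul'', Submodule.map_top, LinearMap.range_eq_top.mpr (LC.selfLoc q.primeCompl).surjective,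
      Ideal.smul_eq_mul, Ideal.mul_top]
  let e : EGA4.FibLocMod A B q B ≃ₗ[Localization.AtPrime q] EGA4.FibLocRing A B q :=
    Submodule.Quotient.equiv _ J (LC.selfLoc q.primeCompl) hJ
  exact (depth_congr' e).trans (Alg6.depth_eq_of_semilinear (Ideal.Quotient.mk J)
    Ideal.Quotient.mk_surjective (AddEquiv.refl (EGA4.FibLocRing A B q)) fun r x => by
      obtain ⟨x, rfl⟩ := Ideal.Quotient.mk_surjective x
      rfl)

/-- Depth and dimension of the fibre at a point, read on the fibre ring. -/
theorem fib_of_fiber_prime (p : Ideal A) [p.IsPrime] (Q : Ideal (p.Fiber B)) [Q.IsPrime] (q : Ideal B) [q.IsPrime]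
    (hq : Q.comap Algebra.TensorProduct.includeRight = q) :
    fibDim A q B = (Q.height : WithBot ℕ∞) ∧
      fibDepth A q B = LocCoh.depth (Localization.AtPrime Q) (Localization.AtPrime Q) := by
  subst hq
  haveI := isLocalRing_fibLocRing (A := A) (Q.comap Algebra.TensorProduct.includeRight)
  obtain ⟨e⟩ := exists_fibLocEquiv p Q
  refine ⟨?_, ?_⟩
  · rw [fibDim_self, ← ringKrullDim_eq_of_ringEquiv e]
    exact IsLocalization.AtPrime.ringKrullDim_eq_height Q (Localization.AtPrime Q)
  · rw [fibDepth_self]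
    exact (Alg6.depth_eq_of_semilinear e.toRingHom e.surjective e.toAddEquiv fun r x => e.map_mul r x).symm

/-- `(S_k)` of the fibre ring gives the fibre condition at each point over `p`. -/
theorem fib_le_of_fiber_hasSk (k : ℕ) (p : Ideal A) [p.IsPrime] (q : Ideal B) [q.IsPrime]
    (hq : q.comap (algebraMap A B) = p) (h : LocCoh.HasSk k (p.Fiber B) (p.Fiber B)) :
    min (k : WithBot ℕ∞) (fibDim A q B) ≤ ((fibDepth A q B : ℕ∞) : WithBot ℕ∞) := by
  obtain ⟨Q, hQ⟩ := exists_fiber_prime p q hq
  obtain ⟨h1, h2⟩ := fib_of_fiber_prime p Q.asIdeal q hQ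
  have := h Q.asIdeal
  rwa [supportDim_self_atPrime, depth_congr' (LC.selfLoc Q.asIdeal.primeCompl), ← h1, ← h2] at this

/-- The fibre conditions at the points over `p` give `(S_k)` of the fibre ring. -/
theorem fiber_hasSk_of_fib_le (k : ℕ) (p : Ideal A) [p.IsPrime]
    (h : ∀ (q : Ideal B) [q.IsPrime], q.comap (algebraMap A B) = p →
      min (k : WithBot ℕ∞) (fibDim A q B) ≤ ((fibDepth A q B : ℕ∞) : WithBot ℕ∞)) :
    LocCoh.HasSk k (p.Fiber B) (p.Fiber B) := by
  intro Q _
  obtain ⟨h1, h2⟩ := fib_of_fiber_prime p Q _ rfl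
  have := h _ (comap_fiber_prime p Q)
  rwa [supportDim_self_atPrime, depth_congr' (LC.selfLoc Q.primeCompl), ← h1, ← h2]

/-- The Cohen–Macaulay property of the fibre ring at each point over `p`. -/
theorem fib_eq_of_fiber_isCM (p : Ideal A) [p.IsPrime] (q : Ideal B) [q.IsPrime]
    (hq : q.comap (algebraMap A B) = p) [LocCoh.IsCohenMacaulayRing (p.Fiber B)] :
    fibDim A q B = ((fibDepth A q B : ℕ∞) : WithBot ℕ∞) := by
  obtain ⟨Q, hQ⟩ := exists_fiber_prime p q hq
  obtain ⟨h1, h2⟩ := fib_of_fiber_prime p Q.asIdeal q hQ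
  have := (LocCoh.IsCohenMacaulayRing.isCohenMacaulayLocalRing_localization (R := p.Fiber B) Q.asIdeal).supportDim_eq_depth
  rwa [Module.supportDim_self_eq_ringKrullDim, IsLocalization.AtPrime.ringKrullDim_eq_height Q.asIdeal, ← h1, ← h2] at this

/-- Cohen–Macaulayness of the fibre ring from the fibre conditions. -/
theorem fiber_isCM_of_fib_eq [IsNoetherianRing B] (p : Ideal A) [p.IsPrime]
    (h : ∀ (q : Ideal B) [q.IsPrime], q.comap (algebraMap A B) = p →
      fibDim A q B = ((fibDepth A q B : ℕ∞) : WithBot ℕ∞)) :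
    LocCoh.IsCohenMacaulayRing (p.Fiber B) := by
  haveI := isNoetherianRing_fiber (B := B) p
  refine ⟨fun Q _ => ?_⟩
  haveI : IsNoetherianRing (Localization.AtPrime Q) := IsLocalization.isNoetherianRing Q.primeCompl _ inferInstance
  refine ⟨?_⟩
  obtain ⟨h1, h2⟩ := fib_of_fiber_prime p Q _ rfl
  rw [Module.supportDim_self_eq_ringKrullDim, IsLocalization.AtPrime.ringKrullDim_eq_height Q, ← h1, ← h2]
  exact h _ (comap_fiber_prime p Q)

end Groth.Agent.FlatLoc6
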