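import Groth.Agent.FlatLoc6.NormalAscent
import Groth.Agent.FlatLoc6.FiberRing
import Groth.Agent.FlatLoc6.TensorField

/-!
# The local formulas for the rings themselves, and fibres of a tensor product over a field
-/

namespace Groth.Agent.FlatLoc6

universe u

open TensorProduct IsLocalRing

section Self

variable {A B : Type u} [CommRing A] [CommRing B] [IsNoetherianRing A] [IsNoetherianRing B] [Algebra A B]
  [Module.Flat A B]

theorem formulas_self (p : Ideal A) [p.IsPrime] (q : Ideal B) [q.IsPrime] (hp : q.comap (algebraMap A B) = p) :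
    LocCoh.depth (Localization.AtPrime q) (Localization.AtPrime q) =
        LocCoh.depth (Localization.AtPrime p) (Localization.AtPrime p) + fibDepth A q B ∧
      (q.height : WithBot ℕ∞) = (p.height : WithBot ℕ∞) + fibDim A q B := by
  have hB : (⟨q, ‹_›⟩ : PrimeSpectrum B) ∈ Module.support B B := by
    rw [Module.mem_support_iff]
    exact (LC.selfLoc q.primeCompl).toEquiv.nontrivial
  have hA : (⟨p, ‹_›⟩ : PrimeSpectrum A) ∈ Module.support A A := by
    rw [Module.mem_support_iff]
    exact (LC.selfLoc p.primeCompl).toEquiv.nontrivial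
  obtain ⟨h1, h2⟩ := formulas_atPrime B A p q hp hB hA
  let e : LocalizedModule q.primeCompl (B ⊗[A] A) ≃ₗ[Localization.AtPrime q] LocalizedModule q.primeCompl B :=
    IsLocalizedModule.mapEquiv q.primeCompl (LocalizedModule.mkLinearMap _ _) (LocalizedModule.mkLinearMap _ _)
      (Localization.AtPrime q) (AlgebraTensorModule.rid A B B)
  rw [Hensel.depth_congr e, depth_self_atPrime, depth_self_atPrime] at h1
  rw [Module.supportDim_eq_of_equiv e, supportDim_self_atPrime, supportDim_self_atPrime] at h2
  exact ⟨h1, h2⟩

/-- Below a prime of the top ring, a point over a given prime with zero-dimensional fibre. -/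
theorem exists_fib_zero_le (q' : Ideal B) [q'.IsPrime] (p : Ideal A) [p.IsPrime]
    (hle : p ≤ q'.comap (algebraMap A B)) :
    ∃ (P : Ideal B) (_ : P.IsPrime), P ≤ q' ∧ P.comap (algebraMap A B) = p ∧ fibDim A P B = 0 ∧ fibDepth A P B = 0 := by
  have hsupp : ∀ P : PrimeSpectrum B, P ∈ Module.support B B := fun P => by
    rw [Module.mem_support_iff]
    exact (LC.selfLoc P.asIdeal.primeCompl).toEquiv.nontrivial
  obtain ⟨P, hP, hPq, hPp, hmin⟩ := exists_minimal_over (A := A) B (hsupp ⟨q', ‹_›⟩) hle
  exact ⟨P.asIdeal, P.2, hPq, hPp, fib_zero_of_minimal B P.asIdeal hP hmin⟩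

end Self

theorem hasSk_of_ringEquiv {R S : Type u} [CommRing R] [CommRing S] [IsNoetherianRing R] (e : R ≃+* S) (n : ℕ)
    (h : LocCoh.HasSk n R R) : LocCoh.HasSk n S S := by
  haveI : IsNoetherianRing S := isNoetherianRing_of_ringEquiv R e
  rw [hasSk_self_iff] at h ⊢
  intro p _
  let P : Ideal R := p.comap (e : R →+* S)
  have hP : Submonoid.map (e.toRingHom : R →* S) P.primeCompl = p.primeCompl := by
    ext x
    constructor
    · rintro ⟨y, hy, rfl⟩
      exact hy
    · intro hx
      exact ⟨e.symm x, fun hm => hx (by simpa [P] using hm), e.apply_symm_apply x⟩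
  let f : Localization.AtPrime P ≃+* Localization.AtPrime p :=
    IsLocalization.ringEquivOfRingEquiv (M := P.primeCompl) (T := p.primeCompl) (Localization.AtPrime P)
      (Localization.AtPrime p) e hP
  have hh : p.height = P.height := by
    have := ringKrullDim_eq_of_ringEquiv f
    rw [IsLocalization.AtPrime.ringKrullDim_eq_height P (Localization.AtPrime P),
      IsLocalization.AtPrime.ringKrullDim_eq_height p (Localization.AtPrime p), WithBot.coe_inj] at this
    exact this.symm
  rw [hh, ← Alg6.depth_eq_of_semilinear f.toRingHom f.surjective f.toAddEquiv fun r x => f.map_mul r x]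
  exact h P

variable {k S T : Type u} [Field k] [CommRing S] [CommRing T] [Algebra k S] [Algebra k T]

/-- The fibres of `S → S ⊗ T` are the base changes of `T`. -/
theorem exists_fiberTensorEquiv (q : Ideal S) [q.IsPrime] :
    Nonempty (q.Fiber (S ⊗[k] T) ≃+* q.ResidueField ⊗[k] T) :=
  ⟨(Algebra.TensorProduct.cancelBaseChange k S q.ResidueField q.ResidueField T).toRingEquiv⟩

theorem essFiniteType_residueField [Algebra.FiniteType k S] (q : Ideal S) [q.IsPrime] :
    Algebra.EssFiniteType k q.ResidueField :=
  Algebra.EssFiniteType.comp k S q.ResidueField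

end Groth.Agent.FlatLoc6
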