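import Groth.Agent.LocalCrit.Completion
import Groth.Prelude.Def_EGA4b

/-!
# The completion of a Noetherian local ring
-/

namespace Groth.Agent.FlatLoc6

universe u

open IsLocalRing

variable (A : Type u) [CommRing A] [IsNoetherianRing A] [IsLocalRing A]

theorem isLocalRing_cpl : IsLocalRing (EGA4.Cpl A) :=
  AdicCompletion.isLocalRing_of_fg (IsNoetherian.noetherian (maximalIdeal A))

theorem isNoetherianRing_cpl : IsNoetherianRing (EGA4.Cpl A) :=
  LocalCrit.isNoetherianRing_completion (A := A) (C := A) (by rw [Algebra.algebraMap_self, Ideal.map_id])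

theorem faithfullyFlat_cpl : Module.FaithfullyFlat A (EGA4.Cpl A) := by
  have fg : (maximalIdeal A).FG := IsNoetherian.noetherian _
  haveI := isLocalRing_cpl A
  haveI : IsLocalHom (algebraMap A (EGA4.Cpl A)) :=
    ((local_hom_TFAE (algebraMap A (EGA4.Cpl A))).out 0 2).mpr
      (AdicCompletion.maximalIdeal_eq_map_of_fg fg).ge
  haveI : Module.Flat A (EGA4.Cpl A) := LocalCrit.flat_completion (A := A) (C := A) (by rw [Algebra.algebraMap_self, Ideal.map_id])
  exact Module.FaithfullyFlat.of_flat_of_isLocalHom

end Groth.Agent.FlatLoc6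

namespace Groth.Agent.FlatLoc6

universe v

open IsLocalRing TensorProduct

/-- Flatness over a ring in which `A` is dense follows from flatness over `A`. -/
theorem flat_of_dense {A R B : Type v} [CommRing A] [CommRing R] [CommRing B] [Algebra A R] [Algebra A B]
    [Algebra R B] [IsScalarTower A R B] [Module.Flat A B] [IsNoetherianRing R] [IsNoetherianRing B] (J : Ideal A)
    (hdense : ∀ (n : ℕ) (r : R), ∃ a, r - algebraMap A R a ∈ (J ^ n).map (algebraMap A R))
    (hJ : J.map (algebraMap A B) ≤ Ideal.jacobson ⊥) : Module.Flat R B := by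
  refine LocalCrit.flat_of_forall_quotient_pow (B := B) (J.map (algebraMap A R))
    (by rwa [Ideal.map_map, ← IsScalarTower.algebraMap_eq]) fun n => ?_
  intro N N' _ _ _ _ g hN hN' hg
  letI : Module A N := Module.compHom N (algebraMap A R)
  letI : Module A N' := Module.compHom N' (algebraMap A R)
  haveI : IsScalarTower A R N := IsScalarTower.of_algebraMap_smul fun _ _ => rfl
  haveI : IsScalarTower A R N' := IsScalarTower.of_algebraMap_smul fun _ _ => rfl
  have bal : ∀ {P : Type v} [AddCommGroup P] [Module R P] [Module A P] [IsScalarTower A R P],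
      Module.IsTorsionBySet R P ((J.map (algebraMap A R)) ^ n : Ideal R) →
      ∀ (r : R) (x : P) (b : B), (r • x) ⊗ₜ[A] b = x ⊗ₜ[A] (r • b) := by
    intro P _ _ _ _ hP r x b
    rw [← Ideal.map_pow] at hP
    have hkill : ∀ i ∈ (J ^ n).map (algebraMap A R), ∀ b : B, x ⊗ₜ[A] (i • b) = (0 : P ⊗[A] B) := by
      intro i hi
      change i ∈ Submodule.span R (algebraMap A R '' ((J ^ n : Ideal A) : Set A)) at hi
      induction hi using Submodule.span_induction with
      | mem y hy =>
        obtain ⟨j, hj, rfl⟩ := hy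
        intro b
        have hj0 : j • x = 0 := by
          rw [← IsScalarTower.algebraMap_smul R j x]
          exact @hP x ⟨_, Ideal.mem_map_of_mem _ hj⟩
        rw [algebraMap_smul, ← smul_tmul, hj0, zero_tmul]
      | zero => intro b; rw [zero_smul, tmul_zero]
      | add y z _ _ hy hz => intro b; rw [add_smul, tmul_add, hy, hz, add_zero]
      | smul c y _ hy => intro b; rw [smul_eq_mul, mul_comm, mul_smul]; exact hy _
    obtain ⟨a, ha⟩ := hdense n r
    have hix : (r - algebraMap A R a) • x = 0 := @hP x ⟨_, ha⟩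
    have hib := hkill _ ha b
    rw [sub_smul, tmul_sub, algebraMap_smul, sub_eq_zero] at hib
    rw [sub_smul, algebraMap_smul, sub_eq_zero] at hix
    rw [hix, hib, smul_tmul]
  let ψ : N ⊗[R] B →+ N ⊗[A] B := TensorProduct.liftAddHom
    { toFun := fun x => (TensorProduct.mk A N B x).toAddMonoidHom
      map_zero' := by ext; simp
      map_add' := fun a b => by ext; simp [add_tmul] }
    fun r x b => bal hN r x b
  let ψ' : N' ⊗[R] B →+ N' ⊗[A] B := TensorProduct.liftAddHom
    { toFun := fun x => (TensorProduct.mk A N' B x).toAddMonoidHom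
      map_zero' := by ext; simp
      map_add' := fun a b => by ext; simp [add_tmul] }
    fun r x b => bal hN' r x b
  let g₀ : N →ₗ[A] N' := g.restrictScalars A
  have hψ : ∀ z, ψ' (g.rTensor B z) = g₀.rTensor B (ψ z) := fun z => by
    induction z using TensorProduct.induction_on with
    | zero => simp
    | tmul x b => rfl
    | add a b ha hb => simp only [map_add, ha, hb]
  have hinj : Function.Injective ψ := by
    let φ₀ : N ⊗[A] B →+ N ⊗[R] B := TensorProduct.liftAddHom
      { toFun := fun x => (TensorProduct.mk R N B x).toAddMonoidHom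
        map_zero' := by ext; simp
        map_add' := fun a b => by ext; simp [add_tmul] }
      fun a x b => by
        show (a • x) ⊗ₜ[R] b = x ⊗ₜ[R] (a • b)
        rw [← IsScalarTower.algebraMap_smul R a x, ← IsScalarTower.algebraMap_smul R a b, smul_tmul]
    refine Function.LeftInverse.injective (g := φ₀) fun z => ?_
    induction z using TensorProduct.induction_on with
    | zero => simp
    | tmul x b => rfl
    | add a b ha hb => simp only [map_add, ha, hb]
  intro y z hyz
  have h := congrArg ψ' hyz
  rw [hψ, hψ] at h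
  exact hinj (Module.Flat.rTensor_preserves_injective_linearMap g₀ hg h)

/-- The map of completions along a local homomorphism, with its compatibility and flatness. -/
theorem exists_cplHom (A A' : Type v) [CommRing A] [CommRing A'] [IsNoetherianRing A] [IsNoetherianRing A']
    [IsLocalRing A] [IsLocalRing A'] [Algebra A A'] [IsLocalHom (algebraMap A A')] [Module.Flat A A'] :
    ∃ _ : Algebra (EGA4.Cpl A) (EGA4.Cpl A'), IsScalarTower A (EGA4.Cpl A) (EGA4.Cpl A') ∧
      Module.FaithfullyFlat (EGA4.Cpl A) (EGA4.Cpl A') := by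
  let I := maximalIdeal A
  let I' := maximalIdeal A'
  have fg : I.FG := IsNoetherian.noetherian _
  have fg' : I'.FG := IsNoetherian.noetherian _
  have h1 : ∀ n, I ^ n ≤ (I' ^ n).comap (algebraMap A A') := fun n => by
    rw [← Ideal.map_le_iff_le_comap, Ideal.map_pow]
    exact Ideal.pow_right_mono (((local_hom_TFAE (algebraMap A A')).out 0 2).mp (by infer_instance)) n
  let F : EGA4.Cpl A →+* EGA4.Cpl A' := AdicCompletion.liftRingHom I'
    (fun n => (Ideal.quotientMap (I' ^ n) (algebraMap A A') (h1 n)).comp (AdicCompletion.evalₐ I n).toRingHom)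
    (fun {m n} hle => by
      refine RingHom.ext fun x => ?_
      obtain ⟨g, rfl⟩ := AdicCompletion.mk_surjective I A x
      simp only [RingHom.comp_apply, AlgHom.toRingHom_eq_coe, RingHom.coe_coe, AdicCompletion.evalₐ_mk,
        Ideal.quotientMap_mk]
      show Ideal.Quotient.mk _ (algebraMap A A' (g n)) = Ideal.Quotient.mk _ (algebraMap A A' (g m))
      rw [Ideal.Quotient.eq, ← map_sub]
      refine h1 m ?_
      simpa using neg_mem (SModEq.sub_mem.1 (g.property hle)))
  letI : Algebra (EGA4.Cpl A) (EGA4.Cpl A') := F.toAlgebra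
  haveI : IsScalarTower A (EGA4.Cpl A) (EGA4.Cpl A') := IsScalarTower.of_algebraMap_eq fun a => by
    refine AdicCompletion.ext_evalₐ fun n => ?_
    rw [IsScalarTower.algebraMap_apply A A' (EGA4.Cpl A'), AlgHom.commutes]
    show _ = AdicCompletion.evalₐ I' n (F (algebraMap A (EGA4.Cpl A) a))
    rw [AdicCompletion.evalₐ_liftRingHom, RingHom.comp_apply, AlgHom.toRingHom_eq_coe, RingHom.coe_coe,
      AlgHom.commutes]
    rfl
  haveI := isLocalRing_cpl A
  haveI := isLocalRing_cpl A'
  haveI := isNoetherianRing_cpl A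
  haveI := isNoetherianRing_cpl A'
  haveI := faithfullyFlat_cpl A'
  haveI : Module.Flat A (EGA4.Cpl A') := Module.Flat.trans A A' (EGA4.Cpl A')
  have hle : I.map (algebraMap A (EGA4.Cpl A')) ≤ maximalIdeal (EGA4.Cpl A') := by
    rw [IsScalarTower.algebraMap_eq A A' (EGA4.Cpl A'), ← Ideal.map_map,
      AdicCompletion.maximalIdeal_eq_map_of_fg fg']
    exact Ideal.map_mono (((local_hom_TFAE (algebraMap A A')).out 0 2).mp (by infer_instance))
  haveI : Module.Flat (EGA4.Cpl A) (EGA4.Cpl A') := by
    refine flat_of_dense I (fun n r => ?_) (hle.trans (maximalIdeal_le_jacobson _))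
    obtain ⟨a, ha⟩ := Submodule.mkQ_surjective _ (AdicCompletion.eval I A n r)
    refine ⟨a, ?_⟩
    rw [← LocalCrit.smul_top_eq_map, AdicCompletion.pow_smul_top_eq_ker_eval fg, LinearMap.mem_ker, map_sub,
      ← ha, sub_eq_zero]
    exact (AdicCompletion.eval_of _ _ n a).symm
  haveI : IsLocalHom (algebraMap (EGA4.Cpl A) (EGA4.Cpl A')) := by
    refine ((local_hom_TFAE (algebraMap (EGA4.Cpl A) (EGA4.Cpl A'))).out 0 2).mpr ?_
    rw [AdicCompletion.maximalIdeal_eq_map_of_fg fg, Ideal.map_map, ← IsScalarTower.algebraMap_eq]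
    exact hle
  exact ⟨inferInstance, inferInstance, Module.FaithfullyFlat.of_flat_of_isLocalHom⟩

end Groth.Agent.FlatLoc6
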