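import Groth.Agent.FlatLoc6.FiberRing
import Mathlib.Algebra.Module.LocalizedModule.Submodule
import Mathlib.RingTheory.Support
import Mathlib.RingTheory.TensorProduct.Quotient

/-!
# Depth and dimension of the fibres of a composite
-/

namespace Groth.Agent.FlatLoc6

universe u

open TensorProduct IsLocalRing

section Loc

variable {A B : Type u} [CommRing A] [CommRing B] [Algebra A B]

/-- The fibre at a point is the localization of `B ⧸ pB`. -/
theorem exists_fibLocMod_equiv (p : Ideal A) [p.IsPrime] (q : Ideal B) [q.IsPrime]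
    (hq : q.comap (algebraMap A B) = p) (F : Type u) [AddCommGroup F] [Module B F] :
    Nonempty (LocalizedModule q.primeCompl (F ⧸ (p.map (algebraMap A B) • (⊤ : Submodule B F))) ≃ₗ[Localization.AtPrime q]
      EGA4.FibLocMod A B q F) :=
  ⟨(localizedQuotientEquiv _ _).symm ≪≫ₗ Submodule.quotEquivOfEq _ _ (by
    rw [Submodule.localized, Submodule.localized'_smul, Ideal.localized'_eq_map, Submodule.localized'_top,
      Ideal.map_map, ← IsScalarTower.algebraMap_eq, hq])⟩

theorem fib_eq_loc (p : Ideal A) [p.IsPrime] (q : Ideal B) [q.IsPrime] (hq : q.comap (algebraMap A B) = p) :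
    fibDim A q B = Module.supportDim (Localization.AtPrime q)
        (LocalizedModule q.primeCompl (B ⧸ p.map (algebraMap A B))) ∧
      fibDepth A q B = LocCoh.depth (Localization.AtPrime q)
        (LocalizedModule q.primeCompl (B ⧸ p.map (algebraMap A B))) := by
  obtain ⟨e⟩ := exists_fibLocMod_equiv p q hq B
  let e' : LocalizedModule q.primeCompl (B ⧸ (p.map (algebraMap A B) • (⊤ : Submodule B B))) ≃ₗ[Localization.AtPrime q]
      LocalizedModule q.primeCompl (B ⧸ p.map (algebraMap A B)) :=
    IsLocalizedModule.mapEquiv q.primeCompl (LocalizedModule.mkLinearMap _ _) (LocalizedModule.mkLinearMap _ _)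
      (Localization.AtPrime q) (Submodule.quotEquivOfEq _ _ (by rw [Ideal.smul_eq_mul, Ideal.mul_top]))
  exact ⟨Module.supportDim_eq_of_equiv (e.symm.trans e'), depth_congr' (e.symm.trans e')⟩

end Loc

variable {A B C : Type u} [CommRing A] [CommRing B] [CommRing C] [IsNoetherianRing B] [IsNoetherianRing C]
  [Algebra A B] [Algebra B C] [Algebra A C] [IsScalarTower A B C] [Module.Flat B C]

/-- Depth and dimension of the fibres add in a composite. -/
theorem fib_comp (q' : Ideal C) [q'.IsPrime] :
    fibDim A q' C = fibDim A (q'.comap (algebraMap B C)) B + fibDim B q' C ∧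
      fibDepth A q' C = fibDepth A (q'.comap (algebraMap B C)) B + fibDepth B q' C := by
  set q := q'.comap (algebraMap B C) with hqdef
  let p := q.comap (algebraMap A B)
  have hp' : q'.comap (algebraMap A C) = p := by
    rw [IsScalarTower.algebraMap_eq A B C, ← Ideal.comap_comap]
  obtain ⟨hb1, hb2⟩ := fib_eq_loc p q rfl
  obtain ⟨hc1, hc2⟩ := fib_eq_loc p q' hp'
  have hF : (⟨q', ‹_›⟩ : PrimeSpectrum C) ∈ Module.support C C := by
    rw [Module.mem_support_iff]
    exact (LC.selfLoc q'.primeCompl).toEquiv.nontrivial
  have hE : (⟨q, inferInstance⟩ : PrimeSpectrum B) ∈ Module.support B (B ⧸ p.map (algebraMap A B)) := by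
    rw [Module.mem_support_iff_of_finite, Ideal.annihilator_quotient]
    exact Ideal.map_comap_le
  obtain ⟨h1, h2⟩ := formulas_atPrime C (B ⧸ p.map (algebraMap A B)) q q' rfl hF hE
  let ψ : (C ⧸ p.map (algebraMap A C)) ≃ₗ[C] C ⊗[B] (B ⧸ p.map (algebraMap A B)) :=
    (Submodule.quotEquivOfEq _ _ (by rw [Ideal.map_map, ← IsScalarTower.algebraMap_eq])).trans
      (Algebra.TensorProduct.quotIdealMapEquivTensorQuot C (p.map (algebraMap A B))).toLinearEquiv
  let e : LocalizedModule q'.primeCompl (C ⧸ p.map (algebraMap A C)) ≃ₗ[Localization.AtPrime q']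
      LocalizedModule q'.primeCompl (C ⊗[B] (B ⧸ p.map (algebraMap A B))) :=
    IsLocalizedModule.mapEquiv q'.primeCompl (LocalizedModule.mkLinearMap _ _) (LocalizedModule.mkLinearMap _ _)
      (Localization.AtPrime q') ψ
  rw [← depth_congr' e, ← hc2, ← hb2] at h1
  rw [← Module.supportDim_eq_of_equiv e, ← hc1, ← hb1] at h2
  exact ⟨h2, h1⟩

/-- Over each point of the middle ring there is a point minimal in its fibre, where the fibre is zero-dimensional. -/
theorem exists_fib_zero [Module.FaithfullyFlat B C] (q : Ideal B) [q.IsPrime] :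
    ∃ (q' : Ideal C) (_ : q'.IsPrime), q'.comap (algebraMap B C) = q ∧ fibDim B q' C = 0 ∧ fibDepth B q' C = 0 := by
  obtain ⟨Q, hQ⟩ := PrimeSpectrum.comap_surjective_of_faithfullyFlat (A := B) (B := C) ⟨q, ‹_›⟩
  have hQ' : Q.asIdeal.comap (algebraMap B C) = q := congrArg PrimeSpectrum.asIdeal hQ
  have hsupp : ∀ P : PrimeSpectrum C, P ∈ Module.support C C := fun P => by
    rw [Module.mem_support_iff]
    exact (LC.selfLoc P.asIdeal.primeCompl).toEquiv.nontrivial
  obtain ⟨P, hP, _, hPq, hmin⟩ := exists_minimal_over (A := B) C (hsupp Q) hQ'.ge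
  exact ⟨P.asIdeal, P.2, hPq, fib_zero_of_minimal C P.asIdeal hP hmin⟩

end Groth.Agent.FlatLoc6

namespace Groth.Agent.FlatLoc6

universe v

open TensorProduct

/-- Flatness descends along a faithfully flat second map. -/
theorem flat_left_of_faithfullyFlat (A B C : Type v) [CommRing A] [CommRing B] [CommRing C] [Algebra A B]
    [Algebra B C] [Algebra A C] [IsScalarTower A B C] [Module.FaithfullyFlat B C] [Module.Flat A C] :
    Module.Flat A B := by
  refine Module.Flat.iff_lTensor_preserves_injective_linearMap.mpr fun X Y _ _ _ _ f hf => ?_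
  let g : B ⊗[A] X →ₗ[B] B ⊗[A] Y := AlgebraTensorModule.lTensor B B f
  have hg : Function.Injective g := by
    rw [← Module.FaithfullyFlat.lTensor_injective_iff_injective B C]
    have hnat : ∀ z, AlgebraTensorModule.cancelBaseChange A B C C Y (g.lTensor C z) =
        f.lTensor C (AlgebraTensorModule.cancelBaseChange A B C C X z) := fun z => by
      induction z using TensorProduct.induction_on with
      | zero => simp
      | tmul c w =>
        induction w using TensorProduct.induction_on with
        | zero => simp
        | tmul b x => simp [g]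
        | add a b ha hb => simp only [tmul_add, map_add, ha, hb]
      | add a b ha hb => simp only [map_add, ha, hb]
    intro a b hab
    have h := congrArg (AlgebraTensorModule.cancelBaseChange A B C C Y) hab
    rw [hnat, hnat] at h
    exact (AlgebraTensorModule.cancelBaseChange A B C C X).injective
      (Module.Flat.lTensor_preserves_injective_linearMap f hf h)
  exact hg

end Groth.Agent.FlatLoc6
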