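import Groth.Agent.FBaseLib.Reduced
import Groth.Agent.FlatLoc6.BaseChangeHom

/-!
# Geometrically reduced fibres
-/

namespace Groth.Agent.FlatLoc6

universe u

open TensorProduct

theorem isReduced_of_isNormalRing (R : Type u) [CommRing R] (h : EGA4.IsNormalRing R) : IsReduced R :=
  isReduced_ofLocalizationMaximal R fun P _ => haveI := (h P).1; inferInstance

/-- An algebra whose finite base changes are reduced is geometrically reduced. -/
theorem geomReduced_of_finite {k S : Type u} [Field k] [CommRing S] [Algebra k S]
    (h : ∀ (k' : Type u) [Field k'] [Algebra k k'], Module.Finite k k' → IsReduced (k' ⊗[k] S)) :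
    Algebra.IsGeometricallyReduced k S := by
  rw [Algebra.isGeometricallyReduced_field_iff]
  have : IsReduced (S ⊗[k] AlgebraicClosure k) := by
    refine IsReduced.tensorProduct_of_flat_of_forall_fg ?_
    intro D hD
    haveI : Algebra.FiniteType k D := (Subalgebra.fg_iff_finiteType D).mp hD
    haveI : Algebra.IsIntegral k D := Algebra.IsIntegral.of_injective D.val Subtype.val_injective
    haveI hfin : Module.Finite k D := Algebra.IsIntegral.finite
    let D' : Type u := D
    letI : Field D' := (isField_of_isIntegral_of_isField' (R := k) (S := D) (Field.toIsField k)).toField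
    haveI : IsReduced (D ⊗[k] S) := h D' hfin
    exact isReduced_of_injective (Algebra.TensorProduct.comm k S D) (Algebra.TensorProduct.comm k S D).injective
  exact isReduced_of_injective (Algebra.TensorProduct.comm k (AlgebraicClosure k) S)
    (Algebra.TensorProduct.comm k (AlgebraicClosure k) S).injective

theorem geomReduced_of_isGeomNormal {k S : Type u} [Field k] [CommRing S] [Algebra k S]
    (h : EGA4.IsGeomNormal k S) : Algebra.IsGeometricallyReduced k S :=
  geomReduced_of_finite fun k' _ _ hk => isReduced_of_isNormalRing _ (h k' hk)

theorem geomReduced_of_geometricallyRegular {k S : Type u} [Field k] [CommRing S] [Algebra k S]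
    (h : CAlg.IsGeometricallyRegular k S) : Algebra.IsGeometricallyReduced k S :=
  geomReduced_of_finite fun k' _ _ hk =>
    haveI := h k' hk
    isReduced_of_isNormalRing _ (isNormalRing_of_isRegularRing _)

variable {A : Type u} [CommRing A] (C : Type u) [CommRing C] [Algebra A C]

/-- Over a field, base change along geometrically reduced fibres is reduced. -/
theorem isReduced_baseChange_field
    (h : ∀ (p : Ideal A) [p.IsPrime], Algebra.IsGeometricallyReduced p.ResidueField (p.Fiber C))
    (L : Type u) [Field L] [Algebra A L] : IsReduced (L ⊗[A] C) := by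
  haveI : (RingHom.ker (algebraMap A L)).IsPrime := RingHom.ker_isPrime _
  obtain ⟨_, _⟩ := exists_residueAlgebra (L := L) (RingHom.ker (algebraMap A L)) rfl
  haveI := h (RingHom.ker (algebraMap A L))
  haveI := FBaseLib.isReduced_field_tensor (k := (RingHom.ker (algebraMap A L)).ResidueField)
    ((RingHom.ker (algebraMap A L)).Fiber C) L
  let e := Algebra.TensorProduct.cancelBaseChange A (RingHom.ker (algebraMap A L)).ResidueField L L C
  exact isReduced_of_injective e.symm e.symm.injective

theorem isReduced_baseChange_noetherian [Module.Flat A C]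
    (h : ∀ (p : Ideal A) [p.IsPrime], Algebra.IsGeometricallyReduced p.ResidueField (p.Fiber C))
    (D' : Type u) [CommRing D'] [Algebra A D'] [IsNoetherianRing D'] [IsReduced D'] : IsReduced (C ⊗[A] D') := by
  classical
  haveI : Fintype {P : Ideal D' // P ∈ minimalPrimes D'} :=
    (minimalPrimes.finite_of_isNoetherianRing D').fintype
  haveI : ∀ i : {P : Ideal D' // P ∈ minimalPrimes D'}, i.1.IsPrime := fun i => i.2.1.1
  let g : D' →ₗ[A] ∀ i : {P : Ideal D' // P ∈ minimalPrimes D'}, i.1.ResidueField :=
    LinearMap.pi fun i => (IsScalarTower.toAlgHom A D' i.1.ResidueField).toLinearMap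
  have hg : Function.Injective g := by
    rw [← LinearMap.ker_eq_bot, eq_bot_iff]
    intro a ha
    rw [LinearMap.mem_ker] at ha
    have hmem : a ∈ sInf ((⊥ : Ideal D').minimalPrimes) := by
      rw [Ideal.mem_sInf]
      intro I hI
      haveI : I.IsPrime := hI.1.1
      exact Ideal.algebraMap_residueField_eq_zero.mp (congrFun ha ⟨I, hI⟩)
    rw [Ideal.sInf_minimalPrimes] at hmem
    have hn : IsNilpotent a := hmem
    simp [hn.eq_zero]
  refine ⟨fun x hx => ?_⟩
  have h0 : ∀ i : {P : Ideal D' // P ∈ minimalPrimes D'},
      Algebra.TensorProduct.map (AlgHom.id A C) (IsScalarTower.toAlgHom A D' i.1.ResidueField) x = 0 := fun i => by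
    haveI := isReduced_baseChange_field C h i.1.ResidueField
    haveI : IsReduced (C ⊗[A] i.1.ResidueField) :=
      isReduced_of_injective (Algebra.TensorProduct.comm A C i.1.ResidueField)
        (Algebra.TensorProduct.comm A C i.1.ResidueField).injective
    exact (hx.map _).eq_zero
  have h1 : g.lTensor C x = 0 := by
    refine (LinearEquiv.map_eq_zero_iff (TensorProduct.piRight A A C
      (fun i : {P : Ideal D' // P ∈ minimalPrimes D'} => i.1.ResidueField))).mp ?_
    funext i
    show _ = (0 : C ⊗[A] i.1.ResidueField)
    rw [← h0 i]
    clear h0 hx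
    induction x using TensorProduct.induction_on with
    | zero => simp
    | tmul c d => simp [g]
    | add a b ha hb => simp only [map_add, Pi.add_apply, ha, hb]
  exact Module.Flat.lTensor_preserves_injective_linearMap (M := C) g hg (h1.trans (map_zero (g.lTensor C)).symm)

/-- Base change of a reduced ring along a flat map with geometrically reduced fibres is reduced. -/
theorem isReduced_baseChange [IsNoetherianRing A] [Module.Flat A C]
    (h : ∀ (p : Ideal A) [p.IsPrime], Algebra.IsGeometricallyReduced p.ResidueField (p.Fiber C))
    (R : Type u) [CommRing R] [Algebra A R] [IsReduced R] : IsReduced (C ⊗[A] R) := by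
  refine IsReduced.tensorProduct_of_flat_of_forall_fg fun D hD => ?_
  haveI : Algebra.FiniteType A D := (Subalgebra.fg_iff_finiteType D).mp hD
  haveI : IsNoetherianRing D := Algebra.FiniteType.isNoetherianRing A D
  haveI : IsReduced D := isReduced_of_injective D.val Subtype.val_injective
  exact isReduced_baseChange_noetherian C h D

end Groth.Agent.FlatLoc6
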