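import Groth.Agent.FlatLoc6.BaseChangeEss
import Groth.Agent.FlatLoc6.GeomRed
import Groth.Agent.FlatLoc6.Cpl
import Groth.Agent.FlatLoc6.FiberComp

/-!
# Composites and cancellation for regular, normal and reduced homomorphisms
-/

namespace Groth.Agent.FlatLoc6

universe u

open TensorProduct IsLocalRing

variable (A B C : Type u) [CommRing A] [CommRing B] [CommRing C] [Algebra A B] [Algebra B C] [Algebra A C]
  [IsScalarTower A B C]

/-- The base change of a composite is the iterated base change. -/
noncomputable def compEquiv (p : Ideal A) [p.IsPrime] (L : Type u) [Field L] [Algebra A L] [Algebra p.ResidueField L]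
    [IsScalarTower A p.ResidueField L] : (B ⊗[A] L) ⊗[B] C ≃+* L ⊗[p.ResidueField] p.Fiber C :=
  (((Algebra.TensorProduct.comm B (B ⊗[A] L) C).toRingEquiv.trans
    (Algebra.TensorProduct.cancelBaseChange A B C C L).toRingEquiv).trans
    (Algebra.TensorProduct.comm A C L).toRingEquiv).trans
    (Algebra.TensorProduct.cancelBaseChange A p.ResidueField L L C).symm.toRingEquiv

/-- The base change of the first map. -/
noncomputable def baseEquiv (p : Ideal A) [p.IsPrime] (L : Type u) [Field L] [Algebra A L] [Algebra p.ResidueField L]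
    [IsScalarTower A p.ResidueField L] : L ⊗[p.ResidueField] p.Fiber B ≃+* B ⊗[A] L :=
  (Algebra.TensorProduct.cancelBaseChange A p.ResidueField L L B).toRingEquiv.trans
    (Algebra.TensorProduct.comm A L B).toRingEquiv

/-- A property of the composite descends to the first map when the second is faithfully flat. -/
theorem Permanence.cancel {P : ∀ (R : Type u) [CommRing R], Prop} (hP : Permanence P) [Module.FaithfullyFlat B C]
    (p : Ideal A) [p.IsPrime] (L : Type u) [Field L] [Algebra p.ResidueField L]
    (h : P (L ⊗[p.ResidueField] p.Fiber C)) : P (L ⊗[p.ResidueField] p.Fiber B) := by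
  letI : Algebra A L := ((algebraMap p.ResidueField L).comp (algebraMap A p.ResidueField)).toAlgebra
  haveI : IsScalarTower A p.ResidueField L := IsScalarTower.of_algebraMap_eq' rfl
  have h1 : P ((B ⊗[A] L) ⊗[B] C) := hP.equiv (compEquiv A B C p L).symm h
  exact hP.equiv (baseEquiv A B p L).symm (hP.desc (B ⊗[A] L) ((B ⊗[A] L) ⊗[B] C) h1)

theorem isRegularHom_comp [IsNoetherianRing B] [IsNoetherianRing C] (hAB : CAlg.IsRegularHom A B)
    (hBC : CAlg.IsRegularHom B C) : CAlg.IsRegularHom A C := by
  haveI := hAB.1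
  haveI := hBC.1
  refine ⟨Module.Flat.trans A B C, fun p _ => ⟨isNoetherianRing_fiber p, fun L _ _ hL => ?_⟩⟩
  letI : Algebra A L := ((algebraMap p.ResidueField L).comp (algebraMap A p.ResidueField)).toAlgebra
  haveI : IsScalarTower A p.ResidueField L := IsScalarTower.of_algebraMap_eq' rfl
  haveI : Algebra.EssFiniteType A L := Algebra.EssFiniteType.comp A p.ResidueField L
  haveI : IsNoetherianRing (B ⊗[A] L) := Algebra.EssFiniteType.isNoetherianRing B _
  haveI := (hAB.2 p).2 L hL
  haveI : IsRegularRing (B ⊗[A] L) := IsRegularRing.of_ringEquiv (R := L ⊗[p.ResidueField] p.Fiber B) (baseEquiv A B p L)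
  haveI := isNoetherianRing_baseChange_ess B C (B ⊗[A] L)
  have h := isRegularHom_baseChange_ess B C (B ⊗[A] L) hBC
  haveI := h.1
  haveI := regular_of_flat_of_fibres (B ⊗[A] L) ((B ⊗[A] L) ⊗[B] C)
    fun r _ => isRegularRing_of_geometricallyRegular (h.2 r).2
  exact IsRegularRing.of_ringEquiv (R := (B ⊗[A] L) ⊗[B] C) (compEquiv A B C p L)

theorem isNormalHom_of_isRegularHom (h : CAlg.IsRegularHom A B) : EGA4.IsNormalHom A B :=
  ⟨h.1, fun p _ L _ _ hL => haveI := (h.2 p).2 L hL; isNormalRing_of_isRegularRing _⟩

theorem geomReduced_fibres_comp [IsNoetherianRing B] [Module.Flat B C]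
    (hAB : ∀ (p : Ideal A) [p.IsPrime], Algebra.IsGeometricallyReduced p.ResidueField (p.Fiber B))
    (hBC : ∀ (q : Ideal B) [q.IsPrime], Algebra.IsGeometricallyReduced q.ResidueField (q.Fiber C))
    (p : Ideal A) [p.IsPrime] : Algebra.IsGeometricallyReduced p.ResidueField (p.Fiber C) := by
  rw [Algebra.isGeometricallyReduced_field_iff]
  let L := AlgebraicClosure p.ResidueField
  haveI := hAB p
  haveI : IsReduced (L ⊗[p.ResidueField] p.Fiber B) :=
    (Algebra.isGeometricallyReduced_field_iff p.ResidueField (p.Fiber B)).mp inferInstance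
  haveI : IsReduced (B ⊗[A] L) :=
    isReduced_of_injective (baseEquiv A B p L).symm (baseEquiv A B p L).symm.injective
  haveI : IsReduced (C ⊗[B] (B ⊗[A] L)) := isReduced_baseChange C hBC (B ⊗[A] L)
  let e := (Algebra.TensorProduct.comm B (B ⊗[A] L) C).toRingEquiv
  haveI : IsReduced ((B ⊗[A] L) ⊗[B] C) := isReduced_of_injective e e.injective
  exact isReduced_of_injective (compEquiv A B C p L).symm (compEquiv A B C p L).symm.injective

theorem geomReduced_fibres_cancel [Module.FaithfullyFlat B C]
    (hAC : ∀ (p : Ideal A) [p.IsPrime], Algebra.IsGeometricallyReduced p.ResidueField (p.Fiber C))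
    (p : Ideal A) [p.IsPrime] : Algebra.IsGeometricallyReduced p.ResidueField (p.Fiber B) := by
  rw [Algebra.isGeometricallyReduced_field_iff]
  let L := AlgebraicClosure p.ResidueField
  haveI := hAC p
  haveI : IsReduced (L ⊗[p.ResidueField] p.Fiber C) :=
    (Algebra.isGeometricallyReduced_field_iff p.ResidueField (p.Fiber C)).mp inferInstance
  haveI : IsReduced ((B ⊗[A] L) ⊗[B] C) :=
    isReduced_of_injective (compEquiv A B C p L) (compEquiv A B C p L).injective
  haveI : IsReduced (B ⊗[A] L) := isReduced_of_injective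
    (algebraMap (B ⊗[A] L) ((B ⊗[A] L) ⊗[B] C)) (FaithfulSMul.algebraMap_injective _ _)
  exact isReduced_of_injective (baseEquiv A B p L) (baseEquiv A B p L).injective

end Groth.Agent.FlatLoc6
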