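import Groth.Agent.FlatLoc6.FiberRing
import Groth.Prelude.Def_EGA4b

/-!
# Normal fibre rings
-/

namespace Groth.Agent.FlatLoc6

universe u

open TensorProduct IsLocalRing

theorem isNormalRing_of_ringEquiv {R S : Type u} [CommRing R] [CommRing S] (e : R ≃+* S)
    (h : EGA4.IsNormalRing R) : EGA4.IsNormalRing S := by
  intro p _
  let P : Ideal R := p.comap (e : R →+* S)
  have hP : Submonoid.map (e.toRingHom : R →* S) P.primeCompl = p.primeCompl := by
    ext x
    constructor
    · rintro ⟨y, hy, rfl⟩
      exact hy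
    · intro hx
      exact ⟨e.symm x, fun hm => hx (by simpa [P] using hm), e.apply_symm_apply x⟩
  let f : Localization.AtPrime P ≃+* Localization.AtPrime p :=
    IsLocalization.ringEquivOfRingEquiv (M := P.primeCompl) (T := p.primeCompl) (Localization.AtPrime P)
      (Localization.AtPrime p) e hP
  obtain ⟨_, _⟩ := h P
  exact ⟨f.symm.toMulEquiv.isDomain, IsIntegrallyClosed.of_equiv f⟩

theorem isNormalRing_of_isGeomNormal {k S : Type u} [Field k] [CommRing S] [Algebra k S]
    (h : EGA4.IsGeomNormal k S) : EGA4.IsNormalRing S :=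
  isNormalRing_of_ringEquiv (Algebra.TensorProduct.lid k S).toRingEquiv (h k inferInstance)

variable {A B : Type u} [CommRing A] [CommRing B] [Algebra A B]

/-- A normal fibre ring has normal local rings at the points over `p`. -/
theorem fibLocRing_normal_of_fiber (p : Ideal A) [p.IsPrime] (q : Ideal B) [q.IsPrime]
    (hq : q.comap (algebraMap A B) = p) (h : EGA4.IsNormalRing (p.Fiber B)) :
    IsDomain (EGA4.FibLocRing A B q) ∧ IsIntegrallyClosed (EGA4.FibLocRing A B q) := by
  obtain ⟨Q, hQ⟩ := exists_fiber_prime p q hq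
  subst hQ
  obtain ⟨e⟩ := exists_fibLocEquiv p Q.asIdeal
  obtain ⟨_, _⟩ := h Q.asIdeal
  exact ⟨e.symm.toMulEquiv.isDomain, IsIntegrallyClosed.of_equiv (R := Localization.AtPrime Q.asIdeal) e⟩

end Groth.Agent.FlatLoc6
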