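import Groth.Agent.FlatLoc6.GeomProp
import Groth.Agent.FlatLoc6.FiberSelf

/-!
# Primes extended from the base, and primes of `K ⊗ T` defined over finitely generated subfields
-/

namespace Groth.Agent.FlatLoc6

universe u

open TensorProduct IsLocalRing

section Extended

variable {A B : Type u} [CommRing A] [CommRing B] [IsNoetherianRing A] [IsNoetherianRing B] [Algebra A B]
  [Module.Flat A B]

/-- At a prime extended from the base, height, depth and regularity are those of the base. -/
theorem extended_prime (q : Ideal B) [q.IsPrime]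
    (hq : (q.comap (algebraMap A B)).map (algebraMap A B) = q) :
    q.height = (q.comap (algebraMap A B)).height ∧
      LocCoh.depth (Localization.AtPrime q) (Localization.AtPrime q) =
        LocCoh.depth (Localization.AtPrime (q.comap (algebraMap A B))) (Localization.AtPrime (q.comap (algebraMap A B))) ∧
      (IsRegularLocalRing (Localization.AtPrime (q.comap (algebraMap A B))) →
        IsRegularLocalRing (Localization.AtPrime q)) := by
  have hB : (⟨q, ‹_›⟩ : PrimeSpectrum B) ∈ Module.support B B := by
    rw [Module.mem_support_iff]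
    exact (LC.selfLoc q.primeCompl).toEquiv.nontrivial
  obtain ⟨h0, h0'⟩ := fib_zero_of_minimal (A := A) B q hB fun P _ hle hp =>
    le_antisymm hle (hq.ge.trans ((Ideal.map_mono hp).trans Ideal.map_comap_le))
  obtain ⟨h1, h2⟩ := formulas_self (q.comap (algebraMap A B)) q rfl
  rw [h0, add_zero, WithBot.coe_inj] at h2
  rw [h0', add_zero] at h1
  refine ⟨h2, h1, fun hreg => ?_⟩
  set p := q.comap (algebraMap A B) with hp
  haveI : q.LiesOver p := ⟨rfl⟩
  haveI := hreg
  letI := Localization.AtPrime.algebraOfLiesOver p q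
  haveI := isLocalHom_atPrime p q
  haveI : IsNoetherianRing (Localization.AtPrime q) := IsLocalization.isNoetherianRing q.primeCompl _ inferInstance
  refine isRegularLocalRing_of_flat_fibre (A := Localization.AtPrime p) ?_
  have hmax : (maximalIdeal (Localization.AtPrime p)).map (algebraMap (Localization.AtPrime p) (Localization.AtPrime q)) =
      maximalIdeal (Localization.AtPrime q) := by
    rw [map_maximalIdeal_eq, IsScalarTower.algebraMap_eq A B (Localization.AtPrime q), ← Ideal.map_map, hq,
      Localization.AtPrime.map_eq_maximalIdeal]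
  letI := Ideal.Quotient.field (maximalIdeal (Localization.AtPrime q))
  exact IsRegularLocalRing.of_ringEquiv (Ideal.quotEquivOfEq hmax.symm)

end Extended

variable (k K T : Type u) [Field k] [Field K] [Algebra k K] [CommRing T] [Algebra k T]

/-- An element of `K ⊗ T` comes from a finitely generated subfield. -/
theorem exists_finset_defined (x : K ⊗[k] T) :
    ∃ s : Finset K, ∀ (K₀ : IntermediateField k K), (s : Set K) ⊆ K₀ →
      ∃ y : K₀ ⊗[k] T, Algebra.TensorProduct.map K₀.val (AlgHom.id k T) y = x := by
  classical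
  induction x using TensorProduct.induction_on with
  | zero => exact ⟨∅, fun K₀ _ => ⟨0, map_zero _⟩⟩
  | tmul a t => exact ⟨{a}, fun K₀ h => ⟨(⟨a, h (Finset.mem_singleton_self a)⟩ : K₀) ⊗ₜ[k] t, rfl⟩⟩
  | add x y hx hy =>
    obtain ⟨s, hs⟩ := hx
    obtain ⟨s', hs'⟩ := hy
    refine ⟨s ∪ s', fun K₀ h => ?_⟩
    rw [Finset.coe_union, Set.union_subset_iff] at h
    obtain ⟨a, ha⟩ := hs K₀ h.1
    obtain ⟨b, hb⟩ := hs' K₀ h.2
    exact ⟨a + b, by rw [map_add, ha, hb]⟩

/-- Comparison with a base change from a subfield. -/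
theorem exists_base_equiv (F : Type u) [Field F] [Algebra k F] [Algebra F K] [IsScalarTower k F K] :
    ∃ (R B : Type u) (_ : CommRing R) (_ : CommRing B) (_ : Algebra R B), Module.Flat R B ∧
      ∃ (r : (F ⊗[k] T) ≃+* R) (e : B ≃+* K ⊗[k] T),
        ∀ y, e (algebraMap R B (r y)) = Algebra.TensorProduct.map (IsScalarTower.toAlgHom k F K) (AlgHom.id k T) y := by
  let e : ((F ⊗[k] T) ⊗[F] K) ≃+* K ⊗[k] T := ((Algebra.TensorProduct.comm F (F ⊗[k] T) K).toRingEquiv.trans
    (Algebra.TensorProduct.cancelBaseChange k F K K T).toRingEquiv)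
  refine ⟨F ⊗[k] T, (F ⊗[k] T) ⊗[F] K, inferInstance, inferInstance, inferInstance, inferInstance,
    RingEquiv.refl _, e, fun y => ?_⟩
  rw [RingEquiv.refl_apply]
  induction y using TensorProduct.induction_on with
  | zero => rw [map_zero, map_zero, map_zero]
  | tmul a t =>
    show e ((a ⊗ₜ[k] t) ⊗ₜ[F] (1 : K)) = _
    simp [e, Algebra.smul_def]
  | add a b ha hb => rw [map_add, map_add, map_add, ha, hb]

variable [Algebra.EssFiniteType k T]

theorem isNoetherianRing_tensor_finiteType : IsNoetherianRing (K ⊗[k] T) :=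
  Algebra.EssFiniteType.isNoetherianRing K _

/-- Every prime of `K ⊗ T` is extended from `K₀ ⊗ T` for some finitely generated subfield `K₀`. -/
theorem exists_defined_prime (Q : Ideal (K ⊗[k] T)) [Q.IsPrime] :
    ∃ (R B : Type u) (_ : CommRing R) (_ : CommRing B) (_ : Algebra R B) (K₀ : IntermediateField k K),
      Module.Flat R B ∧ Algebra.EssFiniteType k K₀ ∧ Nonempty ((K₀ ⊗[k] T) ≃+* R) ∧
      ∃ e : B ≃+* K ⊗[k] T, ((Q.comap (e : B →+* K ⊗[k] T)).comap (algebraMap R B)).map (algebraMap R B) =
        Q.comap (e : B →+* K ⊗[k] T) := by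
  classical
  haveI := isNoetherianRing_tensor_finiteType k K T
  obtain ⟨S, hS⟩ := IsNoetherian.noetherian Q
  choose s hs using fun x : K ⊗[k] T => exists_finset_defined k K T x
  let K₀ := IntermediateField.adjoin k ((S.biUnion s : Finset K) : Set K)
  haveI : Algebra.EssFiniteType k K₀ := IntermediateField.essFiniteType_iff.mpr ⟨S.biUnion s, rfl⟩
  obtain ⟨R, B, _, _, _, hflat, r, e, he⟩ := exists_base_equiv k K T K₀
  refine ⟨R, B, inferInstance, inferInstance, inferInstance, K₀, hflat, inferInstance, ⟨r⟩, e, ?_⟩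
  refine le_antisymm Ideal.map_comap_le fun b hb => ?_
  have hQ : Q ≤ (((Q.comap (e : B →+* K ⊗[k] T)).comap (algebraMap R B)).map (algebraMap R B)).map
      (e : B →+* K ⊗[k] T) := by
    conv_lhs => rw [← hS]
    refine Submodule.span_le.mpr fun x hx => ?_
    obtain ⟨y, hy⟩ := hs x K₀ fun a ha => IntermediateField.subset_adjoin k _
      (Finset.mem_biUnion.mpr ⟨x, hx, ha⟩)
    have hy' : e (algebraMap R B (r y)) = x := (he y).trans hy
    rw [← hy']
    refine Ideal.mem_map_of_mem _ (Ideal.mem_map_of_mem _ ?_)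
    show e (algebraMap R B (r y)) ∈ Q
    rw [hy', ← hS]
    exact Submodule.subset_span hx
  obtain ⟨c, hc, hcb⟩ := (Ideal.mem_map_iff_of_surjective (e : B →+* K ⊗[k] T) e.surjective).mp (hQ hb)
  rwa [← e.injective hcb]

end Groth.Agent.FlatLoc6

namespace Groth.Agent.FlatLoc6

universe v

open TensorProduct IsLocalRing

/-- Local invariants along a ring equivalence. -/
theorem local_transfer {B C : Type v} [CommRing B] [CommRing C] (e : B ≃+* C) (Q : Ideal C) [Q.IsPrime] :
    Q.height = (Q.comap (e : B →+* C)).height ∧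
      LocCoh.depth (Localization.AtPrime Q) (Localization.AtPrime Q) =
        LocCoh.depth (Localization.AtPrime (Q.comap (e : B →+* C))) (Localization.AtPrime (Q.comap (e : B →+* C))) ∧
      (IsRegularLocalRing (Localization.AtPrime (Q.comap (e : B →+* C))) →
        IsRegularLocalRing (Localization.AtPrime Q)) := by
  let P : Ideal B := Q.comap (e : B →+* C)
  have hP : Submonoid.map (e.toRingHom : B →* C) P.primeCompl = Q.primeCompl := by
    ext x
    constructor
    · rintro ⟨y, hy, rfl⟩
      exact hy
    · intro hx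
      exact ⟨e.symm x, fun hm => hx (by simpa [P] using hm), e.apply_symm_apply x⟩
  let f : Localization.AtPrime P ≃+* Localization.AtPrime Q :=
    IsLocalization.ringEquivOfRingEquiv (M := P.primeCompl) (T := Q.primeCompl) (Localization.AtPrime P)
      (Localization.AtPrime Q) e hP
  refine ⟨?_, (Alg6.depth_eq_of_semilinear f.toRingHom f.surjective f.toAddEquiv fun r x => f.map_mul r x).symm,
    fun h => haveI := h; IsRegularLocalRing.of_ringEquiv f⟩
  have := ringKrullDim_eq_of_ringEquiv f
  rw [IsLocalization.AtPrime.ringKrullDim_eq_height P (Localization.AtPrime P),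
    IsLocalization.AtPrime.ringKrullDim_eq_height Q (Localization.AtPrime Q), WithBot.coe_inj] at this
  exact this.symm

variable (k K T : Type v) [Field k] [Field K] [Algebra k K] [CommRing T] [Algebra k T]

/-- A geometrically regular algebra of finite type, or any one under a finitely generated extension, stays regular. -/
theorem regular_tensor_arb (hft : Algebra.EssFiniteType k K ∨ Algebra.EssFiniteType k T)
    (h : CAlg.IsGeometricallyRegular k T) : IsRegularRing (K ⊗[k] T) := by
  rcases hft with hK | hT
  · exact regular_tensor_of_geometricallyRegular h K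
  haveI := isNoetherianRing_tensor_finiteType k K T
  rw [isRegularRing_iff]
  intro Q _
  obtain ⟨R, B, _, _, _, K₀, hflat, hess, ⟨r⟩, e, he⟩ := exists_defined_prime k K T Q
  haveI : IsRegularRing R := haveI := regular_tensor_of_geometricallyRegular h K₀; IsRegularRing.of_ringEquiv (R := K₀ ⊗[k] T) r
  haveI : IsNoetherianRing B := isNoetherianRing_of_ringEquiv _ e.symm
  exact (local_transfer e Q).2.2 ((extended_prime _ he).2.2 (IsRegularRing.isRegularLocalRing_localization _))

/-- A geometrically normal algebra of finite type, or any one under a finitely generated extension, stays normal. -/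
theorem normal_tensor_arb [IsNoetherianRing T] (hft : Algebra.EssFiniteType k K ∨ Algebra.EssFiniteType k T)
    (h : EGA4.IsGeomNormal k T) : IsNoetherianRing (K ⊗[k] T) ∧ EGA4.IsNormalRing (K ⊗[k] T) := by
  rcases hft with hK | hT
  · exact normal_tensor_of_isGeomNormal h K
  haveI := isNoetherianRing_tensor_finiteType k K T
  refine ⟨inferInstance, ?_⟩
  have key : ∀ (Q : Ideal (K ⊗[k] T)) [Q.IsPrime],
      (Q.height ≤ 1 → IsRegularLocalRing (Localization.AtPrime Q)) ∧
        min (2 : ℕ∞) Q.height ≤ LocCoh.depth (Localization.AtPrime Q) (Localization.AtPrime Q) := by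
    intro Q _
    obtain ⟨R, B, _, _, _, K₀, hflat, hess, ⟨r⟩, e, he⟩ := exists_defined_prime k K T Q
    obtain ⟨hn, hnor⟩ := normal_tensor_of_isGeomNormal h K₀
    haveI : IsNoetherianRing R := isNoetherianRing_of_ringEquiv (K₀ ⊗[k] T) r
    haveI : IsNoetherianRing B := isNoetherianRing_of_ringEquiv _ e.symm
    obtain ⟨_, _⟩ := isNormalRing_of_ringEquiv (R := K₀ ⊗[k] T) r hnor ((Q.comap (e : B →+* K ⊗[k] T)).comap (algebraMap R B))
    obtain ⟨g1, g2, g3⟩ := local_transfer e Q
    obtain ⟨f1, f2, f3⟩ := extended_prime _ he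
    obtain ⟨c1, c2⟩ := conds_of_normal_atPrime ((Q.comap (e : B →+* K ⊗[k] T)).comap (algebraMap R B)) _ le_rfl
    rw [g1, g2, f1, f2]
    exact ⟨fun hh => g3 (f3 (c1 hh)), c2⟩
  intro p _
  exact normal_atPrime_of_le p (fun q _ _ hh => (key q).1 hh) (fun q _ _ => (key q).2)

end Groth.Agent.FlatLoc6
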