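import Groth.Agent.FlatLoc6.Supp
import Groth.Agent.Alg6.RkLoc
import Mathlib.RingTheory.Flat.Localization
import Mathlib.RingTheory.Localization.BaseChange

/-!
# The formulas at a prime of the top ring
-/

namespace Groth.Agent.FlatLoc6

universe u

open TensorProduct

/-- Flatness is kept by a flat change of the top ring. -/
theorem flat_baseChange_left {A B C : Type u} [CommRing A] [CommRing B] [CommRing C] [Algebra A B] [Algebra B C]
    [Algebra A C] [IsScalarTower A B C] [Module.Flat B C]
    (F : Type u) [AddCommGroup F] [Module B F] [Module A F] [IsScalarTower A B F] [Module.Flat A F] :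
    Module.Flat A (C ⊗[B] F) := by
  refine Module.Flat.iff_lTensor_preserves_injective_linearMap.mpr fun X Y _ _ _ _ f hf => ?_
  let eX := AlgebraTensorModule.assoc A B C C F X
  let eY := AlgebraTensorModule.assoc A B C C F Y
  have h1 : Function.Injective ((tmap (B := B) F f).lTensor C) := by
    refine Module.Flat.lTensor_preserves_injective_linearMap _ ?_
    intro p q hpq
    rw [tmap_apply, tmap_apply] at hpq
    exact Module.Flat.lTensor_preserves_injective_linearMap f hf hpq
  have hnat : ∀ z, eY (f.lTensor (C ⊗[B] F) z) = (tmap (B := B) F f).lTensor C (eX z) := fun z => by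
    induction z using TensorProduct.induction_on with
    | zero => simp
    | tmul w x =>
      induction w using TensorProduct.induction_on with
      | zero => simp
      | tmul c n => simp [eX, eY, tmap]
      | add a b ha hb =>
        rw [LinearMap.lTensor_tmul] at ha hb ⊢
        rw [TensorProduct.add_tmul, TensorProduct.add_tmul, map_add, map_add, ha, hb, map_add]
    | add a b ha hb => simp only [map_add, ha, hb]
  intro p q hpq
  have := congrArg eY hpq
  rw [hnat, hnat] at this
  exact eX.injective (h1 this)

variable {A B : Type u} [CommRing A] [CommRing B] [Algebra A B]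
variable (F : Type u) [AddCommGroup F] [Module B F] [Module A F] [IsScalarTower A B F]
variable (E : Type u) [AddCommGroup E] [Module A E]

section AtPrime

variable (p : Ideal A) [p.IsPrime] (q : Ideal B) [q.IsPrime] [q.LiesOver p]
variable [Algebra (Localization.AtPrime p) (Localization.AtPrime q)] [Localization.AtPrime.IsLiesOverAlgebra p q]

theorem isLocalHom_atPrime :
    IsLocalHom (algebraMap (Localization.AtPrime p) (Localization.AtPrime q)) := by
  rw [Localization.AtPrime.IsLiesOverAlgebra.algebraMap_eq]
  exact Localization.isLocalHom_localRingHom p q (algebraMap A B) Ideal.LiesOver.over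

theorem map_maximalIdeal_eq :
    (IsLocalRing.maximalIdeal (Localization.AtPrime p)).map
        (algebraMap (Localization.AtPrime p) (Localization.AtPrime q)) =
      p.map (algebraMap A (Localization.AtPrime q)) := by
  rw [← Localization.AtPrime.map_eq_maximalIdeal, Ideal.map_map, ← IsScalarTower.algebraMap_eq]

theorem flat_atPrime [Module.Flat A F] :
    Module.Flat (Localization.AtPrime p) (Localization.AtPrime q ⊗[B] F) :=
  (Module.flat_iff_of_isLocalization (Localization.AtPrime p) p.primeCompl _).mpr (flat_baseChange_left F)

/-- The localization of a tensor product. -/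
theorem exists_tensorLoc :
    Nonempty (LocalizedModule q.primeCompl (F ⊗[A] E) ≃ₗ[Localization.AtPrime q]
      (Localization.AtPrime q ⊗[B] F) ⊗[Localization.AtPrime p] (Localization.AtPrime p ⊗[A] E)) :=
  ⟨(LocalizedModule.equivTensorProduct q.primeCompl (F ⊗[A] E)).trans
    ((AlgebraTensorModule.assoc A B (Localization.AtPrime q) (Localization.AtPrime q) F E).symm.trans
      (AlgebraTensorModule.cancelBaseChange A (Localization.AtPrime p) (Localization.AtPrime q)
        (Localization.AtPrime q ⊗[B] F) E).symm)⟩

end AtPrime

section Formulas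

variable [IsNoetherianRing A] [IsNoetherianRing B]
variable [Module.Finite B F] [Module.Flat A F] [Module.Finite A E]

omit [IsNoetherianRing A] [IsNoetherianRing B] [Module.Finite B F] [Module.Flat A F] [Module.Finite A E]
  [Module A F] [IsScalarTower A B F] in
theorem fibLocRing_nontrivial (q : Ideal B) [q.IsPrime] : Nontrivial (EGA4.FibLocRing A B q) := by
  refine Ideal.Quotient.nontrivial_iff.mpr fun h => ?_
  have hle : (q.comap (algebraMap A B)).map (algebraMap A (Localization.AtPrime q)) ≤
      IsLocalRing.maximalIdeal (Localization.AtPrime q) := by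
    rw [Ideal.map_le_iff_le_comap]
    intro a ha
    show algebraMap A (Localization.AtPrime q) a ∈ IsLocalRing.maximalIdeal _
    rw [IsScalarTower.algebraMap_apply A B (Localization.AtPrime q),
      IsLocalization.AtPrime.to_map_mem_maximal_iff (Localization.AtPrime q) q]
    exact ha
  exact (IsLocalRing.maximalIdeal.isMaximal _).ne_top (top_le_iff.mp (h ▸ hle))

omit [IsNoetherianRing A] [IsNoetherianRing B] [Module.Finite B F] [Module.Flat A F] [Module.Finite A E]
  [Module A F] [IsScalarTower A B F] in
theorem isLocalRing_fibLocRing (q : Ideal B) [q.IsPrime] : IsLocalRing (EGA4.FibLocRing A B q) :=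
  haveI := fibLocRing_nontrivial (A := A) q
  IsLocalRing.of_surjective' _ Ideal.Quotient.mk_surjective

/-- Depth and dimension of the fibre of `F` at `q`, computed over the local ring of the top ring. -/
noncomputable def fibDepth (A : Type u) {B : Type u} [CommRing A] [CommRing B] [Algebra A B] (q : Ideal B)
    [q.IsPrime] (F : Type u) [AddCommGroup F] [Module B F] : ℕ∞ :=
  LocCoh.depth (Localization.AtPrime q) (EGA4.FibLocMod A B q F)

/-- The dimension of the fibre of `F` at `q`. -/
noncomputable def fibDim (A : Type u) {B : Type u} [CommRing A] [CommRing B] [Algebra A B] (q : Ideal B)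
    [q.IsPrime] (F : Type u) [AddCommGroup F] [Module B F] : WithBot ℕ∞ :=
  Module.supportDim (Localization.AtPrime q) (EGA4.FibLocMod A B q F)

omit [IsNoetherianRing A] [IsNoetherianRing B] [Module.Finite B F] [Module.Flat A F] [Module.Finite A E]
  [Module A F] [IsScalarTower A B F] in
theorem fibDepth_eq (q : Ideal B) [q.IsPrime] [IsLocalRing (EGA4.FibLocRing A B q)] :
    LocCoh.depth (EGA4.FibLocRing A B q) (EGA4.FibLocMod A B q F) = fibDepth A q F :=
  (Alg6.depth_eq_of_semilinear (Ideal.Quotient.mk _) Ideal.Quotient.mk_surjective
    (AddEquiv.refl (EGA4.FibLocMod A B q F)) fun r x => by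
      obtain ⟨x, rfl⟩ := Submodule.Quotient.mk_surjective _ x
      rfl).symm

omit [IsNoetherianRing A] [IsNoetherianRing B] [Module.Finite B F] [Module.Flat A F] [Module.Finite A E]
  [Module A F] [IsScalarTower A B F] in
theorem fibDim_eq (q : Ideal B) [q.IsPrime] :
    Module.supportDim (EGA4.FibLocRing A B q) (EGA4.FibLocMod A B q F) = fibDim A q F :=
  (Alg6.supportDim_eq_of_semilinear (Ideal.Quotient.mk _) Ideal.Quotient.mk_surjective
    (AddEquiv.refl (EGA4.FibLocMod A B q F)) fun r x => by
      obtain ⟨x, rfl⟩ := Submodule.Quotient.mk_surjective _ x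
      rfl).symm

/-- Both formulas at a prime. -/
theorem formulas_atPrime (p : Ideal A) [p.IsPrime] (q : Ideal B) [q.IsPrime]
    (hp : q.comap (algebraMap A B) = p)
    (hF : (⟨q, ‹_›⟩ : PrimeSpectrum B) ∈ Module.support B F)
    (hE : (⟨p, ‹_›⟩ : PrimeSpectrum A) ∈ Module.support A E) :
    LocCoh.depth (Localization.AtPrime q) (LocalizedModule q.primeCompl (F ⊗[A] E)) =
        LocCoh.depth (Localization.AtPrime p) (LocalizedModule p.primeCompl E) + fibDepth A q F ∧
      Module.supportDim (Localization.AtPrime q) (LocalizedModule q.primeCompl (F ⊗[A] E)) =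
        Module.supportDim (Localization.AtPrime p) (LocalizedModule p.primeCompl E) + fibDim A q F := by
  haveI : q.LiesOver p := ⟨hp.symm⟩
  letI := Localization.AtPrime.algebraOfLiesOver p q
  haveI := isLocalHom_atPrime p q
  haveI := flat_atPrime F p q
  let Fq := Localization.AtPrime q ⊗[B] F
  let Ep := Localization.AtPrime p ⊗[A] E
  haveI : Nontrivial Fq :=
    haveI := Module.mem_support_iff.mp hF
    (LocalizedModule.equivTensorProduct q.primeCompl F).symm.toEquiv.nontrivial
  haveI : Nontrivial Ep :=
    haveI := Module.mem_support_iff.mp hE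
    (LocalizedModule.equivTensorProduct p.primeCompl E).symm.toEquiv.nontrivial
  haveI : IsNoetherianRing (Localization.AtPrime q) := IsLocalization.isNoetherianRing q.primeCompl _ inferInstance
  haveI : IsNoetherianRing (Localization.AtPrime p) := IsLocalization.isNoetherianRing p.primeCompl _ inferInstance
  obtain ⟨e⟩ := exists_tensorLoc F E p q
  let J : Ideal (Localization.AtPrime q) := (q.comap (algebraMap A B)).map (algebraMap A (Localization.AtPrime q))
  let eF := LocalizedModule.equivTensorProduct q.primeCompl F
  have hJ : (J • ⊤ : Submodule (Localization.AtPrime q) (LocalizedModule q.primeCompl F)).map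
      eF.toLinearMap = mN (Localization.AtPrime p) (Localization.AtPrime q) Fq := by
    rw [Submodule.map_smul'', Submodule.map_top, LinearMap.range_eq_top.mpr eF.surjective]
    show J • (⊤ : Submodule _ Fq) = _
    rw [mN, map_maximalIdeal_eq]
    simp only [J, hp]
  let efib : EGA4.FibLocMod A B q F ≃ₗ[Localization.AtPrime q]
      (Fq ⧸ mN (Localization.AtPrime p) (Localization.AtPrime q) Fq) := Submodule.Quotient.equiv _ _ eF hJ
  constructor
  · rw [Hensel.depth_congr (N := Fq ⊗[Localization.AtPrime p] Ep) (by exact e), depth_tensor (A := Localization.AtPrime p), depth_fibMod,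
      Hensel.depth_congr (LocalizedModule.equivTensorProduct p.primeCompl E),
      fibDepth, Hensel.depth_congr efib]
  · rw [Module.supportDim_eq_of_equiv (N := Fq ⊗[Localization.AtPrime p] Ep) (by exact e), supportDim_tensor (A := Localization.AtPrime p),
      Module.supportDim_eq_of_equiv (LocalizedModule.equivTensorProduct p.primeCompl E),
      fibDim, Module.supportDim_eq_of_equiv efib]

/-- At a point of the support minimal over its image the fibre is zero-dimensional. -/
theorem fib_zero_of_minimal (q : Ideal B) [q.IsPrime]
    (hF : (⟨q, ‹_›⟩ : PrimeSpectrum B) ∈ Module.support B F)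
    (hmin : ∀ P ∈ Module.support B F, P.asIdeal ≤ q →
      q.comap (algebraMap A B) ≤ P.asIdeal.comap (algebraMap A B) → P.asIdeal = q) :
    fibDim A q F = 0 ∧ fibDepth A q F = 0 := by
  haveI : IsNoetherianRing (Localization.AtPrime q) := IsLocalization.isNoetherianRing q.primeCompl _ inferInstance
  let J : Ideal (Localization.AtPrime q) := (q.comap (algebraMap A B)).map (algebraMap A (Localization.AtPrime q))
  have hJ : J ≤ IsLocalRing.maximalIdeal (Localization.AtPrime q) := by
    have := fibLocRing_nontrivial (A := A) q
    exact IsLocalRing.le_maximalIdeal (Ideal.Quotient.nontrivial_iff.mp this)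
  haveI : Nontrivial (LocalizedModule q.primeCompl F) := Module.mem_support_iff.mp hF
  haveI : Nontrivial (EGA4.FibLocMod A B q F) := Submodule.Quotient.nontrivial_iff.mpr fun h =>
    Alg6.maximal_smul_top_ne_top (R := Localization.AtPrime q) (M := LocalizedModule q.primeCompl F)
      (eq_top_iff.mpr (h.ge.trans (Submodule.smul_mono_left hJ)))
  have hsub : ∀ x ∈ Module.support (Localization.AtPrime q) (EGA4.FibLocMod A B q F),
      x.asIdeal = IsLocalRing.maximalIdeal (Localization.AtPrime q) := by
    intro x hx
    have hx' := hx
    rw [Module.support_quotient] at hx'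
    obtain ⟨h1, h2⟩ := hx'
    rw [(LocalizedModule.equivTensorProduct q.primeCompl F).support_eq] at h1
    have h3 := ((mem_support_tensor_iff (A := B) (B := Localization.AtPrime q) (N := Localization.AtPrime q) (M := F) x).mp h1).2
    have hxle : x.asIdeal.comap (algebraMap B (Localization.AtPrime q)) ≤ q := by
      intro b hb
      by_contra hbq
      exact x.2.ne_top (Ideal.eq_top_of_isUnit_mem _ hb (IsLocalization.map_units _ (⟨b, hbq⟩ : q.primeCompl)))
    have heq := hmin _ h3 hxle (by
      intro a ha
      show algebraMap B (Localization.AtPrime q) (algebraMap A B a) ∈ x.asIdeal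
      rw [← IsScalarTower.algebraMap_apply]
      exact h2 (Ideal.mem_map_of_mem _ ha))
    refine le_antisymm (IsLocalRing.le_maximalIdeal x.2.ne_top) ?_
    rw [← Localization.AtPrime.map_eq_maximalIdeal, Ideal.map_le_iff_le_comap]
    exact heq.ge
  have h0 : fibDim A q F = 0 := by
    haveI : Subsingleton (Module.support (Localization.AtPrime q) (EGA4.FibLocMod A B q F)) :=
      ⟨fun x y => Subtype.ext (PrimeSpectrum.ext ((hsub _ x.2).trans (hsub _ y.2).symm))⟩
    haveI : Nonempty (Module.support (Localization.AtPrime q) (EGA4.FibLocMod A B q F)) :=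
      (Module.nonempty_support_of_nontrivial).to_subtype
    rw [fibDim, Module.supportDim]
    exact Order.krullDim_eq_zero
  refine ⟨h0, ?_⟩
  have := LC.depth_le_supportDim (R := Localization.AtPrime q) (EGA4.FibLocMod A B q F)
  rw [show Module.supportDim (Localization.AtPrime q) (EGA4.FibLocMod A B q F) = 0 from h0] at this
  exact le_antisymm (by exact_mod_cast this) bot_le

end Formulas

end Groth.Agent.FlatLoc6
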