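import Groth.Agent.LocalCrit.Flatness
import Mathlib.RingTheory.Regular.IsSMulRegular
import Mathlib.RingTheory.Flat.FaithfullyFlat.Algebra
import Mathlib.Tactic

/-!
# Elements regular on the closed fibre of a flat module
-/

namespace Groth.Agent.FlatLoc6

universe u

open IsLocalRing TensorProduct

variable {A B : Type u} [CommRing A] [CommRing B] [Algebra A B]
variable {N : Type u} [AddCommGroup N] [Module B N] [Module A N] [IsScalarTower A B N]
variable {M M' : Type u} [AddCommGroup M] [Module A M] [AddCommGroup M'] [Module A M']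

theorem lTensor_smul (f : M →ₗ[A] M') (b : B) (x : N ⊗[A] M) :
    f.lTensor N (b • x) = b • f.lTensor N x := by
  induction x using TensorProduct.induction_on with
  | zero => simp
  | tmul n m => simp [TensorProduct.smul_tmul']
  | add x y hx hy => rw [smul_add, map_add, map_add, smul_add, hx, hy]

/-- Base change of an `A`-linear map along a `B`-module. -/
noncomputable def tmap (N : Type u) [AddCommGroup N] [Module B N] [Module A N] [IsScalarTower A B N]
    (f : M →ₗ[A] M') : N ⊗[A] M →ₗ[B] N ⊗[A] M' :=
  AlgebraTensorModule.map LinearMap.id f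

theorem tmap_apply (f : M →ₗ[A] M') (x : N ⊗[A] M) : tmap (B := B) N f x = f.lTensor N x := by
  induction x using TensorProduct.induction_on with
  | zero => simp
  | tmul n m => simp [tmap]
  | add x y hx hy => rw [map_add, map_add, hx, hy]

variable [IsLocalRing A]

/-- The submodule `m N` for the base local ring. -/
noncomputable abbrev mN (A B N : Type u) [CommRing A] [IsLocalRing A] [CommRing B] [Algebra A B]
    [AddCommGroup N] [Module B N] : Submodule B N :=
  (maximalIdeal A).map (algebraMap A B) • ⊤

theorem smul_mem_mN {r : A} (hr : r ∈ maximalIdeal A) (n : N) : r • n ∈ mN A B N := by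
  rw [← algebraMap_smul B r n]
  exact Submodule.smul_mem_smul (Ideal.mem_map_of_mem _ hr) Submodule.mem_top

theorem mem_mN_iff_restrict {n : N} : n ∈ mN A B N ↔ n ∈ (maximalIdeal A • ⊤ : Submodule A N) := by
  rw [← Submodule.restrictScalars_top A B N, ← Ideal.smul_restrictScalars]
  rfl

theorem exists_of_mem_mN {n : N} (hn : n ∈ mN A B N) :
    ∃ z : ↥(maximalIdeal A) ⊗[A] N, TensorProduct.lid A N ((maximalIdeal A).subtype.rTensor N z) = n := by
  rw [mem_mN_iff_restrict] at hn
  induction hn using Submodule.smul_induction_on' with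
  | smul a ha x _ => exact ⟨(⟨a, ha⟩ : maximalIdeal A) ⊗ₜ x, by simp⟩
  | add x _ y _ hx hy =>
    obtain ⟨p, rfl⟩ := hx; obtain ⟨q, rfl⟩ := hy
    exact ⟨p + q, by rw [map_add, map_add]⟩

theorem lid_rTensor_mem_mN (z : ↥(maximalIdeal A) ⊗[A] N) :
    TensorProduct.lid A N ((maximalIdeal A).subtype.rTensor N z) ∈ mN A B N := by
  induction z using TensorProduct.induction_on with
  | zero => simp
  | tmul a x => simpa using smul_mem_mN (B := B) a.2 x
  | add p q hp hq => rw [map_add, map_add]; exact add_mem hp hq

theorem exists_tmul_one (x : N ⊗[A] ResidueField A) : ∃ n : N, n ⊗ₜ[A] (1 : ResidueField A) = x := by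
  induction x using TensorProduct.induction_on with
  | zero => exact ⟨0, TensorProduct.zero_tmul _ _⟩
  | tmul n c =>
    obtain ⟨c, rfl⟩ := IsLocalRing.residue_surjective c
    refine ⟨c • n, ?_⟩
    rw [TensorProduct.smul_tmul, Algebra.smul_def, mul_one]
    rfl
  | add p q hp hq =>
    obtain ⟨a, rfl⟩ := hp; obtain ⟨b, rfl⟩ := hq
    exact ⟨a + b, TensorProduct.add_tmul a b _⟩

theorem tmul_one_eq_zero_iff (n : N) :
    n ⊗ₜ[A] (1 : ResidueField A) = 0 ↔ n ∈ mN A B N := by
  rw [mem_mN_iff_restrict, ← Submodule.Quotient.mk_eq_zero (maximalIdeal A • ⊤ : Submodule A N)]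
  have e := TensorProduct.tensorQuotEquivQuotSMul_tmul_mk (maximalIdeal A) n (1 : A)
  rw [one_smul] at e
  exact (TensorProduct.tensorQuotEquivQuotSMul N (maximalIdeal A)).map_eq_zero_iff.symm.trans
    (Iff.of_eq (congrArg (· = 0) e))

/-- Regularity on the closed fibre, as a condition on elements. -/
def RegFib (A : Type u) {B : Type u} (N : Type u) [CommRing A] [IsLocalRing A] [CommRing B] [Algebra A B]
    [AddCommGroup N] [Module B N] (y : B) : Prop :=
  ∀ n : N, y • n ∈ mN A B N → n ∈ mN A B N

variable {y : B}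

theorem regFib_iff : RegFib A N y ↔ IsSMulRegular (N ⧸ mN A B N) y := by
  rw [isSMulRegular_iff_right_eq_zero_of_smul]
  constructor
  · intro h q hq
    obtain ⟨n, rfl⟩ := Submodule.Quotient.mk_surjective _ q
    rw [← Submodule.Quotient.mk_smul, Submodule.Quotient.mk_eq_zero] at hq
    rw [Submodule.Quotient.mk_eq_zero]
    exact h n hq
  · intro h n hn
    rw [← Submodule.Quotient.mk_eq_zero (mN A B N)] at hn ⊢
    exact h _ (by rwa [← Submodule.Quotient.mk_smul])

theorem regular_residue (hy : RegFib A N y) : IsSMulRegular (N ⊗[A] ResidueField A) y := by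
  rw [isSMulRegular_iff_right_eq_zero_of_smul]
  intro x hx
  obtain ⟨n, rfl⟩ := exists_tmul_one x
  rw [TensorProduct.smul_tmul', tmul_one_eq_zero_iff (B := B)] at hx
  exact (tmul_one_eq_zero_iff (B := B) n).mpr (hy n hx)

theorem regular_of_torsion (hy : RegFib A N y) (X : Type u) [AddCommGroup X] [Module A X]
    (hX : Module.IsTorsionBySet A X (maximalIdeal A : Set A)) : IsSMulRegular (N ⊗[A] X) y := by
  classical
  letI : Module (ResidueField A) X := hX.module
  haveI : IsScalarTower A (ResidueField A) X := hX.isScalarTower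
  let e : X ≃ₗ[A] (Module.Free.ChooseBasisIndex (ResidueField A) X →₀ ResidueField A) :=
    ((Module.Free.chooseBasis (ResidueField A) X).repr).restrictScalars A
  let E : N ⊗[A] X ≃ₗ[B] (Module.Free.ChooseBasisIndex (ResidueField A) X →₀ N ⊗[A] ResidueField A) :=
    (AlgebraTensorModule.congr (LinearEquiv.refl B N) e).trans
      (TensorProduct.finsuppRight A B N (ResidueField A) _)
  rw [isSMulRegular_iff_right_eq_zero_of_smul]
  intro x hx
  refine E.injective (Finsupp.ext fun i => ?_)
  have h1 := congrArg (fun z => E z i) hx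
  simp only [map_smul, map_zero, Finsupp.smul_apply, Finsupp.zero_apply] at h1
  rw [map_zero, Finsupp.zero_apply]
  exact (isSMulRegular_iff_right_eq_zero_of_smul.mp (regular_residue hy)) _ h1

variable [Module.Flat A N]

theorem regular_of_pow_torsion (hy : RegFib A N y) : ∀ (j : ℕ) (X : Type u) [AddCommGroup X] [Module A X],
    (∀ a ∈ maximalIdeal A ^ j, ∀ x : X, a • x = 0) → IsSMulRegular (N ⊗[A] X) y := by
  intro j
  induction j with
  | zero =>
    intro X _ _ hX
    haveI : Subsingleton X := ⟨fun p q => by
      rw [← one_smul A p, ← one_smul A q, hX 1 (by simp) p, hX 1 (by simp) q]⟩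
    haveI : Subsingleton (N ⊗[A] X) := inferInstance
    exact fun p q _ => Subsingleton.elim p q
  | succ j ih =>
    intro X _ _ hX
    let X' : Submodule A X := maximalIdeal A • ⊤
    have hX' : ∀ a ∈ maximalIdeal A ^ j, ∀ x : X', a • x = 0 := by
      intro a ha x
      refine Subtype.ext ?_
      show a • (x : X) = 0
      obtain ⟨x, hx⟩ := x
      induction hx using Submodule.smul_induction_on' with
      | smul b hb z _ =>
        rw [← mul_smul]
        exact hX _ (by rw [pow_succ]; exact Ideal.mul_mem_mul ha hb) z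
      | add p _ q _ hp hq => rw [smul_add, hp, hq, add_zero]
    have hQ : Module.IsTorsionBySet A (X ⧸ X') (maximalIdeal A : Set A) := by
      rintro q ⟨a, ha⟩
      obtain ⟨x, rfl⟩ := X'.mkQ_surjective q
      rw [← map_smul, Submodule.mkQ_apply, Submodule.Quotient.mk_eq_zero]
      exact Submodule.smul_mem_smul ha Submodule.mem_top
    rw [isSMulRegular_iff_right_eq_zero_of_smul]
    intro z hz
    have h1 : X'.mkQ.lTensor N z = 0 :=
      (isSMulRegular_iff_right_eq_zero_of_smul.mp (regular_of_torsion hy _ hQ)) _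
        (by rw [← lTensor_smul, hz, map_zero])
    obtain ⟨w, rfl⟩ := (lTensor_exact N (LinearMap.exact_subtype_mkQ X') X'.mkQ_surjective z).mp h1
    rw [← lTensor_smul] at hz
    rw [(isSMulRegular_iff_right_eq_zero_of_smul.mp (ih X' hX')) w
      (Module.Flat.lTensor_preserves_injective_linearMap X'.subtype X'.injective_subtype (by rwa [map_zero])),
      map_zero]

variable [IsLocalRing B] [IsLocalHom (algebraMap A B)] [IsNoetherianRing B] [Module.Finite B N]

/-- An element regular on the closed fibre is regular on every `N ⊗ M`. -/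
theorem regular_tensor (hy : RegFib A N y) (M : Type u) [AddCommGroup M] [Module A M] [Module.Finite A M] :
    IsSMulRegular (N ⊗[A] M) y := by
  rw [isSMulRegular_iff_right_eq_zero_of_smul]
  intro z hz
  haveI : Module.Finite B (N ⊗[A] M) := LocalCrit.finite_tensor (C := B) N M
  refine LocalCrit.eq_zero_of_forall_mem_smul ((maximalIdeal A).map (algebraMap A B))
    ((IsLocalRing.map_maximalIdeal_le (algebraMap A B)).trans (maximalIdeal_le_jacobson ⊥)) fun j => ?_
  let S : Submodule A M := maximalIdeal A ^ j • ⊤
  have h1 : S.mkQ.lTensor N z = 0 :=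
    (isSMulRegular_iff_right_eq_zero_of_smul.mp (regular_of_pow_torsion hy j (M ⧸ S) fun a ha q => by
      obtain ⟨x, rfl⟩ := S.mkQ_surjective q
      rw [← map_smul, Submodule.mkQ_apply, Submodule.Quotient.mk_eq_zero]
      exact Submodule.smul_mem_smul ha Submodule.mem_top)) _ (by rw [← lTensor_smul, hz, map_zero])
  obtain ⟨w, rfl⟩ := (lTensor_exact N (LinearMap.exact_subtype_mkQ S) S.mkQ_surjective z).mp h1
  clear h1 hz
  induction w using TensorProduct.induction_on with
  | zero => simp
  | tmul n s =>
    obtain ⟨s, hs⟩ := s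
    show n ⊗ₜ[A] s ∈ _
    induction hs using Submodule.smul_induction_on' with
    | smul a ha x _ =>
      rw [TensorProduct.tmul_smul]
      exact LocalCrit.smul_mem_smul_top_of_mem _ ha _
    | add p _ q _ hp hq => rw [TensorProduct.tmul_add]; exact add_mem hp hq
  | add p q hp hq => rw [map_add]; exact add_mem hp hq

theorem regular_self [IsNoetherianRing A] (hy : RegFib A N y) : IsSMulRegular N y := by
  rw [isSMulRegular_iff_right_eq_zero_of_smul]
  intro n hn
  have h := (isSMulRegular_iff_right_eq_zero_of_smul.mp (regular_tensor hy A)) (n ⊗ₜ[A] (1 : A))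
    (by rw [TensorProduct.smul_tmul', hn, TensorProduct.zero_tmul])
  simpa using congrArg (TensorProduct.rid A N) h

/-- Dividing by an element regular on the closed fibre keeps flatness. -/
theorem flat_of_cokernel [IsNoetherianRing A] (hy : RegFib A N y) (Q : Type u) [AddCommGroup Q]
    [Module B Q] [Module A Q] [IsScalarTower A B Q] (q : N →ₗ[B] Q) (hq : Function.Surjective q)
    (hker : ∀ n, q n = 0 ↔ ∃ k, y • k = n) : Module.Flat A Q := by
  set m := maximalIdeal A
  let π : N →ₗ[A] Q := q.restrictScalars A
  let μ : N →ₗ[A] N := (LinearMap.lsmul B N y).restrictScalars A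
  have hπ : Function.Surjective π := hq
  haveI : Module.Finite B Q := Module.Finite.of_surjective _ hq
  have hv : Function.Injective (m.subtype.rTensor N) :=
    Module.Flat.rTensor_preserves_injective_linearMap _ m.injective_subtype
  refine LocalCrit.flat_of_le_jacobson (B := B) m
    ((IsLocalRing.map_maximalIdeal_le (algebraMap A B)).trans (maximalIdeal_le_jacobson ⊥)) ?_
    (LocalCrit.keepsInjective_of_isMaximal m _)
  rw [injective_iff_map_eq_zero]
  intro x hx
  obtain ⟨x, rfl⟩ := LinearMap.lTensor_surjective (↥m) hπ x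
  set n := TensorProduct.lid A N (m.subtype.rTensor N x) with hn
  have hnat : ∀ x : ↥m ⊗[A] N, TensorProduct.lid A Q
      (m.subtype.rTensor _ (π.lTensor _ x)) = π (TensorProduct.lid A N (m.subtype.rTensor N x)) := by
    intro x
    induction x using TensorProduct.induction_on with
    | zero => simp
    | tmul a b => simp
    | add p q hp hq => simp only [map_add, hp, hq]
  have hnat' : ∀ x : ↥m ⊗[A] N, TensorProduct.lid A N
      (m.subtype.rTensor _ (μ.lTensor _ x)) = μ (TensorProduct.lid A N (m.subtype.rTensor N x)) := by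
    intro x
    induction x using TensorProduct.induction_on with
    | zero => simp
    | tmul a b => simp
    | add p q hp hq => simp only [map_add, hp, hq]
  have h0 : π n = 0 := by rw [hn, ← hnat, hx, map_zero]
  obtain ⟨k, hk⟩ := (hker n).mp h0
  obtain ⟨z, rfl⟩ := exists_of_mem_mN (B := B) (hy k (by rw [hk, hn]; exact lid_rTensor_mem_mN x))
  have hxz : x = μ.lTensor _ z := hv ((TensorProduct.lid A N).injective (by rw [hnat', ← hn]; exact hk.symm))
  have hπμ : π ∘ₗ μ = 0 := LinearMap.ext fun w =>
    (hker _).mpr ⟨w, rfl⟩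
  rw [hxz, ← LinearMap.comp_apply, ← LinearMap.lTensor_comp, hπμ, LinearMap.lTensor_zero, LinearMap.zero_apply]

theorem flat_quotSMulTop [IsNoetherianRing A] (hy : RegFib A N y) : Module.Flat A (QuotSMulTop y N) :=
  flat_of_cokernel hy (QuotSMulTop y N) (Submodule.mkQ _) (Submodule.mkQ_surjective _) fun n => by
    rw [Submodule.mkQ_apply, Submodule.Quotient.mk_eq_zero, Submodule.mem_smul_pointwise_iff_exists]
    exact ⟨fun ⟨k, _, hk⟩ => ⟨k, hk⟩, fun ⟨k, hk⟩ => ⟨k, Submodule.mem_top, hk⟩⟩

end Groth.Agent.FlatLoc6
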