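import Groth.Agent.FlatLoc6.BaseChangeHom

/-!
# Normality and regularity of a base change along a map essentially of finite type
-/

namespace Groth.Agent.FlatLoc6

universe u

open TensorProduct IsLocalRing

variable (A B A' : Type u) [CommRing A] [CommRing B] [CommRing A'] [Algebra A B] [Algebra A A']
  [IsNoetherianRing B] [IsNoetherianRing A'] [Algebra.EssFiniteType A A']

theorem isNoetherianRing_baseChange_ess : IsNoetherianRing (A' ⊗[A] B) := by
  haveI : IsNoetherianRing (B ⊗[A] A') := Algebra.EssFiniteType.isNoetherianRing B _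
  exact isNoetherianRing_of_ringEquiv _ (Algebra.TensorProduct.comm A B A').toRingEquiv

theorem essFiniteType_ext (p' : Ideal A') [p'.IsPrime] (L : Type u) [Field L] [Algebra p'.ResidueField L]
    [Module.Finite p'.ResidueField L] [Algebra A L] [IsScalarTower A p'.ResidueField L] (p : Ideal A) [p.IsPrime]
    [Algebra p.ResidueField L] [IsScalarTower A p.ResidueField L] : Algebra.EssFiniteType p.ResidueField L := by
  haveI : Algebra.EssFiniteType A p'.ResidueField := Algebra.EssFiniteType.comp A A' _
  haveI : Algebra.EssFiniteType A L := Algebra.EssFiniteType.comp A p'.ResidueField L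
  exact Algebra.EssFiniteType.of_comp A p.ResidueField L

theorem isNormalHom_baseChange_ess (h : EGA4.IsNormalHom A B) : EGA4.IsNormalHom A' (A' ⊗[A] B) := by
  haveI := h.1
  refine ⟨inferInstance, fun p' _ L _ _ hL => ?_⟩
  obtain ⟨_, _, _, _⟩ := exists_instances A A' p' L
  obtain ⟨e⟩ := fiber_baseChange_equiv A B A' p' L (p'.comap (algebraMap A A'))
  haveI := isNoetherianRing_fiber (B := B) (p'.comap (algebraMap A A'))
  haveI := essFiniteType_ext A A' p' L (p'.comap (algebraMap A A'))
  exact isNormalRing_of_ringEquiv
    (R := L ⊗[(p'.comap (algebraMap A A')).ResidueField] (p'.comap (algebraMap A A')).Fiber B) e.symm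
    (normal_tensor_of_isGeomNormal (h.2 _) L).2

theorem isRegularHom_baseChange_ess (h : CAlg.IsRegularHom A B) : CAlg.IsRegularHom A' (A' ⊗[A] B) := by
  haveI := h.1
  haveI := isNoetherianRing_baseChange_ess A B A'
  refine ⟨inferInstance, fun p' _ => ⟨isNoetherianRing_fiber p', fun L _ _ hL => ?_⟩⟩
  obtain ⟨_, _, _, _⟩ := exists_instances A A' p' L
  obtain ⟨e⟩ := fiber_baseChange_equiv A B A' p' L (p'.comap (algebraMap A A'))
  haveI := essFiniteType_ext A A' p' L (p'.comap (algebraMap A A'))
  haveI := regular_tensor_of_geometricallyRegular (h.2 (p'.comap (algebraMap A A'))).2 L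
  exact IsRegularRing.of_ringEquiv
    (R := L ⊗[(p'.comap (algebraMap A A')).ResidueField] (p'.comap (algebraMap A A')).Fiber B) e.symm

/-- A normal homomorphism preserves normality of the base. -/
theorem normal_of_isNormalHom (R S : Type u) [CommRing R] [CommRing S] [IsNoetherianRing R] [IsNoetherianRing S]
    [Algebra R S] (h : EGA4.IsNormalHom R S) (hR : EGA4.IsNormalRing R) : EGA4.IsNormalRing S :=
  haveI := h.1
  normal_of_flat_of_fibres R S hR fun p _ => isNormalRing_of_isGeomNormal (h.2 p)

end Groth.Agent.FlatLoc6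

namespace Groth.Agent.FlatLoc6

universe v

open TensorProduct IsLocalRing

/-- Regularity ascends along flat maps with regular fibres. -/
theorem regular_of_flat_of_fibres (R S : Type v) [CommRing R] [CommRing S] [IsNoetherianRing S]
    [Algebra R S] [Module.Flat R S] [IsRegularRing R]
    (hfib : ∀ (p : Ideal R) [p.IsPrime], IsRegularRing (p.Fiber S)) : IsRegularRing S := by
  rw [isRegularRing_iff]
  intro q _
  set p := q.comap (algebraMap R S) with hp
  haveI : q.LiesOver p := ⟨rfl⟩
  letI := Localization.AtPrime.algebraOfLiesOver p q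
  haveI := isLocalHom_atPrime p q
  haveI : IsNoetherianRing (Localization.AtPrime q) := IsLocalization.isNoetherianRing q.primeCompl _ inferInstance
  haveI : IsRegularLocalRing (Localization.AtPrime p) := IsRegularRing.isRegularLocalRing_localization p
  refine isRegularLocalRing_of_flat_fibre (A := Localization.AtPrime p) ?_
  obtain ⟨Q, hQ⟩ := exists_fiber_prime p q rfl
  have key : ∀ (q' : Ideal S) [q'.IsPrime],
      Q.asIdeal.comap Algebra.TensorProduct.includeRight = q' → IsRegularLocalRing (EGA4.FibLocRing R S q') := by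
    intro q' _ h
    subst h
    obtain ⟨e⟩ := exists_fibLocEquiv p Q.asIdeal
    haveI := hfib p
    exact IsRegularLocalRing.of_ringEquiv (R := Localization.AtPrime Q.asIdeal) e
  haveI := key q hQ
  exact IsRegularLocalRing.of_ringEquiv (R := EGA4.FibLocRing R S q)
    (Ideal.quotEquivOfEq (map_maximalIdeal_eq (A := R) (B := S) p q).symm)

theorem isNoetherianRing_of_tensor_left (k' S T : Type v) [Field k'] [CommRing S] [CommRing T] [Algebra k' S]
    [Algebra k' T] [IsNoetherianRing S] (q : Ideal S) [q.IsPrime] [IsNoetherianRing (S ⊗[k'] T)] :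
    IsNoetherianRing (q.ResidueField ⊗[k'] T) := by
  obtain ⟨e⟩ := exists_fiberTensorEquiv (k := k') (S := S) (T := T) q
  haveI := isNoetherianRing_fiber (B := S ⊗[k'] T) q
  exact isNoetherianRing_of_ringEquiv _ e

theorem residueField_or (k S T : Type v) [Field k] [CommRing S] [CommRing T] [Algebra k S] [Algebra k T]
    (hft : Algebra.FiniteType k S ∨ Algebra.FiniteType k T) (q : Ideal S) [q.IsPrime] :
    Algebra.EssFiniteType k q.ResidueField ∨ Algebra.EssFiniteType k T := by
  rcases hft with h | h
  · exact Or.inl (essFiniteType_residueField q)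
  · exact Or.inr inferInstance

theorem regularRing_tensor (k S T : Type v) [Field k] [CommRing S] [CommRing T] [Algebra k S] [Algebra k T]
    (hft : Algebra.FiniteType k S ∨ Algebra.FiniteType k T) [IsNoetherianRing (S ⊗[k] T)]
    [IsRegularRing S] (hT : CAlg.IsGeometricallyRegular k T) : IsRegularRing (S ⊗[k] T) := by
  refine regular_of_flat_of_fibres S (S ⊗[k] T) fun q _ => ?_
  obtain ⟨e⟩ := exists_fiberTensorEquiv (k := k) (S := S) (T := T) q
  haveI := regular_tensor_arb k q.ResidueField T (residueField_or k S T hft q) hT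
  exact IsRegularRing.of_ringEquiv (R := q.ResidueField ⊗[k] T) e.symm

theorem normalRing_tensor (k S T : Type v) [Field k] [CommRing S] [CommRing T] [Algebra k S] [Algebra k T]
    [IsNoetherianRing S] [IsNoetherianRing T]
    (hft : Algebra.FiniteType k S ∨ Algebra.FiniteType k T) [IsNoetherianRing (S ⊗[k] T)]
    (hS : EGA4.IsNormalRing S) (hT : EGA4.IsGeomNormal k T) : EGA4.IsNormalRing (S ⊗[k] T) := by
  refine normal_of_flat_of_fibres S (S ⊗[k] T) hS fun q _ => ?_
  obtain ⟨e⟩ := exists_fiberTensorEquiv (k := k) (S := S) (T := T) q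
  exact isNormalRing_of_ringEquiv e.symm (normal_tensor_arb k q.ResidueField T (residueField_or k S T hft q) hT).2

theorem finiteType_baseChange_or (k S T k' : Type v) [Field k] [CommRing S] [CommRing T] [Field k'] [Algebra k S]
    [Algebra k T] [Algebra k k'] [Module.Finite k k']
    (hft : Algebra.FiniteType k S ∨ Algebra.FiniteType k T) :
    Algebra.FiniteType k (k' ⊗[k] S) ∨ Algebra.FiniteType k T := by
  rcases hft with h | h
  · exact Or.inl (Algebra.FiniteType.trans (inferInstance : Algebra.FiniteType k k')
      (inferInstance : Algebra.FiniteType k' (k' ⊗[k] S)))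
  · exact Or.inr h

end Groth.Agent.FlatLoc6

namespace Groth.Agent.FlatLoc6

universe w

/-- A regular fibre ring has regular local rings at the points over `p`. -/
theorem fibLocRing_regular {A B : Type w} [CommRing A] [CommRing B] [Algebra A B] (p : Ideal A) [p.IsPrime]
    (q : Ideal B) [q.IsPrime] (hq : q.comap (algebraMap A B) = p) [IsRegularRing (p.Fiber B)]
    (P : Ideal (EGA4.FibLocRing A B q)) [P.IsPrime] : IsRegularLocalRing (Localization.AtPrime P) := by
  obtain ⟨Q, hQ⟩ := exists_fiber_prime p q hq
  subst hQ
  obtain ⟨e⟩ := exists_fibLocEquiv p Q.asIdeal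
  haveI : IsRegularRing (Localization.AtPrime Q.asIdeal) := GeomReg.isRegularRing_of_isLocalization Q.asIdeal.primeCompl _
  haveI : IsRegularRing (EGA4.FibLocRing A B (Q.asIdeal.comap Algebra.TensorProduct.includeRight)) :=
    IsRegularRing.of_ringEquiv (R := Localization.AtPrime Q.asIdeal) e
  exact IsRegularRing.isRegularLocalRing_localization P

end Groth.Agent.FlatLoc6
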