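import Groth.Prelude.Def_EGA4b
import Groth.Agent.RegLoc6.Basic
import Mathlib.RingTheory.KrullDimension.Regular
import Mathlib.RingTheory.Ideal.KrullsHeightTheorem

/-!
# Additivity of dimension when no component lies over the closed point
-/

namespace Groth.Agent.FlatLoc6

universe u

open IsLocalRing

theorem supportDim_quot_sup {R : Type u} [CommRing R] (I : Ideal R) (x : R) :
    Module.supportDim R (QuotSMulTop x (R ⧸ I)) = ringKrullDim (R ⧸ (I ⊔ Ideal.span {x})) := by
  have h : Module.support R (QuotSMulTop x (R ⧸ I)) =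
      PrimeSpectrum.zeroLocus ((I ⊔ Ideal.span {x} : Ideal R) : Set R) := by
    rw [Module.support_quotSMulTop, Module.support_eq_zeroLocus, Ideal.annihilator_quotient,
      ← PrimeSpectrum.zeroLocus_span {x}, ← PrimeSpectrum.zeroLocus_sup]
  rw [ringKrullDim_quotient, ← h]
  rfl

theorem ringKrullDim_sup_succ_le {R : Type u} [CommRing R] (I : Ideal R) (x : R)
    (h : ∀ p ∈ I.minimalPrimes, x ∉ p) :
    ringKrullDim (R ⧸ (I ⊔ Ideal.span {x})) + 1 ≤ ringKrullDim (R ⧸ I) := by
  have := Module.supportDim_quotSMulTop_succ_le_of_notMem_minimalPrimes (M := R ⧸ I) (x := x)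
    (by rwa [Ideal.annihilator_quotient])
  rwa [supportDim_quot_sup, Module.supportDim_quotient_eq_ringKrullDim] at this

theorem ringKrullDim_le_sup_succ {R : Type u} [CommRing R] [IsNoetherianRing R] [IsLocalRing R] (I : Ideal R)
    {x : R} (hx : x ∈ maximalIdeal R) :
    ringKrullDim (R ⧸ I) ≤ ringKrullDim (R ⧸ (I ⊔ Ideal.span {x})) + 1 := by
  have := Module.supportDim_le_supportDim_quotSMulTop_succ (M := R ⧸ I) hx
  rwa [supportDim_quot_sup, Module.supportDim_quotient_eq_ringKrullDim] at this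

theorem ringKrullDim_add_fibre_le {A B : Type u} [CommRing A] [CommRing B] [IsNoetherianRing A]
    [IsNoetherianRing B] [IsLocalRing A] [IsLocalRing B] [Algebra A B] [IsLocalHom (algebraMap A B)]
    (h : ∀ p : Ideal A, p.IsPrime → p ≠ maximalIdeal A →
      ∀ q ∈ (p.map (algebraMap A B)).minimalPrimes, q.comap (algebraMap A B) ≠ maximalIdeal A) :
    ∀ I : Ideal A, I ≤ maximalIdeal A →
      ringKrullDim (A ⧸ I) + ringKrullDim (EGA4.FibRing A B) ≤ ringKrullDim (B ⧸ I.map (algebraMap A B)) := by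
  intro I
  induction I using WellFoundedGT.induction with
  | _ I ih =>
    intro hI
    by_cases h0 : maximalIdeal A ∈ I.minimalPrimes
    · have hA : ringKrullDim (A ⧸ I) = 0 := by
        haveI : Nontrivial (A ⧸ I) := Ideal.Quotient.nontrivial_iff.mpr
          (ne_top_of_le_ne_top (maximalIdeal.isMaximal A).ne_top hI)
        rw [ringKrullDim_quotient]
        haveI : Subsingleton (PrimeSpectrum.zeroLocus (I : Set A)) := by
          refine ⟨fun a b => Subtype.ext (PrimeSpectrum.ext ?_)⟩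
          have : ∀ c : PrimeSpectrum.zeroLocus (I : Set A), c.1.asIdeal = maximalIdeal A := fun c =>
            le_antisymm (le_maximalIdeal c.1.2.ne_top) (h0.2 ⟨c.1.2, c.2⟩ (le_maximalIdeal c.1.2.ne_top))
          rw [this a, this b]
        haveI : Nonempty (PrimeSpectrum.zeroLocus (I : Set A)) :=
          ⟨⟨⟨maximalIdeal A, inferInstance⟩, hI⟩⟩
        exact Order.krullDim_eq_zero
      rw [hA, zero_add]
      exact ringKrullDim_le_of_surjective (Ideal.Quotient.factor (Ideal.map_mono hI))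
        (Ideal.Quotient.factor_surjective _)
    let S : Set (Ideal A) :=
      I.minimalPrimes ∪ Ideal.comap (algebraMap A B) '' (I.map (algebraMap A B)).minimalPrimes
    have hSfin : S.Finite :=
      (Ideal.finite_minimalPrimes_of_isNoetherianRing A I).union
        ((Ideal.finite_minimalPrimes_of_isNoetherianRing B _).image _)
    have hS : ∀ p ∈ S, p.IsPrime ∧ p ≠ maximalIdeal A := by
      rintro p (hp | ⟨Q, hQ, rfl⟩)
      · exact ⟨hp.1.1, fun e => h0 (e ▸ hp)⟩
      · haveI := hQ.1.1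
        refine ⟨inferInstance, ?_⟩
        obtain ⟨p, hp, hpQ⟩ := Ideal.exists_minimalPrimes_le (Ideal.map_le_iff_le_comap.mp hQ.1.2)
        refine h p hp.1.1 (fun e => h0 (e ▸ hp)) Q ⟨⟨hQ.1.1, Ideal.map_le_iff_le_comap.mpr hpQ⟩, fun Q' hQ' hle => ?_⟩
        exact hQ.2 ⟨hQ'.1, (Ideal.map_mono hp.1.2).trans hQ'.2⟩ hle
    obtain ⟨x, hxm, hxS⟩ : ∃ x ∈ maximalIdeal A, ∀ p ∈ S, x ∉ p := by
      by_contra hc
      push Not at hc
      have hsub : (maximalIdeal A : Set A) ⊆ ⋃ p ∈ hSfin.toFinset, (p : Set A) := fun a ha => by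
        obtain ⟨p, hp, hap⟩ := hc a ha
        exact Set.mem_iUnion₂.mpr ⟨p, hSfin.mem_toFinset.mpr hp, hap⟩
      obtain ⟨p, hp, hle⟩ := (Ideal.subset_union_prime (f := id) ⊥ ⊥
        (fun p hp _ _ => (hS p (hSfin.mem_toFinset.mp hp)).1)).mp hsub
      obtain ⟨hpP, hpne⟩ := hS p (hSfin.mem_toFinset.mp hp)
      exact hpne (le_antisymm (le_maximalIdeal hpP.ne_top) hle)
    set I' := I ⊔ Ideal.span {x}
    have hlt : I < I' := lt_of_le_of_ne le_sup_left fun e => by
      obtain ⟨p, hp, -⟩ := Ideal.exists_minimalPrimes_le hI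
      exact hxS p (Or.inl hp) (hp.1.2 (e ▸ Ideal.mem_sup_right (Ideal.mem_span_singleton_self x)))
    have hI' : I' ≤ maximalIdeal A := sup_le hI ((Ideal.span_singleton_le_iff_mem _).mpr hxm)
    have h1 := ringKrullDim_le_sup_succ I hxm
    have h2 := ringKrullDim_sup_succ_le (I.map (algebraMap A B)) (algebraMap A B x)
      fun Q hQ hxQ => hxS _ (Or.inr ⟨Q, hQ, rfl⟩) hxQ
    have h3 := ih I' hlt hI'
    have hmap : I'.map (algebraMap A B) = I.map (algebraMap A B) ⊔ Ideal.span {algebraMap A B x} := by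
      rw [Ideal.map_sup, Ideal.map_span, Set.image_singleton]
    rw [hmap] at h3
    calc ringKrullDim (A ⧸ I) + ringKrullDim (EGA4.FibRing A B)
        ≤ ringKrullDim (A ⧸ I') + 1 + ringKrullDim (EGA4.FibRing A B) := by gcongr
      _ = ringKrullDim (A ⧸ I') + ringKrullDim (EGA4.FibRing A B) + 1 := by
          rw [add_assoc, add_comm (1 : WithBot ℕ∞), ← add_assoc]
      _ ≤ ringKrullDim (B ⧸ (I.map (algebraMap A B) ⊔ Ideal.span {algebraMap A B x})) + 1 := by gcongr
      _ ≤ _ := h2

theorem ringKrullDim_le_add_fibre {A B : Type u} [CommRing A] [CommRing B] [IsNoetherianRing A]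
    [IsNoetherianRing B] [IsLocalRing A] [IsLocalRing B] [Algebra A B] [IsLocalHom (algebraMap A B)] :
    ringKrullDim B ≤ ringKrullDim A + ringKrullDim (EGA4.FibRing A B) := by
  haveI : (maximalIdeal B).LiesOver (maximalIdeal A) := ⟨(maximalIdeal_comap (algebraMap A B)).symm⟩
  have key := Ideal.height_le_height_add_of_liesOver (maximalIdeal A) (maximalIdeal B)
  rw [RegLoc6.map_maximalIdeal_quot (EGA4.mB A B), ← WithBot.coe_le_coe, WithBot.coe_add,
    maximalIdeal_height_eq_ringKrullDim, maximalIdeal_height_eq_ringKrullDim,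
    maximalIdeal_height_eq_ringKrullDim] at key
  exact key

end Groth.Agent.FlatLoc6
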