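import Groth.Prelude.Def_CInt
import Groth.Agent.LC.DepthExt
import Mathlib.RingTheory.Nakayama

/-!
# Ideals with regular quotient inside a regular ideal
-/

namespace Groth.Agent.FlatLoc6

universe u

open RingTheory.Sequence IsLocalRing

variable {A : Type u} [CommRing A] [IsNoetherianRing A] [IsLocalRing A]

theorem ofList_ofFn_eq {n : ℕ} (f : Fin n → A) : Ideal.ofList (List.ofFn f) = Ideal.span (Set.range f) :=
  congrArg Ideal.span (Set.ext fun x => List.mem_ofFn)

/-- Removing one element regular modulo `J` from a regular ideal. -/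
theorem isRegularIdeal_of_sup_singleton (J : Ideal A) (hJm : J ≤ maximalIdeal A) (y : A) (hym : y ∈ maximalIdeal A)
    (hy : ∀ a, a * y ∈ J → a ∈ J) (hK : CInt.IsRegularIdeal (J ⊔ Ideal.span {y})) : CInt.IsRegularIdeal J := by
  obtain ⟨ks, hks, hks'⟩ := hK
  set n := ks.length
  let k : Fin n → A := ks.get
  have hk : Ideal.span (Set.range k) = J ⊔ Ideal.span {y} := by
    rw [← ofList_ofFn_eq, List.ofFn_get, hks']
  obtain ⟨c, hc⟩ := Ideal.mem_span_range_iff_exists_fun.mp
    (show y ∈ Ideal.span (Set.range k) by rw [hk]; exact Ideal.mem_sup_right (Ideal.mem_span_singleton_self y))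
  have hmem : ∀ i, k i ∈ J ⊔ Ideal.span {y} := fun i => hk ▸ Ideal.subset_span (Set.mem_range_self i)
  have hdec : ∀ i, ∃ j ∈ J, ∃ a, k i = j + a * y := fun i => by
    obtain ⟨j, hj, b, hb, he⟩ := Submodule.mem_sup.mp (hmem i)
    obtain ⟨a, rfl⟩ := Ideal.mem_span_singleton'.mp hb
    exact ⟨j, hj, a, he.symm⟩
  choose j hj a ha using hdec
  have h1J : (1 : A) ∉ J := fun h => (maximalIdeal.isMaximal A).ne_top ((Ideal.eq_top_iff_one _).mpr (hJm h))
  obtain ⟨i, hi⟩ : ∃ i, IsUnit (c i) := by
    by_contra h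
    push Not at h
    have hs : (∑ i, c i * a i) ∈ maximalIdeal A :=
      Submodule.sum_mem _ fun i _ => Ideal.mul_mem_right _ _ (h i)
    obtain ⟨u, hu⟩ := isUnit_one_sub_self_of_mem_nonunits _ hs
    have h' : (1 - ∑ i, c i * a i) * y ∈ J := by
      have hsplit : ∑ i, c i * k i = ∑ i, c i * j i + (∑ i, c i * a i) * y := by
        rw [Finset.sum_mul, ← Finset.sum_add_distrib]
        exact Finset.sum_congr rfl fun i _ => by rw [ha i, mul_add, mul_assoc]
      have : (1 - ∑ i, c i * a i) * y = ∑ i, c i * j i := by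
        rw [sub_mul, one_mul, sub_eq_iff_eq_add, ← hsplit, hc]
      rw [this]
      exact Submodule.sum_mem _ fun i _ => J.mul_mem_left _ (hj i)
    have h2 := hy _ h'
    rw [← hu] at h2
    exact h1J (by simpa using J.mul_mem_left (↑u⁻¹) h2)
  obtain ⟨m, hm⟩ : ∃ m, n = m + 1 := Nat.exists_eq_add_of_le' i.pos
  let ι : Fin m → Fin n := fun l => Fin.cast hm.symm ((Fin.cast hm i).succAbove l)
  let zs : List A := List.ofFn fun l => j (ι l)
  have hzsJ : Ideal.ofList zs ≤ J := by
    rw [ofList_ofFn_eq, Ideal.span_le]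
    rintro _ ⟨l, rfl⟩
    exact hj _
  set T := Ideal.ofList zs ⊔ Ideal.span {y} with hT
  have hne : ∀ i', i' ≠ i → k i' ∈ T := by
    intro i' h
    obtain ⟨l, hl⟩ := Fin.exists_succAbove_eq (x := Fin.cast hm i') (y := Fin.cast hm i) (by simpa using h)
    have hl' : ι l = i' := by
      show Fin.cast hm.symm _ = i'
      rw [hl]
      simp
    rw [ha i', hT, ofList_ofFn_eq]
    refine add_mem (Ideal.mem_sup_left (Ideal.subset_span ⟨l, by rw [← hl']⟩)) (Ideal.mem_sup_right ?_)
    exact Ideal.mul_mem_left _ _ (Ideal.mem_span_singleton_self y)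
  have hTK : T = J ⊔ Ideal.span {y} := by
    refine le_antisymm (sup_le_sup_right hzsJ _) ?_
    rw [← hk, Ideal.span_le]
    rintro _ ⟨i', rfl⟩
    by_cases h : i' = i
    · subst h
      obtain ⟨u, hu⟩ := hi
      have hsum : c i' * k i' = y - ∑ l ∈ Finset.univ.erase i', c l * k l := by
        rw [eq_sub_iff_add_eq, Finset.add_sum_erase _ (fun l => c l * k l) (Finset.mem_univ i'), hc]
      have : k i' = ↑u⁻¹ * (c i' * k i') := by rw [← hu, ← mul_assoc, Units.inv_mul, one_mul]
      rw [this, hsum]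
      exact Ideal.mul_mem_left _ _ (sub_mem (Ideal.mem_sup_right (Ideal.mem_span_singleton_self y))
        (Submodule.sum_mem _ fun l hl => Ideal.mul_mem_left _ _ (hne l (Finset.ne_of_mem_erase hl))))
    · exact hne i' h
  have hmemT : ∀ r ∈ zs ++ [y], r ∈ maximalIdeal A := by
    intro r hr
    rcases List.mem_append.mp hr with h | h
    · exact hJm (hzsJ (Ideal.subset_span h))
    · rw [List.mem_singleton] at h; exact h ▸ hym
  have hksm : ∀ r ∈ ks, r ∈ maximalIdeal A := fun r hr =>
    (sup_le hJm ((Ideal.span_singleton_le_iff_mem _).mpr hym)) (hks' ▸ Ideal.subset_span hr)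
  have hreg : IsWeaklyRegular A (zs ++ [y]) := by
    refine (LC.idealDepth_ofList_eq_length_iff (M := A) _ hmemT).mp ?_
    rw [Ideal.ofList_append, Ideal.ofList_singleton, ← hT, hTK, ← hks',
      (LC.idealDepth_ofList_eq_length_iff (M := A) ks hksm).mpr hks.1,
      List.length_append, List.length_singleton]
    congr 1
    rw [List.length_ofFn]
    exact hm
  have hzreg := ((LC.isWeaklyRegular_concat_iff zs y).mp hreg).1
  refine ⟨zs, IsRegular.of_isWeaklyRegular_of_mem_maximalIdeal A
    (fun r hr => hmemT r (List.mem_append_left _ hr)) hzreg, le_antisymm hzsJ ?_⟩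
  refine Submodule.le_of_le_smul_of_le_jacobson_bot (I := maximalIdeal A) (IsNoetherian.noetherian J)
    (maximalIdeal_le_jacobson _) fun x hx => ?_
  obtain ⟨z, hz, w, hw, rfl⟩ := Submodule.mem_sup.mp (show x ∈ T from hTK ▸ Ideal.mem_sup_left hx)
  obtain ⟨b, rfl⟩ := Ideal.mem_span_singleton'.mp hw
  refine Submodule.add_mem_sup hz ?_
  have hb : b ∈ J := hy b ((Submodule.add_mem_iff_right J (hzsJ hz)).mp hx)
  rw [mul_comm]
  exact Ideal.mul_mem_mul hym hb

/-- An ideal modulo which a regular ideal is regular is regular. -/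
theorem isRegularIdeal_of_sup_ofList : ∀ (ys : List A) (J : Ideal A), J ≤ maximalIdeal A →
    (∀ r ∈ ys, r ∈ maximalIdeal A) → IsWeaklyRegular (A ⧸ J) ys →
    CInt.IsRegularIdeal (J ⊔ Ideal.ofList ys) → CInt.IsRegularIdeal J := by
  intro ys
  induction ys using List.reverseRecOn with
  | nil =>
    intro J _ _ _ h
    rwa [Ideal.ofList_nil, sup_bot_eq] at h
  | append_singleton ys y ih =>
    intro J hJ hmem hreg h
    obtain ⟨hys, hy⟩ := (LC.isWeaklyRegular_concat_iff ys y).mp hreg
    have hmem' := fun r hr => hmem r (List.mem_append_left _ hr)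
    refine ih J hJ hmem' hys (isRegularIdeal_of_sup_singleton _
      (sup_le hJ (Ideal.span_le.mpr hmem')) y (hmem y (List.mem_append_right _ (List.mem_singleton_self y))) ?_ ?_)
    · intro a ha
      have hmap : (Ideal.ofList ys • ⊤ : Submodule A (A ⧸ J)) = Submodule.map (Submodule.mkQ J) (Ideal.ofList ys) := by
        conv_rhs => rw [show Ideal.ofList ys = Ideal.ofList ys • (⊤ : Submodule A A) by simp, Submodule.map_smul'',
          Submodule.map_top, Submodule.range_mkQ]
      have h1 : ∀ b, b ∈ J ⊔ Ideal.ofList ys ↔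
          (Submodule.Quotient.mk (Submodule.Quotient.mk b : A ⧸ J) :
            (A ⧸ J) ⧸ (Ideal.ofList ys • ⊤ : Submodule A (A ⧸ J))) = 0 := by
        intro b
        rw [Submodule.Quotient.mk_eq_zero, hmap]
        conv_lhs => rw [← Submodule.comap_map_mkQ]
        rfl
      rw [h1] at ha ⊢
      refine hy.right_eq_zero_of_smul ?_
      rw [← Submodule.Quotient.mk_smul, ← Submodule.Quotient.mk_smul, smul_eq_mul, mul_comm]
      exact ha
    · rwa [Ideal.ofList_append, Ideal.ofList_singleton, ← sup_assoc] at h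

end Groth.Agent.FlatLoc6

namespace Groth.Agent.FlatLoc6

universe u

open RingTheory.Sequence IsLocalRing

variable {A : Type u} [CommRing A]

/-- A regular sequence of a quotient, lifted. -/
theorem exists_lift_regular_quot {J K : Ideal A} (hJK : J ≤ K)
    (h : CInt.IsRegularIdeal (K.map (Ideal.Quotient.mk J))) :
    ∃ ys : List A, IsWeaklyRegular (A ⧸ J) ys ∧ K = J ⊔ Ideal.ofList ys := by
  obtain ⟨rs, hrs, hrs'⟩ := h
  obtain ⟨g, hg⟩ : ∃ g : A ⧸ J → A, ∀ z, Ideal.Quotient.mk J (g z) = z :=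
    ⟨Function.surjInv Ideal.Quotient.mk_surjective, Function.surjInv_eq Ideal.Quotient.mk_surjective⟩
  have hmap : (rs.map g).map (algebraMap A (A ⧸ J)) = rs := by
    rw [List.map_map]
    exact (List.map_congr_left fun z _ => hg z).trans (List.map_id rs)
  refine ⟨rs.map g, (isWeaklyRegular_map_algebraMap_iff (A ⧸ J) (A ⧸ J) (rs.map g)).mp (hmap.symm ▸ hrs.1), ?_⟩
  have h1 := congrArg (Ideal.comap (Ideal.Quotient.mk J)) hrs'
  rw [← hmap, ← Ideal.map_ofList, Ideal.Quotient.algebraMap_eq,
    Ideal.comap_map_of_surjective' _ Ideal.Quotient.mk_surjective,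
    Ideal.comap_map_of_surjective' _ Ideal.Quotient.mk_surjective, Ideal.mk_ker, sup_eq_left.mpr hJK] at h1
  rw [← h1, sup_comm]

/-- Regular sequences concatenate. -/
theorem isRegularIdeal_sup_ofList [IsNoetherianRing A] [IsLocalRing A] {J : Ideal A} (hJ : CInt.IsRegularIdeal J)
    (ys : List A) (hys : IsWeaklyRegular (A ⧸ J) ys) (hK : J ⊔ Ideal.ofList ys ≤ maximalIdeal A) :
    CInt.IsRegularIdeal (J ⊔ Ideal.ofList ys) := by
  obtain ⟨js, hjs, hjs'⟩ := hJ
  refine ⟨js ++ ys, IsRegular.of_isWeaklyRegular_of_mem_maximalIdeal A ?_ ?_, by rw [Ideal.ofList_append, hjs']⟩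
  · intro r hr
    rcases List.mem_append.mp hr with h | h
    · exact hK (Ideal.mem_sup_left (hjs' ▸ Ideal.subset_span h))
    · exact hK (Ideal.mem_sup_right (Ideal.subset_span h))
  · refine (isWeaklyRegular_append_iff A js ys).mpr ⟨hjs.1, ?_⟩
    exact ((Submodule.quotEquivOfEq _ _ (show (Ideal.ofList js • ⊤ : Submodule A A) = J by simp [hjs'])).isWeaklyRegular_congr ys).mpr hys

end Groth.Agent.FlatLoc6
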