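import Groth.Agent.FlatLoc6.Loc
import Groth.Agent.Alg6.LocLoc

/-!
# Serre's conditions along a flat map
-/

namespace Groth.Agent.FlatLoc6

universe u

open TensorProduct IsLocalRing

section SelfLoc

variable {R : Type u} [CommRing R] [IsLocalRing R] (M : Type u) [AddCommGroup M] [Module R M]

theorem isLocalization_maximal : IsLocalization.AtPrime R (maximalIdeal R) :=
  IsLocalization.self fun _x hx => notMem_maximalIdeal.mp hx

theorem isLocalizedModule_id_maximal : IsLocalizedModule (maximalIdeal R).primeCompl (LinearMap.id : M →ₗ[R] M) :=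
  { map_units := fun x => (Module.End.isUnit_iff _).mpr <| by
      obtain ⟨u, hu⟩ := notMem_maximalIdeal.mp x.2
      have heq : ⇑(algebraMap R (Module.End R M) (x : R)) = fun m => u • m :=
        funext fun m => by rw [Module.algebraMap_end_apply, ← hu]; rfl
      rw [heq]
      exact MulAction.bijective u
    surj := fun y => ⟨(y, 1), one_smul _ y⟩
    exists_of_eq := fun h => ⟨1, congrArg _ h⟩ }

theorem depth_loc_maximal :
    LocCoh.depth (Localization.AtPrime (maximalIdeal R)) (LocalizedModule (maximalIdeal R).primeCompl M) =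
      LocCoh.depth R M :=
  haveI := isLocalization_maximal (R := R)
  haveI := isLocalizedModule_id_maximal (R := R) M
  (Alg6.depth_localized_eq (A := R) (M := M) (maximalIdeal R) R (LinearMap.id : M →ₗ[R] M)).symm

theorem supportDim_loc_maximal :
    Module.supportDim (Localization.AtPrime (maximalIdeal R)) (LocalizedModule (maximalIdeal R).primeCompl M) =
      Module.supportDim R M :=
  haveI := isLocalization_maximal (R := R)
  haveI := isLocalizedModule_id_maximal (R := R) M
  (Alg6.supportDim_localized_eq (A := R) (M := M) (maximalIdeal R) R (LinearMap.id : M →ₗ[R] M)).symm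

end SelfLoc

variable {A B : Type u} [CommRing A] [CommRing B] [Algebra A B]
variable (F : Type u) [AddCommGroup F] [Module B F] [Module A F] [IsScalarTower A B F]

/-- The condition (S_k) of the fibre, read off at the closed point. -/
theorem fib_le_of_hasSk (k : ℕ) (q : Ideal B) [q.IsPrime]
    (h : LocCoh.HasSk k (EGA4.FibLocRing A B q) (EGA4.FibLocMod A B q F)) :
    min (k : WithBot ℕ∞) (fibDim A q F) ≤ ((fibDepth A q F : ℕ∞) : WithBot ℕ∞) := by
  haveI := isLocalRing_fibLocRing (A := A) q
  have := h (maximalIdeal (EGA4.FibLocRing A B q))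
  rw [depth_loc_maximal, supportDim_loc_maximal, fibDim_eq, fibDepth_eq] at this
  exact this

omit [Module A F] [IsScalarTower A B F] in
theorem sk_add {k : ℕ} {a b : WithBot ℕ∞} {c d : ℕ∞} (ha : a ≠ ⊥) (hb : b ≠ ⊥)
    (h1 : min (k : WithBot ℕ∞) a ≤ (c : WithBot ℕ∞)) (h2 : min (k : WithBot ℕ∞) b ≤ (d : WithBot ℕ∞)) :
    min (k : WithBot ℕ∞) (a + b) ≤ ((c + d : ℕ∞) : WithBot ℕ∞) := by
  obtain ⟨a, rfl⟩ := WithBot.ne_bot_iff_exists.mp ha
  obtain ⟨b, rfl⟩ := WithBot.ne_bot_iff_exists.mp hb
  have hk : ((k : WithBot ℕ∞)) = (((k : ℕ∞)) : WithBot ℕ∞) := rfl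
  rw [hk] at h1 h2 ⊢
  rw [← WithBot.coe_min, WithBot.coe_le_coe] at h1 h2
  rw [← WithBot.coe_add, ← WithBot.coe_min, WithBot.coe_le_coe]
  rcases le_total (k : ℕ∞) a with h | h
  · rw [min_eq_left h] at h1
    exact (min_le_left _ _).trans (h1.trans le_self_add)
  rcases le_total (k : ℕ∞) b with h' | h'
  · rw [min_eq_left h'] at h2
    exact (min_le_left _ _).trans (h2.trans le_add_self)
  rw [min_eq_right h] at h1
  rw [min_eq_right h'] at h2
  exact (min_le_right _ _).trans (add_le_add h1 h2)

omit [Module A F] [IsScalarTower A B F] in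
theorem fibDim_ne_bot (q : Ideal B) [q.IsPrime] [IsNoetherianRing B] [Module.Finite B F]
    (hF : (⟨q, ‹_›⟩ : PrimeSpectrum B) ∈ Module.support B F) : fibDim A q F ≠ ⊥ := by
  haveI : Nontrivial (LocalizedModule q.primeCompl F) := Module.mem_support_iff.mp hF
  have hne := fibLocRing_nontrivial (A := A) q
  haveI : Nontrivial (EGA4.FibLocMod A B q F) := Submodule.Quotient.nontrivial_iff.mpr fun h =>
    Alg6.maximal_smul_top_ne_top (R := Localization.AtPrime q) (M := LocalizedModule q.primeCompl F)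
      (eq_top_iff.mpr (h.ge.trans (Submodule.smul_mono_left
        (IsLocalRing.le_maximalIdeal (Ideal.Quotient.nontrivial_iff.mp hne)))))
  exact Module.supportDim_ne_bot_of_nontrivial (Localization.AtPrime q) (EGA4.FibLocMod A B q F)

variable [IsNoetherianRing A] [IsNoetherianRing B] [Module.Finite B F] [Module.Flat A F]
variable (E : Type u) [AddCommGroup E] [Module A E] [Module.Finite A E]

/-- (S_k) ascends along a flat map with (S_k) fibres. -/
theorem sk_ascend (k : ℕ) (q : Ideal B) [q.IsPrime]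
    (hfib : LocCoh.HasSk k (EGA4.FibLocRing A B q) (EGA4.FibLocMod A B q F))
    (hE : min (k : WithBot ℕ∞) (Module.supportDim (Localization.AtPrime (q.comap (algebraMap A B)))
        (LocalizedModule (q.comap (algebraMap A B)).primeCompl E)) ≤
      ((LocCoh.depth (Localization.AtPrime (q.comap (algebraMap A B)))
        (LocalizedModule (q.comap (algebraMap A B)).primeCompl E) : ℕ∞) : WithBot ℕ∞)) :
    min (k : WithBot ℕ∞) (Module.supportDim (Localization.AtPrime q) (LocalizedModule q.primeCompl (F ⊗[A] E))) ≤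
      ((LocCoh.depth (Localization.AtPrime q) (LocalizedModule q.primeCompl (F ⊗[A] E)) : ℕ∞) : WithBot ℕ∞) := by
  by_cases hs : (⟨q, ‹_›⟩ : PrimeSpectrum B) ∈ Module.support B (F ⊗[A] E)
  swap
  · haveI : Subsingleton (LocalizedModule q.primeCompl (F ⊗[A] E)) := by
      rw [← not_nontrivial_iff_subsingleton]; exact fun h => hs (Module.mem_support_iff.mpr h)
    rw [Module.supportDim_eq_bot_of_subsingleton]
    simp
  obtain ⟨hF, hp⟩ := (mem_support_tensor_iff _).mp hs
  obtain ⟨h1, h2⟩ := formulas_atPrime F E _ q rfl hF hp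
  rw [h1, h2]
  haveI : Nontrivial (LocalizedModule (q.comap (algebraMap A B)).primeCompl E) := Module.mem_support_iff.mp hp
  exact sk_add (Module.supportDim_ne_bot_of_nontrivial _ _) (fibDim_ne_bot F q hF) hE (fib_le_of_hasSk F k q hfib)

/-- A point of the support over a given prime, minimal in its fibre. -/
theorem exists_minimal_over {p : Ideal A} [p.IsPrime] {Q : PrimeSpectrum B} (hQ : Q ∈ Module.support B F)
    (hle : p ≤ Q.asIdeal.comap (algebraMap A B)) :
    ∃ P ∈ Module.support B F, P.asIdeal ≤ Q.asIdeal ∧ P.asIdeal.comap (algebraMap A B) = p ∧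
      ∀ P' ∈ Module.support B F, P'.asIdeal ≤ P.asIdeal →
        P.asIdeal.comap (algebraMap A B) ≤ P'.asIdeal.comap (algebraMap A B) → P'.asIdeal = P.asIdeal := by
  have hle' : Module.annihilator B F ⊔ p.map (algebraMap A B) ≤ Q.asIdeal :=
    sup_le (Module.mem_support_iff_of_finite.mp hQ) (Ideal.map_le_iff_le_comap.mpr hle)
  obtain ⟨P, hP, hPQ⟩ := Ideal.exists_minimalPrimes_le hle'
  haveI := hP.1.1
  have hPF : (⟨P, hP.1.1⟩ : PrimeSpectrum B) ∈ Module.support B F :=
    Module.mem_support_iff_of_finite.mpr (le_sup_left.trans hP.1.2)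
  have hmin : ∀ P' ∈ Module.support B F, P'.asIdeal ≤ P → p ≤ P'.asIdeal.comap (algebraMap A B) →
      P'.asIdeal = P := fun P' h1 h2 h3 => le_antisymm h2 (hP.2 ⟨P'.2,
        sup_le (Module.mem_support_iff_of_finite.mp h1) (Ideal.map_le_iff_le_comap.mpr h3)⟩ h2)
  have hpP : p ≤ P.comap (algebraMap A B) := Ideal.map_le_iff_le_comap.mp (le_sup_right.trans hP.1.2)
  obtain ⟨P', hP'F, hP'P, hP'p⟩ := exists_le_of_flat (N := F) hPF hpP
  have hcomap : P.comap (algebraMap A B) = p := by
    rw [← hmin P' hP'F hP'P hP'p.ge]; exact hP'p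
  exact ⟨⟨P, hP.1.1⟩, hPF, hPQ, hcomap, fun P' h1 h2 h3 => hmin P' h1 h2 (hcomap ▸ h3)⟩

end Groth.Agent.FlatLoc6
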