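import Groth.Agent.DimFormula.Order
import Groth.Agent.VarDim.Basic
import Groth.Prelude.Def_EGA4b
import Groth.Prelude.Def_Found

/-!
# Heights in equidimensional catenary local rings
-/

namespace Groth.Agent.FlatLoc6

universe u

open Order

variable {A : Type u} [CommRing A] [IsNoetherianRing A] [IsLocalRing A]

/-- A saturated series from a prime to the closed point, of maximal length. -/
theorem exists_saturated_to_closedPoint (p : PrimeSpectrum A) :
    ∃ l : LTSeries (PrimeSpectrum A), l.head = p ∧ l.last = IsLocalRing.closedPoint A ∧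
      (∀ i : Fin l.length, l i.castSucc ⋖ l i.succ) ∧ ((l.length : ℕ∞) : WithBot ℕ∞) = ringKrullDim (A ⧸ p.asIdeal) := by
  let m : ↥(Set.Ici p) := ⟨IsLocalRing.closedPoint A, IsLocalRing.le_maximalIdeal p.2.ne_top⟩
  have hh : (height m : WithBot ℕ∞) = ringKrullDim (A ⧸ p.asIdeal) := by
    rw [← VarDim.coheight_eq_ringKrullDim_quotient, height_eq_krullDim_Iic, coheight_eq_krullDim_Ici]
    exact Order.krullDim_eq_of_orderIso
      { toFun := fun t => t.1
        invFun := fun t => ⟨t, IsLocalRing.le_maximalIdeal t.1.2.ne_top⟩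
        left_inv := fun _ => rfl
        right_inv := fun _ => rfl
        map_rel_iff' := Iff.rfl }
  have hfin : height m ≠ ⊤ := fun h => by
    rw [h] at hh
    have h1 := (ringKrullDim_quotient_le p.asIdeal).trans_eq IsLocalRing.maximalIdeal_height_eq_ringKrullDim.symm
    rw [← hh, WithBot.coe_le_coe, top_le_iff] at h1
    exact Ideal.height_ne_top (IsLocalRing.maximalIdeal.isMaximal A).ne_top h1
  obtain ⟨n, hn⟩ := ENat.ne_top_iff_exists.1 hfin
  obtain ⟨l, hl, hlen, hsat, hhead⟩ := DimFormula.exists_saturated_series hn.symm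
  have hp : l.head = ⟨p, (le_refl p)⟩ := by
    have := height_eq_zero.1 hhead (show (⟨p, (le_refl p)⟩ : ↥(Set.Ici p)) ≤ l.head from l.head.2)
    exact Subtype.ext (le_antisymm this l.head.2)
  refine ⟨l.map Subtype.val fun _ _ h => h, congrArg Subtype.val hp, congrArg Subtype.val hl, fun j => ?_, ?_⟩
  · exact ⟨(hsat j).lt, fun z hz hz' => (hsat j).2
      (show l j.castSucc < (⟨z, le_trans (l j.castSucc).2 hz.le⟩ : ↥(Set.Ici p)) from hz) hz'⟩
  · rw [← hh, ← hn, ← hlen]
    rfl

/-- In an equidimensional catenary local ring heights and coheights add up to the dimension. -/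
theorem height_add_ringKrullDim_quotient (heq : EGA4.IsEquidim A) (hcat : CAlg.IsCatenary A) (p : Ideal A)
    [hp : p.IsPrime] : (p.height : WithBot ℕ∞) + ringKrullDim (A ⧸ p) = ringKrullDim A := by
  let P : PrimeSpectrum A := ⟨p, hp⟩
  have hfin : height P ≠ ⊤ := by
    rw [← P.height_eq_orderHeight]
    exact Ideal.height_ne_top hp.ne_top
  obtain ⟨a, ha⟩ := ENat.ne_top_iff_exists.1 hfin
  obtain ⟨l₁, hl₁, hn₁, hs₁, hh₁⟩ := DimFormula.exists_saturated_series ha.symm
  obtain ⟨l₂, hh₂, hl₂, hs₂, hd₂⟩ := exists_saturated_to_closedPoint P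
  obtain ⟨l₃, hh₃, hl₃, hs₃, hd₃⟩ := exists_saturated_to_closedPoint l₁.head
  have hP0 : l₁.head.asIdeal ∈ minimalPrimes A := by
    refine ⟨⟨l₁.head.2, bot_le⟩, fun Q hQ hle => ?_⟩
    exact height_eq_zero.1 hh₁ (show (⟨Q, hQ.1⟩ : PrimeSpectrum A) ≤ l₁.head from hle)
  have hsm : l₁.last = l₂.head := hl₁.trans hh₂.symm
  have hlen := hcat.2 (l₁.smash l₂ hsm) l₃ (by rw [RelSeries.head_smash, hh₃])
    (by rw [RelSeries.last_smash, hl₂, hl₃]) ?_ hs₃
  · rw [P.height_eq_orderHeight, ← ha, ← hn₁, show ringKrullDim (A ⧸ p) = ((l₂.length : ℕ∞) : WithBot ℕ∞) from hd₂.symm,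
      ← heq _ hP0, ← hd₃, ← WithBot.coe_add, ← Nat.cast_add, ← hlen]
    rfl
  intro i
  refine Fin.addCases (fun j => ?_) (fun j => ?_) i
  · exact (congrArg₂ (· ⋖ ·) (RelSeries.smash_castAdd hsm j) (RelSeries.smash_succ_castAdd hsm j)).mpr (hs₁ j)
  · exact (congrArg₂ (· ⋖ ·) (RelSeries.smash_natAdd hsm j) (RelSeries.smash_succ_natAdd hsm j)).mpr (hs₂ j)

end Groth.Agent.FlatLoc6

namespace Groth.Agent.FlatLoc6

universe u

open Order

variable {A : Type u} [CommRing A] [IsNoetherianRing A] [IsLocalRing A]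

/-- Along a covering of primes the dimension of the quotient drops by one. -/
theorem ringKrullDim_quotient_covBy (hcat : CAlg.IsCatenary A) {p q : PrimeSpectrum A} (h : p ⋖ q) :
    ringKrullDim (A ⧸ p.asIdeal) = ringKrullDim (A ⧸ q.asIdeal) + 1 := by
  obtain ⟨l, hh, hl, hs, hd⟩ := exists_saturated_to_closedPoint q
  obtain ⟨l', hh', hl', hs', hd'⟩ := exists_saturated_to_closedPoint p
  let c : LTSeries (PrimeSpectrum A) :=
    ⟨l.length + 1, Fin.cons p l.toFun, fun i => by
      refine Fin.cases ?_ (fun j => ?_) i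
      · show p < l.head
        rw [hh]; exact h.lt
      · exact l.step j⟩
  have hc : c.last = l.last := by
    show Fin.cons (α := fun _ => PrimeSpectrum A) p l.toFun (Fin.last (l.length + 1)) = _
    rw [← Fin.succ_last, Fin.cons_succ]
    rfl
  have hlen := hcat.2 c l' (show p = l'.head from hh'.symm) (by rw [hc, hl, hl']) (fun i => ?_) hs'
  · rw [← hd, ← hd', ← hlen]
    rfl
  · refine Fin.cases ?_ (fun j => ?_) i
    · show p ⋖ l.head
      rw [hh]; exact h
    · exact hs j

/-- A minimal prime over a prime and one element covers the prime. -/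
theorem covBy_of_minimalPrimes {p q : PrimeSpectrum A} {t : A} (htp : t ∉ p.asIdeal)
    (hq : q.asIdeal ∈ (p.asIdeal ⊔ Ideal.span {t}).minimalPrimes) : p ⋖ q := by
  have htq : t ∈ q.asIdeal := hq.1.2 (Ideal.mem_sup_right (Ideal.mem_span_singleton_self t))
  have hpq : p.asIdeal ≤ q.asIdeal := le_sup_left.trans hq.1.2
  refine ⟨lt_of_le_of_ne hpq (fun e => htp (e ▸ htq)), fun z hz hz' => ?_⟩
  let π := Ideal.Quotient.mk p.asIdeal
  have hsur : Function.Surjective π := Ideal.Quotient.mk_surjective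
  have hcomap : ∀ r : PrimeSpectrum A, p.asIdeal ≤ r.asIdeal → (r.asIdeal.map π).comap π = r.asIdeal := fun r hr => by
    rw [Ideal.comap_map_of_surjective' _ hsur, Ideal.mk_ker, sup_eq_left.mpr hr]
  have hprime : ∀ r : PrimeSpectrum A, p.asIdeal ≤ r.asIdeal → (r.asIdeal.map π).IsPrime := fun r hr =>
    haveI := r.2
    Ideal.map_isPrime_of_surjective hsur (by rw [Ideal.mk_ker]; exact hr)
  let z' : PrimeSpectrum (A ⧸ p.asIdeal) := ⟨z.asIdeal.map π, hprime z hz.le⟩
  let q' : PrimeSpectrum (A ⧸ p.asIdeal) := ⟨q.asIdeal.map π, hprime q hpq⟩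
  have hlt1 : (⟨⊥, Ideal.isPrime_bot⟩ : PrimeSpectrum (A ⧸ p.asIdeal)) < z' := by
    refine lt_of_le_of_ne (bot_le (α := Ideal (A ⧸ p.asIdeal))) fun e => hz.not_ge ?_
    have := congrArg (fun w : PrimeSpectrum (A ⧸ p.asIdeal) => w.asIdeal.comap π) e
    simp only [z', ← RingHom.ker_eq_comap_bot, π, Ideal.mk_ker] at this
    rw [hcomap z hz.le] at this
    exact this.ge
  have hlt2 : z' < q' := by
    refine lt_of_le_of_ne (Ideal.map_mono hz'.le) fun e => hz'.ne (PrimeSpectrum.ext ?_)
    have := congrArg (fun w : PrimeSpectrum (A ⧸ p.asIdeal) => w.asIdeal.comap π) e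
    simp only [z', q'] at this
    rwa [hcomap z hz.le, hcomap q hpq] at this
  haveI : q'.asIdeal.IsPrime := q'.2
  have h1 : q'.asIdeal.height ≤ 1 := by
    refine Ideal.height_le_one_of_isPrincipal_of_mem_minimalPrimes (Ideal.span {π t}) _ ⟨⟨q'.2, ?_⟩, fun r hr hle => ?_⟩
    · rw [Ideal.span_singleton_le_iff_mem]
      exact Ideal.mem_map_of_mem π htq
    · haveI := hr.1
      have h2 : q.asIdeal ≤ r.comap π := hq.2 ⟨inferInstance, sup_le
        (Ideal.mk_ker.symm.le.trans (Ideal.ker_le_comap π))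
        ((Ideal.span_singleton_le_iff_mem _).2 (hr.2 (Ideal.mem_span_singleton_self _)))⟩
        ((Ideal.comap_mono hle).trans (hcomap q hpq).le)
      exact (Ideal.map_mono h2).trans Ideal.map_comap_le
  rw [q'.height_eq_orderHeight] at h1
  have h2 := Order.height_add_one_le hlt1
  have h3 := Order.height_add_one_le hlt2
  have : (2 : ℕ∞) ≤ Order.height q' := by
    refine le_trans ?_ ((add_le_add_left h2 1).trans h3)
    rw [add_assoc]
    exact le_add_self
  exact absurd (this.trans h1) (by norm_num)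

/-- Cutting by an element outside the minimal primes lowers heights. -/
theorem height_map_add_one_le {t : A} (ht : ∀ P ∈ minimalPrimes A, t ∉ P) {q : PrimeSpectrum A}
    (htq : t ∈ q.asIdeal) :
    (q.asIdeal.map (Ideal.Quotient.mk (Ideal.span {t}))).height + 1 ≤ q.asIdeal.height := by
  let π := Ideal.Quotient.mk (Ideal.span {t})
  have hsur : Function.Surjective π := Ideal.Quotient.mk_surjective
  have hle : Ideal.span {t} ≤ q.asIdeal := (Ideal.span_singleton_le_iff_mem _).2 htq
  haveI := q.2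
  haveI hp : (q.asIdeal.map π).IsPrime := Ideal.map_isPrime_of_surjective hsur (by rw [Ideal.mk_ker]; exact hle)
  let q' : PrimeSpectrum (A ⧸ Ideal.span {t}) := ⟨_, hp⟩
  have hq : PrimeSpectrum.comap π q' = q := PrimeSpectrum.ext (by
    show (q.asIdeal.map π).comap π = _
    rw [Ideal.comap_map_of_surjective' _ hsur, Ideal.mk_ker, sup_eq_left.mpr hle])
  show q'.asIdeal.height + 1 ≤ _
  rw [q'.height_eq_orderHeight, q.height_eq_orderHeight]
  obtain ⟨n, hn⟩ := ENat.ne_top_iff_exists.1
    (show Order.height q' ≠ ⊤ by rw [← q'.height_eq_orderHeight]; exact Ideal.height_ne_top hp.ne_top)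
  obtain ⟨l, hl, hlen⟩ := exists_series_of_height_eq_coe q' hn.symm
  let l' := l.map (PrimeSpectrum.comap π) (RingHom.strictMono_comap_of_surjective hsur)
  obtain ⟨P, hP, hPle⟩ := Ideal.exists_minimalPrimes_le (J := l'.head.asIdeal) (bot_le : (⊥ : Ideal A) ≤ _)
  have hlt : (⟨P, hP.1.1⟩ : PrimeSpectrum A) < l'.head := lt_of_le_of_ne hPle fun e => ht P hP (by
    have h2 : t ∈ l'.head.asIdeal := by
      show π t ∈ l.head.asIdeal
      rw [Ideal.Quotient.eq_zero_iff_mem.2 (Ideal.mem_span_singleton_self t)]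
      exact zero_mem _
    rw [show P = l'.head.asIdeal from congrArg PrimeSpectrum.asIdeal e]
    exact h2)
  have := length_le_height_last (p := l'.cons _ hlt)
  rw [RelSeries.last_cons, RelSeries.cons_length, LTSeries.last_map, hl, hq, LTSeries.map_length, hlen,
    Nat.cast_add, Nat.cast_one] at this
  rw [← hn]
  exact this

end Groth.Agent.FlatLoc6
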