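import Groth.Agent.FlatLoc6.Loc
import Groth.Agent.FlatLoc6.Sk
import Groth.Agent.RegLoc6.Basic
import Mathlib.RingTheory.Ideal.GoingDown
import Mathlib.RingTheory.Ideal.KrullsHeightTheorem

/-!
# Regularity along a flat map
-/

namespace Groth.Agent.FlatLoc6

universe u

open IsLocalRing

variable {A B : Type u} [CommRing A] [CommRing B] [Algebra A B]

section Local

variable [IsLocalRing A] [IsLocalRing B] [IsLocalHom (algebraMap A B)] [Module.Flat A B] [IsNoetherianRing B]

/-- Regular base and regular closed fibre give a regular ring. -/
theorem isRegularLocalRing_of_flat_fibre [IsRegularLocalRing A]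
    (h : IsRegularLocalRing (B ⧸ (maximalIdeal A).map (algebraMap A B))) : IsRegularLocalRing B := by
  set I := (maximalIdeal A).map (algebraMap A B) with hI
  haveI := h
  haveI : (maximalIdeal B).LiesOver (maximalIdeal A) := ⟨(maximalIdeal_comap (algebraMap A B)).symm⟩
  have key := Ideal.height_eq_height_add_of_liesOver_of_hasGoingDown (maximalIdeal A) (maximalIdeal B)
  rw [← hI, RegLoc6.map_maximalIdeal_quot I] at key
  have key' := congrArg (fun x : ℕ∞ => (x : WithBot ℕ∞)) key
  simp only [WithBot.coe_add, maximalIdeal_height_eq_ringKrullDim] at key'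
  refine IsRegularLocalRing.of_spanFinrank_maximalIdeal_le B ?_
  rw [key', ← (isRegularLocalRing_iff A).mp ‹_›, ← (isRegularLocalRing_iff (B ⧸ I)).mp h, ← WithBot.coe_natCast,
    ← WithBot.coe_natCast, ← WithBot.coe_natCast, ← WithBot.coe_add, WithBot.coe_le_coe, ← Nat.cast_add,
    Nat.cast_le]
  have hA : Submodule.FG (maximalIdeal A) := (maximalIdeal A).fg_of_isNoetherianRing
  have hF : Submodule.FG (maximalIdeal (B ⧸ I)) := (maximalIdeal (B ⧸ I)).fg_of_isNoetherianRing
  set gA := Submodule.generators (maximalIdeal A) with hgA
  set gF := Submodule.generators (maximalIdeal (B ⧸ I)) with hgF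
  have hA' : gA.Finite := hA.finite_generators
  have hF' : gF.Finite := hF.finite_generators
  let l : B ⧸ I → B := Function.surjInv Ideal.Quotient.mk_surjective
  have hl : ∀ z, Ideal.Quotient.mk I (l z) = z := Function.surjInv_eq Ideal.Quotient.mk_surjective
  have hspan : maximalIdeal B = Ideal.span (algebraMap A B '' gA ∪ l '' gF) := by
    rw [Ideal.span_union, ← Ideal.map_span, show Ideal.span gA = maximalIdeal A from Submodule.span_generators _,
      ← hI]
    have hmap : (maximalIdeal B).map (Ideal.Quotient.mk I) = (Ideal.span (l '' gF)).map (Ideal.Quotient.mk I) := by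
      rw [RegLoc6.map_maximalIdeal_quot I, Ideal.map_span, ← Set.image_comp]
      rw [show ((Ideal.Quotient.mk I) ∘ l) = id from funext hl, Set.image_id]
      exact (Submodule.span_generators _).symm
    have hIB : I ≤ maximalIdeal B := map_maximalIdeal_le (algebraMap A B)
    have := congrArg (Ideal.comap (Ideal.Quotient.mk I)) hmap
    rw [Ideal.comap_map_of_surjective' _ Ideal.Quotient.mk_surjective,
      Ideal.comap_map_of_surjective' _ Ideal.Quotient.mk_surjective, Ideal.mk_ker, sup_eq_left.mpr hIB] at this
    rw [this, sup_comm]
  rw [hspan]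
  refine (Submodule.spanFinrank_span_le_ncard_of_finite ((hA'.image _).union (hF'.image _))).trans
    ((Set.ncard_union_le _ _).trans (add_le_add ?_ ?_))
  · exact (Set.ncard_image_le hA').trans hA.generators_ncard.le
  · exact (Set.ncard_image_le hF').trans hF.generators_ncard.le

end Local

variable [IsNoetherianRing A] [IsNoetherianRing B] [Module.Flat A B]

/-- `(R_k)` ascends along a flat map with `(R_k)` fibres, one prime at a time. -/
theorem regular_ascend (k : ℕ) (q : Ideal B) [q.IsPrime] (hk : q.height ≤ k)
    (hfib : LocCoh.HasRk k (EGA4.FibLocRing A B q))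
    (hA : (q.comap (algebraMap A B)).height ≤ k →
      IsRegularLocalRing (Localization.AtPrime (q.comap (algebraMap A B)))) :
    IsRegularLocalRing (Localization.AtPrime q) := by
  set p := q.comap (algebraMap A B) with hp
  haveI : q.LiesOver p := ⟨rfl⟩
  have hht := Ideal.height_eq_height_add_of_liesOver_of_hasGoingDown p q
  haveI : IsRegularLocalRing (Localization.AtPrime p) := hA ((hht ▸ le_self_add).trans hk)
  letI := Localization.AtPrime.algebraOfLiesOver p q
  haveI := isLocalHom_atPrime p q
  haveI : IsNoetherianRing (Localization.AtPrime q) := IsLocalization.isNoetherianRing q.primeCompl _ inferInstance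
  haveI := isLocalRing_fibLocRing (A := A) q
  refine isRegularLocalRing_of_flat_fibre (A := Localization.AtPrime p) ?_
  haveI := isLocalization_maximal (R := EGA4.FibLocRing A B q)
  haveI : IsRegularLocalRing (Localization.AtPrime (maximalIdeal (EGA4.FibLocRing A B q))) := by
    refine hfib _ ?_
    have h1 : (maximalIdeal (EGA4.FibLocRing A B q)).height ≤ (maximalIdeal (Localization.AtPrime q)).height := by
      rw [← WithBot.coe_le_coe, maximalIdeal_height_eq_ringKrullDim, maximalIdeal_height_eq_ringKrullDim]
      exact ringKrullDim_quotient_le _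
    rw [show (maximalIdeal (Localization.AtPrime q)).height = q.height by
      rw [← IsLocalization.height_under q.primeCompl (maximalIdeal (Localization.AtPrime q)),
        Localization.AtPrime.under_maximalIdeal]] at h1
    exact h1.trans hk
  haveI : IsRegularLocalRing (EGA4.FibLocRing A B q) :=
    IsRegularLocalRing.of_ringEquiv (R := Localization.AtPrime (maximalIdeal (EGA4.FibLocRing A B q))) (by
      exact (IsLocalization.algEquiv (maximalIdeal (EGA4.FibLocRing A B q)).primeCompl
      (Localization.AtPrime (maximalIdeal (EGA4.FibLocRing A B q))) (EGA4.FibLocRing A B q)).toRingEquiv)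
  exact IsRegularLocalRing.of_ringEquiv
    (Ideal.quotEquivOfEq (map_maximalIdeal_eq (A := A) (B := B) p q).symm)

end Groth.Agent.FlatLoc6
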