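import Groth.Agent.FlatLoc6.Supp
import Groth.Agent.RegLoc6.Seq
import Groth.Agent.LC.DepthExt

/-!
# Flatness from a regular sequence; miracle flatness
-/

namespace Groth.Agent.FlatLoc6

universe u

open TensorProduct RingTheory.Sequence
open scoped Pointwise

/-- Tensor-injectivity of the ideal of a sequence regular on the module. -/
theorem rTensor_ofList_injective {A : Type u} [CommRing A] {M : Type u} [AddCommGroup M] [Module A M] :
    ∀ (rs : List A), IsWeaklyRegular M rs → Function.Injective ((Ideal.ofList rs).subtype.rTensor M) := by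
  intro rs
  induction rs using List.reverseRecOn with
  | nil =>
    intro _
    haveI : Subsingleton (Ideal.ofList ([] : List A)) := by rw [Ideal.ofList_nil]; infer_instance
    intro p q _
    exact Subsingleton.elim p q
  | append_singleton ys x ih =>
    intro h
    obtain ⟨hys, hx⟩ := (LC.isWeaklyRegular_concat_iff ys x).mp h
    set J' := Ideal.ofList ys
    set J := Ideal.ofList (ys ++ [x]) with hJ
    have hle : J' ≤ J := by rw [hJ, Ideal.ofList_append]; exact le_sup_left
    have hxJ : x ∈ J := by
      rw [hJ, Ideal.ofList_append, Ideal.ofList_singleton]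
      exact Ideal.mem_sup_right (Ideal.mem_span_singleton_self x)
    let i : J' →ₗ[A] J := Submodule.inclusion hle
    let ev : J ⊗[A] M →ₗ[A] M := (TensorProduct.lid A M).toLinearMap.comp (J.subtype.rTensor M)
    let ev' : J' ⊗[A] M →ₗ[A] M := (TensorProduct.lid A M).toLinearMap.comp (J'.subtype.rTensor M)
    have hdec : ∀ z : J ⊗[A] M, ∃ w m, z = i.rTensor M w + (⟨x, hxJ⟩ : J) ⊗ₜ[A] m := by
      intro z
      induction z using TensorProduct.induction_on with
      | zero => exact ⟨0, 0, by simp⟩
      | tmul a m =>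
        obtain ⟨a, ha⟩ := a
        have ha' : a ∈ J' ⊔ Ideal.span {x} := by
          rw [hJ, Ideal.ofList_append, Ideal.ofList_singleton] at ha; exact ha
        obtain ⟨b, hb, c, hc, rfl⟩ := Submodule.mem_sup.mp ha'
        obtain ⟨d, rfl⟩ := Ideal.mem_span_singleton'.mp hc
        refine ⟨(⟨b, hb⟩ : J') ⊗ₜ m, d • m, ?_⟩
        rw [LinearMap.rTensor_tmul, ← TensorProduct.smul_tmul, ← TensorProduct.add_tmul]
        rfl
      | add p q hp hq =>
        obtain ⟨w, m, rfl⟩ := hp; obtain ⟨w', m', rfl⟩ := hq
        exact ⟨w + w', m + m', by rw [map_add, TensorProduct.tmul_add]; abel⟩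
    have hev : ∀ w, ev (i.rTensor M w) = ev' w := fun w => by
      induction w using TensorProduct.induction_on with
      | zero => simp
      | tmul a m => simp [ev, ev', i]
      | add p q hp hq => rw [map_add, map_add, map_add, hp, hq]
    have hmem : ∀ w : J' ⊗[A] M, ev' w ∈ (J' • ⊤ : Submodule A M) := fun w => by
      induction w using TensorProduct.induction_on with
      | zero => simp
      | tmul a m => simpa [ev'] using Submodule.smul_mem_smul a.2 Submodule.mem_top
      | add p q hp hq => rw [map_add]; exact add_mem hp hq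
    have hsurj : ∀ n ∈ (J' • ⊤ : Submodule A M), ∃ w, ev' w = n := fun n hn => by
      induction hn using Submodule.smul_induction_on' with
      | smul a ha y _ => exact ⟨(⟨a, ha⟩ : J') ⊗ₜ y, by simp [ev']⟩
      | add p _ q _ hp hq =>
        obtain ⟨a, rfl⟩ := hp; obtain ⟨b, rfl⟩ := hq
        exact ⟨a + b, map_add _ _ _⟩
    have hswap : ∀ u : J' ⊗[A] M, (⟨x, hxJ⟩ : J) ⊗ₜ[A] ev' u = i.rTensor M (x • u) := fun u => by
      induction u using TensorProduct.induction_on with
      | zero => simp
      | tmul a m =>
        have e : ev' (a ⊗ₜ m) = (a : A) • m := by simp [ev']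
        rw [e, map_smul, LinearMap.rTensor_tmul, ← TensorProduct.smul_tmul, TensorProduct.smul_tmul' x]
        congr 1
        exact Subtype.ext (mul_comm _ _)
      | add p q hp hq => rw [map_add, TensorProduct.tmul_add, hp, hq, smul_add, map_add]
    rw [injective_iff_map_eq_zero]
    intro z hz
    obtain ⟨w, m, rfl⟩ := hdec z
    have h0 : ev (i.rTensor M w + (⟨x, hxJ⟩ : J) ⊗ₜ[A] m) = 0 := by
      simp only [ev, LinearMap.comp_apply]; rw [hz, map_zero]
    rw [map_add, hev, show ev ((⟨x, hxJ⟩ : J) ⊗ₜ[A] m) = x • m by simp [ev]] at h0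
    have hm : m ∈ (J' • ⊤ : Submodule A M) := by
      refine (Submodule.Quotient.mk_eq_zero _).mp (hx.right_eq_zero_of_smul ?_)
      rw [← Submodule.Quotient.mk_smul, Submodule.Quotient.mk_eq_zero, eq_neg_of_add_eq_zero_right h0]
      exact neg_mem (hmem w)
    obtain ⟨u, rfl⟩ := hsurj m hm
    rw [hswap, ← map_add]
    have : w + x • u = 0 := ih hys ((TensorProduct.lid A M).injective (by
      rw [map_zero, map_zero]
      show ev' (w + x • u) = 0
      rw [map_add, map_smul, h0]))
    rw [this, map_zero]

/-- Miracle flatness: a Cohen–Macaulay module of the expected dimension over a regular base is flat. -/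
theorem flat_of_isCM {A B : Type u} [CommRing A] [CommRing B] [IsRegularLocalRing A] [IsNoetherianRing B]
    [IsLocalRing B] [Algebra A B] [IsLocalHom (algebraMap A B)]
    {M : Type u} [AddCommGroup M] [Module B M] [Module A M] [IsScalarTower A B M] [Module.Finite B M]
    (hCM : LocCoh.IsCohenMacaulayModule B M)
    (hdim : Module.supportDim B M = ringKrullDim A + Module.supportDim B (M ⧸ mN A B M)) :
    Module.Flat A M := by
  haveI := LC.nontrivial_of_isCM M hCM
  obtain ⟨rs, hreg, hm⟩ := RegLoc6.exists_regularSequence_maximalIdeal A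
  have hmem : ∀ r ∈ rs, r ∈ IsLocalRing.maximalIdeal A := fun r hr => hm ▸ Ideal.subset_span hr
  have hlen : ((rs.length : ℕ) : WithBot ℕ∞) = ringKrullDim A := by
    have h := Module.supportDim_add_length_eq_supportDim_of_isRegular rs hreg
    have he := Module.supportDim_eq_of_equiv (Submodule.quotEquivOfEq
      (Ideal.ofList rs • ⊤ : Submodule A A) (IsLocalRing.maximalIdeal A)
      (by rw [hm, Ideal.smul_eq_mul, Ideal.mul_top]))
    rw [he, Module.supportDim_self_eq_ringKrullDim, Module.supportDim_eq_ringKrullDim_quotient_annihilator,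
      Ideal.annihilator_quotient] at h
    letI := Ideal.Quotient.field (IsLocalRing.maximalIdeal A)
    rw [ringKrullDim_eq_zero_of_field, zero_add] at h
    exact h
  set I : Ideal B := (IsLocalRing.maximalIdeal A).map (algebraMap A B) with hI
  have hIm : I ≤ IsLocalRing.maximalIdeal B := IsLocalRing.map_maximalIdeal_le (algebraMap A B)
  have hI1 : I ≠ ⊤ := fun h => (IsLocalRing.maximalIdeal.isMaximal B).ne_top (top_le_iff.mp (h ▸ hIm))
  have h := LC.supportDim_eq_add_idealDepth M hCM hI1
  haveI : Nontrivial (M ⧸ mN A B M) := nontrivial_quot_mN M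
  obtain ⟨b, hb⟩ := LC.exists_supportDim_eq_nat (R := B) (M ⧸ mN A B M)
  have hlist : I = Ideal.ofList (rs.map (algebraMap A B)) := by rw [← Ideal.map_ofList, hm]
  have hmem' : ∀ r ∈ rs.map (algebraMap A B), r ∈ IsLocalRing.maximalIdeal B := fun r hr => by
    obtain ⟨a, ha, rfl⟩ := List.mem_map.mp hr
    exact map_nonunit (algebraMap A B) a (hmem a ha)
  have hdep : LocCoh.idealDepth I M = rs.length := by
    rw [hdim, ← hlen] at h
    change ((rs.length : ℕ) : WithBot ℕ∞) + Module.supportDim B (M ⧸ mN A B M) =
      Module.supportDim B (M ⧸ mN A B M) + _ at h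
    rw [hb] at h
    have hle : LocCoh.idealDepth I M ≤ rs.length := by
      rw [hlist]
      simpa using LC.idealDepth_ofList_le_length (M := M) _ hmem'
    obtain ⟨e, he⟩ := ENat.ne_top_iff_exists.mp (ne_top_of_le_ne_top (ENat.natCast_ne_top _) hle)
    rw [← he] at h ⊢
    norm_cast at h ⊢
    omega
  rw [hlist] at hdep
  have hwB := (LC.idealDepth_ofList_eq_length_iff (rs.map (algebraMap A B)) hmem').mp (by simpa using hdep)
  have hwA : IsWeaklyRegular M rs := (isWeaklyRegular_map_algebraMap_iff B M rs).mp hwB
  refine LocalCrit.flat_of_le_jacobson (B := B) (IsLocalRing.maximalIdeal A)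
    (hIm.trans (IsLocalRing.maximalIdeal_le_jacobson ⊥)) ?_
    (LocalCrit.keepsInjective_of_isMaximal _ M)
  rw [← hm]
  exact rTensor_ofList_injective rs hwA

end Groth.Agent.FlatLoc6
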