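import Groth.Prelude.Def_EGA4b
import Groth.Agent.LC.DepthExt
import Groth.Agent.Hensel.DepthFlat
import Mathlib.RingTheory.LocalRing.Module

/-!
# Depth along a normally flat nilpotent ideal
-/

namespace Groth.Agent.FlatLoc6

universe u

open CategoryTheory IsLocalRing

variable {R : Type u} [CommRing R] [IsNoetherianRing R] [IsLocalRing R]

theorem depth_top_of_subsingleton (M : Type u) [AddCommGroup M] [Module R M] [Subsingleton M] :
    LocCoh.depth R M = ⊤ := by
  rw [LocCoh.depth, LocCoh.idealDepth, if_pos (Subsingleton.elim _ _)]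

/-- The depth of an extension. -/
theorem depth_extension {X Y Z : Type u} [AddCommGroup X] [Module R X] [AddCommGroup Y] [Module R Y]
    [AddCommGroup Z] [Module R Z] [Module.Finite R X] [Module.Finite R Y] [Module.Finite R Z]
    (f : X →ₗ[R] Y) (g : Y →ₗ[R] Z) (hf : Function.Injective f) (hfg : Function.Exact f g)
    (hg : Function.Surjective g) {d : ℕ∞} (hX : LocCoh.depth R X = d) (hZ : d ≤ LocCoh.depth R Z) :
    LocCoh.depth R Y = d := by
  let S : ShortComplex (ModuleCat.{u} R) :=
    ShortComplex.mk (ModuleCat.ofHom f) (ModuleCat.ofHom g) (by ext x; exact hfg.apply_apply_eq_zero x)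
  have hS : S.ShortExact :=
    { exact := (ShortComplex.ShortExact.moduleCat_exact_iff_function_exact S).mpr hfg
      mono_f := (ModuleCat.mono_iff_injective _).mpr hf
      epi_g := (ModuleCat.epi_iff_surjective _).mpr hg }
  unfold LocCoh.depth at hX hZ ⊢
  set m := IsLocalRing.maximalIdeal R
  have hge : d ≤ LocCoh.idealDepth m Y := ENat.forall_natCast_le_iff_le.1 fun n hn =>
    (LC.le_idealDepth_iff_ext m Y n).mpr fun i hi =>
      LC.ext_subsingleton_X₂ hS _ i ((LC.le_idealDepth_iff_ext m X n).mp (hn.trans hX.ge) i hi)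
        ((LC.le_idealDepth_iff_ext m Z n).mp (hn.trans hZ) i hi)
  refine le_antisymm ?_ hge
  by_contra hcon
  rw [not_le] at hcon
  obtain ⟨n, rfl⟩ := ENat.ne_top_iff_exists.mp (ne_top_of_lt hcon)
  have h1 : ((n + 1 : ℕ) : ℕ∞) ≤ LocCoh.idealDepth m X := by
    refine (LC.le_idealDepth_iff_ext m X (n + 1)).mpr fun i hi => ?_
    have h2 := (LC.le_idealDepth_iff_ext m Y (n + 1)).mp (by
      rw [Nat.cast_add, Nat.cast_one]; exact Order.add_one_le_of_lt hcon)
    rcases i with _ | i
    · haveI : Mono (ModuleCat.ofHom f) := (ModuleCat.mono_iff_injective _).mpr hf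
      exact LC.ext_zero_subsingleton_of_injective _ (ModuleCat.ofHom f) (h2 0 hi)
    · exact LC.ext_subsingleton_X₁ hS _ i (h2 (i + 1) hi)
        ((LC.le_idealDepth_iff_ext m Z n).mp hZ i (by omega))
  rw [hX, Nat.cast_le] at h1
  omega

/-- A finite free module has the depth of the ring of coefficients. -/
theorem depth_pi (Q : Type u) [AddCommGroup Q] [Module R Q] [Module.Finite R Q] :
    ∀ k : ℕ, LocCoh.depth R (Fin (k + 1) → Q) = LocCoh.depth R Q := by
  intro k
  induction k with
  | zero => exact Hensel.depth_congr (LinearEquiv.funUnique (Fin 1) R Q)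
  | succ k ih =>
    refine depth_extension (LinearMap.single R (fun _ : Fin (k + 2) => Q) 0)
      (LinearMap.funLeft R Q Fin.succ) (fun a b h => Pi.single_injective (M := fun _ : Fin (k + 2) => Q) 0 h) ?_ ?_ rfl ih.ge
    · intro v
      constructor
      · intro h
        refine ⟨v 0, funext fun i => ?_⟩
        refine Fin.cases ?_ (fun j => ?_) i
        · simp
        · have := congrFun h j
          simpa using this.symm
      · rintro ⟨w, rfl⟩
        exact funext fun j => by simp [LinearMap.funLeft]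
    · exact LinearMap.funLeft_surjective_of_injective _ _ _ (Fin.succ_injective _)

variable (I : Ideal R) (M : Type u) [AddCommGroup M] [Module R M] [Module.Finite R M]

/-- A nonzero flat piece is free of depth `depth (R / I)`. -/
theorem depth_flat_piece (hI : I ≤ maximalIdeal R) (P : Type u) [AddCommGroup P] [Module R P]
    [Module (R ⧸ I) P] [IsScalarTower R (R ⧸ I) P] [Module.Finite R P] [Module.Flat (R ⧸ I) P] :
    (Nontrivial P → LocCoh.depth R P = LocCoh.depth R (R ⧸ I) ∧ Module.annihilator R P ≤ I) ∧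
      LocCoh.depth R (R ⧸ I) ≤ LocCoh.depth R P := by
  rcases subsingleton_or_nontrivial P with h | h
  · exact ⟨fun h' => absurd h (not_subsingleton_iff_nontrivial.mpr h'), by rw [depth_top_of_subsingleton P]; exact le_top⟩
  haveI : Nontrivial (R ⧸ I) := Ideal.Quotient.nontrivial_iff.mpr
    (ne_top_of_le_ne_top (maximalIdeal.isMaximal R).ne_top hI)
  haveI : IsLocalRing (R ⧸ I) := IsLocalRing.of_surjective' _ Ideal.Quotient.mk_surjective
  haveI : Module.Finite (R ⧸ I) P := Module.Finite.of_restrictScalars_finite R (R ⧸ I) P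
  haveI : Module.Free (R ⧸ I) P := Module.free_of_flat_of_isLocalRing
  let b := Module.finBasis (R ⧸ I) P
  obtain ⟨k, hk⟩ := Nat.exists_eq_succ_of_ne_zero (Fin.pos_iff_nonempty.mpr b.index_nonempty).ne'
  let e : P ≃ₗ[R] (Fin (k + 1) → R ⧸ I) :=
    ((b.reindex (finCongr hk)).equivFun).restrictScalars R
  have hd : LocCoh.depth R P = LocCoh.depth R (R ⧸ I) := (Hensel.depth_congr e).trans (depth_pi (R ⧸ I) k)
  refine ⟨fun _ => ⟨hd, fun a ha => ?_⟩, hd.ge⟩
  rw [e.annihilator_eq, Module.mem_annihilator] at ha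
  refine Ideal.Quotient.eq_zero_iff_mem.mp ?_
  simpa [Algebra.smul_def] using congrFun (ha fun _ => 1) 0

/-- The submodules `I ^ n M` of a normally flat module along a nilpotent ideal. -/
theorem depth_normallyFlat (hI : I ≤ maximalIdeal R) (hM : EGA4.IsNormallyFlat I M) (N : ℕ)
    (hN : I ^ N = ⊥) : ∀ j n : ℕ, N ≤ n + j → Nontrivial ↥(I ^ n • (⊤ : Submodule R M)) →
      LocCoh.depth R ↥(I ^ n • (⊤ : Submodule R M)) = LocCoh.depth R (R ⧸ I) := by
  intro j
  induction j with
  | zero =>
    intro n hn h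
    exfalso
    have h0 : (I ^ n • (⊤ : Submodule R M)) = ⊥ := by
      rw [eq_bot_iff]
      refine (Submodule.smul_mono_left ((Ideal.pow_le_pow_right (by omega)).trans hN.le)).trans ?_
      rw [Submodule.bot_smul]
    rw [h0] at h
    exact not_nontrivial _ h
  | succ j ih =>
    intro n hn h
    set X := I ^ n • (⊤ : Submodule R M) with hX
    haveI := hM n
    obtain ⟨hP1, hP2⟩ := depth_flat_piece I hI (↥X ⧸ (I • ⊤ : Submodule R ↥X))
    have hne : (I • ⊤ : Submodule R ↥X) ≠ ⊤ := fun e =>
      Submodule.top_ne_ideal_smul_of_le_jacobson_annihilator (M := ↥X)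
        (hI.trans (maximalIdeal_le_jacobson _)) e.symm
    rcases subsingleton_or_nontrivial ↥(I • ⊤ : Submodule R ↥X) with hs | hs
    · have e := Submodule.quotEquivOfEqBot (I • ⊤ : Submodule R ↥X) (Submodule.subsingleton_iff_eq_bot.mp hs)
      rw [← Hensel.depth_congr e]
      exact (hP1 (Submodule.Quotient.nontrivial_iff.mpr hne)).1
    · have hmap : (I • ⊤ : Submodule R ↥X).map X.subtype = I ^ (n + 1) • (⊤ : Submodule R M) := by
        rw [Submodule.map_smul'', Submodule.map_top, Submodule.range_subtype, hX, pow_succ', Submodule.mul_smul]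
      let e : ↥(I • ⊤ : Submodule R ↥X) ≃ₗ[R] ↥(I ^ (n + 1) • (⊤ : Submodule R M)) :=
        (Submodule.equivMapOfInjective X.subtype X.subtype_injective _).trans (LinearEquiv.ofEq _ _ hmap)
      refine depth_extension (I • ⊤ : Submodule R ↥X).subtype (Submodule.mkQ _) (Submodule.subtype_injective _)
        (LinearMap.exact_subtype_mkQ _) (Submodule.mkQ_surjective _) ?_ hP2
      rw [Hensel.depth_congr e]
      exact ih (n + 1) (by omega) e.toEquiv.symm.nontrivial

end Groth.Agent.FlatLoc6
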