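import Groth.Agent.FlatLoc6.Regular
import Groth.Agent.LC.ExtDim
import Groth.Agent.Hensel.DepthFlat
import Groth.Agent.Alg6.LocLoc
import Groth.Prelude.Def_EGA4b

/-!
# Depth of `N ⊗ M` for `N` flat over the base
-/

namespace Groth.Agent.FlatLoc6

universe u

open IsLocalRing TensorProduct
open scoped Pointwise

variable {A B : Type u} [CommRing A] [CommRing B] [Algebra A B]
variable [IsLocalRing A] [IsLocalRing B] [IsLocalHom (algebraMap A B)]
variable [IsNoetherianRing A] [IsNoetherianRing B]

instance finite_tensor_right (N M : Type u) [AddCommGroup N] [Module B N] [Module A N] [IsScalarTower A B N]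
    [Module.Finite B N] [AddCommGroup M] [Module A M] [Module.Finite A M] :
    Module.Finite B (N ⊗[A] M) :=
  LocalCrit.finite_tensor (C := B) N M

theorem mB_smul_ne_top (N : Type u) [AddCommGroup N] [Module B N] [Module.Finite B N] [Nontrivial N] :
    (maximalIdeal A).map (algebraMap A B) • (⊤ : Submodule B N) ≠ ⊤ := fun h =>
  Alg6.maximal_smul_top_ne_top (R := B) (M := N) (eq_top_iff.mpr (h.ge.trans
    (Submodule.smul_mono_left (IsLocalRing.map_maximalIdeal_le (algebraMap A B)))))

theorem nontrivial_quot_mN (N : Type u) [AddCommGroup N] [Module B N] [Module.Finite B N] [Nontrivial N] :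
    Nontrivial (N ⧸ mN A B N) :=
  Submodule.Quotient.nontrivial_iff.mpr (mB_smul_ne_top N)

omit [IsLocalRing B] [IsLocalHom (algebraMap A B)] [IsNoetherianRing A] [IsNoetherianRing B] in
/-- `N ⊗ k = N / m N`, linearly over the top ring. -/
theorem exists_residueEquiv (N : Type u) [AddCommGroup N] [Module B N] [Module A N] [IsScalarTower A B N] :
    Nonempty ((N ⊗[A] ResidueField A) ≃ₗ[B] (N ⧸ mN A B N)) := by
  let f : N →ₗ[B] N ⊗[A] ResidueField A :=
    { toFun := fun n => n ⊗ₜ[A] (1 : ResidueField A)
      map_add' := fun a b => TensorProduct.add_tmul a b _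
      map_smul' := fun b n => rfl }
  have hk : mN A B N = LinearMap.ker f := by
    ext n; exact (tmul_one_eq_zero_iff (B := B) n).symm
  exact ⟨((Submodule.quotEquivOfEq _ _ hk).trans
    (f.quotKerEquivOfSurjective fun x => exists_tmul_one x)).symm⟩

theorem nontrivial_tensor (N M : Type u) [AddCommGroup N] [Module B N] [Module A N] [IsScalarTower A B N]
    [Module.Finite B N] [Nontrivial N] [AddCommGroup M] [Module A M] [Module.Finite A M] [Nontrivial M] :
    Nontrivial (N ⊗[A] M) := by
  haveI : Nontrivial (M ⧸ (maximalIdeal A • ⊤ : Submodule A M)) :=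
    Submodule.Quotient.nontrivial_iff.mpr Alg6.maximal_smul_top_ne_top
  have hX : Module.IsTorsionBySet A (M ⧸ (maximalIdeal A • ⊤ : Submodule A M)) (maximalIdeal A : Set A) := by
    rintro q ⟨a, ha⟩
    obtain ⟨x, rfl⟩ := (maximalIdeal A • ⊤ : Submodule A M).mkQ_surjective q
    rw [← map_smul, Submodule.mkQ_apply, Submodule.Quotient.mk_eq_zero]
    exact Submodule.smul_mem_smul ha Submodule.mem_top
  letI : Module (ResidueField A) (M ⧸ (maximalIdeal A • ⊤ : Submodule A M)) := hX.module
  haveI : IsScalarTower A (ResidueField A) (M ⧸ (maximalIdeal A • ⊤ : Submodule A M)) := hX.isScalarTower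
  let b := Module.Free.chooseBasis (ResidueField A) (M ⧸ (maximalIdeal A • ⊤ : Submodule A M))
  obtain ⟨i⟩ := b.index_nonempty
  let p : M →ₗ[A] ResidueField A :=
    ((b.coord i).restrictScalars A).comp (Submodule.mkQ _)
  have hp : Function.Surjective p := fun c => by
    obtain ⟨x, hx⟩ := Submodule.mkQ_surjective _ (c • b i)
    exact ⟨x, by simp [p, hx]⟩
  obtain ⟨e⟩ := exists_residueEquiv (A := A) (B := B) N
  haveI := nontrivial_quot_mN (A := A) (B := B) N
  haveI : Nontrivial (N ⊗[A] ResidueField A) := e.toEquiv.nontrivial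
  exact (LinearMap.lTensor_surjective N hp).nontrivial

variable {N : Type u} [AddCommGroup N] [Module B N] [Module A N] [IsScalarTower A B N]
  [Module.Finite B N] [Module.Flat A N]

/-- Reduction of the tensor product along a map of the right factor. -/
theorem exists_quot_right {x : A} (M : Type u) [AddCommGroup M] [Module A M] :
    Nonempty (QuotSMulTop (algebraMap A B x) (N ⊗[A] M) ≃ₗ[B] N ⊗[A] QuotSMulTop x M) := by
  let π : N ⊗[A] M →ₗ[B] N ⊗[A] QuotSMulTop x M := tmap N (Submodule.mkQ _)
  have hπ : Function.Surjective π := fun z => by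
    obtain ⟨w, hw⟩ := LinearMap.lTensor_surjective N (Submodule.mkQ_surjective _) z
    exact ⟨w, (tmap_apply _ w).trans hw⟩
  have hex : Function.Exact (LinearMap.lsmul A M x) (Submodule.mkQ (x • (⊤ : Submodule A M))) := by
    intro m
    rw [Submodule.mkQ_apply, Submodule.Quotient.mk_eq_zero, Submodule.mem_smul_pointwise_iff_exists]
    exact ⟨fun ⟨k, _, hk⟩ => ⟨k, hk⟩, fun ⟨k, hk⟩ => ⟨k, Submodule.mem_top, hk⟩⟩
  have hk : (algebraMap A B x) • (⊤ : Submodule B (N ⊗[A] M)) = LinearMap.ker π := by
    ext z
    rw [LinearMap.mem_ker, Submodule.mem_smul_pointwise_iff_exists]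
    show _ ↔ tmap N _ z = 0
    rw [tmap_apply, lTensor_exact N hex (Submodule.mkQ_surjective _) z, Set.mem_range]
    have e : ∀ w : N ⊗[A] M, (LinearMap.lsmul A M x).lTensor N w = algebraMap A B x • w := fun w => by
      induction w using TensorProduct.induction_on with
      | zero => simp
      | tmul n m => simp [TensorProduct.smul_tmul']
      | add p q hp hq => rw [map_add, hp, hq, smul_add]
    simp only [e, Submodule.mem_top, true_and]
  exact ⟨(Submodule.quotEquivOfEq _ _ hk).trans (π.quotKerEquivOfSurjective hπ)⟩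

theorem exists_quot_left_gen {Q : Type u} [AddCommGroup Q] [Module B Q] [Module A Q] [IsScalarTower A B Q]
    (q : N →ₗ[B] Q) (hq : Function.Surjective q) (y : B) (hker : ∀ n, q n = 0 ↔ ∃ k, y • k = n)
    (M : Type u) [AddCommGroup M] [Module A M] :
    Nonempty (QuotSMulTop y (N ⊗[A] M) ≃ₗ[B] Q ⊗[A] M) := by
  let π : N ⊗[A] M →ₗ[B] Q ⊗[A] M := AlgebraTensorModule.map q LinearMap.id
  have hπ' : ∀ z, π z = (q.restrictScalars A).rTensor M z := fun z => by
    induction z using TensorProduct.induction_on with
    | zero => simp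
    | tmul n m => simp [π]
    | add p r hp hr => rw [map_add, map_add, hp, hr]
  have hπ : Function.Surjective π := fun z => by
    obtain ⟨w, hw⟩ := LinearMap.rTensor_surjective M (g := q.restrictScalars A) hq z
    exact ⟨w, (hπ' w).trans hw⟩
  let μ : N →ₗ[A] N := (LinearMap.lsmul B N y).restrictScalars A
  have hex : Function.Exact μ (q.restrictScalars A) := fun m => hker m
  have hk : y • (⊤ : Submodule B (N ⊗[A] M)) = LinearMap.ker π := by
    ext z
    rw [LinearMap.mem_ker, Submodule.mem_smul_pointwise_iff_exists, hπ',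
      rTensor_exact M hex hq z, Set.mem_range]
    have e : ∀ w : N ⊗[A] M, μ.rTensor M w = y • w := fun w => by
      induction w using TensorProduct.induction_on with
      | zero => simp
      | tmul n m => simp [μ, TensorProduct.smul_tmul']
      | add p r hp hr => rw [map_add, hp, hr, smul_add]
    simp only [e, Submodule.mem_top, true_and]
  exact ⟨(Submodule.quotEquivOfEq _ _ hk).trans (π.quotKerEquivOfSurjective hπ)⟩

/-- Reduction of the tensor product along an element of the top ring. -/
theorem exists_quot_left (y : B) (M : Type u) [AddCommGroup M] [Module A M] :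
    Nonempty (QuotSMulTop y (N ⊗[A] M) ≃ₗ[B] (QuotSMulTop y N) ⊗[A] M) :=
  exists_quot_left_gen (Submodule.mkQ _) (Submodule.mkQ_surjective _) y (fun n => by
    rw [Submodule.mkQ_apply, Submodule.Quotient.mk_eq_zero, Submodule.mem_smul_pointwise_iff_exists]
    exact ⟨fun ⟨k, _, hk⟩ => ⟨k, hk⟩, fun ⟨k, hk⟩ => ⟨k, Submodule.mem_top, hk⟩⟩) M

omit [IsLocalRing B] [IsLocalHom (algebraMap A B)] [IsNoetherianRing A] [IsNoetherianRing B] [Module A N]
  [IsScalarTower A B N] [Module.Finite B N] [Module.Flat A N] in
theorem exists_quot_fibre (y : B) :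
    Nonempty (QuotSMulTop y (N ⧸ mN A B N) ≃ₗ[B] (QuotSMulTop y N ⧸ mN A B (QuotSMulTop y N))) := by
  let J : Ideal B := (maximalIdeal A).map (algebraMap A B)
  let f : N →ₗ[B] QuotSMulTop y (N ⧸ mN A B N) := (Submodule.mkQ _).comp (Submodule.mkQ _)
  let g : N →ₗ[B] QuotSMulTop y N ⧸ mN A B (QuotSMulTop y N) := (Submodule.mkQ _).comp (Submodule.mkQ _)
  have hf : LinearMap.ker f = J • ⊤ ⊔ y • ⊤ := by
    rw [LinearMap.ker_comp, Submodule.ker_mkQ,
      show y • (⊤ : Submodule B (N ⧸ mN A B N)) = Submodule.map (Submodule.mkQ _) (y • ⊤) by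
        rw [Submodule.map_pointwise_smul, Submodule.map_top, Submodule.range_mkQ],
      Submodule.comap_map_mkQ]
  have hg : LinearMap.ker g = J • ⊤ ⊔ y • ⊤ := by
    rw [LinearMap.ker_comp, Submodule.ker_mkQ,
      show mN A B (QuotSMulTop y N) = Submodule.map (Submodule.mkQ _) (J • ⊤) by
        rw [Submodule.map_smul'', Submodule.map_top, Submodule.range_mkQ],
      Submodule.comap_map_mkQ, sup_comm]
  exact ⟨((f.quotKerEquivOfSurjective
      ((Submodule.mkQ_surjective _).comp (Submodule.mkQ_surjective _))).symm.trans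
    (Submodule.quotEquivOfEq _ _ (hf.trans hg.symm))).trans
    (g.quotKerEquivOfSurjective ((Submodule.mkQ_surjective _).comp (Submodule.mkQ_surjective _)))⟩

omit [IsNoetherianRing B] in
theorem map_mem {x : A} (hx : x ∈ maximalIdeal A) : algebraMap A B x ∈ maximalIdeal B :=
  map_nonunit (algebraMap A B) x hx

/-- Depth of `N ⊗ M`, computed over the top ring. -/
theorem depth_tensor_aux : ∀ (n : ℕ) (M N : Type u) [AddCommGroup M] [Module A M] [Module.Finite A M]
    [Nontrivial M] [AddCommGroup N] [Module B N] [Module A N] [IsScalarTower A B N] [Module.Finite B N]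
    [Nontrivial N] [Module.Flat A N] (a b : ℕ), a + b = n → LocCoh.depth A M = a →
    LocCoh.depth B (N ⧸ mN A B N) = b → LocCoh.depth B (N ⊗[A] M) = ((a + b : ℕ) : ℕ∞) := by
  intro n
  induction n with
  | zero =>
    intro M N _ _ _ _ _ _ _ _ _ _ _ a b hab ha hb
    obtain ⟨rfl, rfl⟩ : a = 0 ∧ b = 0 := by omega
    haveI := nontrivial_tensor (A := A) (B := B) N M
    have hassM : maximalIdeal A ∈ associatedPrimes A M := by
      by_contra h
      have := Alg6.one_le_depth_iff.mpr h
      rw [ha] at this; simp at this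
    have hassN : maximalIdeal B ∈ associatedPrimes B (N ⧸ mN A B N) := by
      by_contra h
      have := Alg6.one_le_depth_iff.mpr h
      rw [hb] at this; simp at this
    obtain ⟨-, z, hz⟩ := Alg6.mem_ass_iff.mp hassM
    let ι : ResidueField A →ₗ[A] M := Submodule.liftQ (maximalIdeal A) (LinearMap.toSpanSingleton A M z)
      fun a ha => (hz a).mp ha
    have hι : Function.Injective ι := by
      rw [injective_iff_map_eq_zero]
      intro c hc
      obtain ⟨c, rfl⟩ := IsLocalRing.residue_surjective c
      exact Ideal.Quotient.eq_zero_iff_mem.mpr ((hz c).mpr hc)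
    obtain ⟨e⟩ := exists_residueEquiv (A := A) (B := B) N
    have hj : Function.Injective ((tmap (B := B) N ι).comp e.symm.toLinearMap) := by
      intro p q hpq
      simp only [LinearMap.comp_apply, LinearEquiv.coe_coe, tmap_apply] at hpq
      exact e.symm.injective (Module.Flat.lTensor_preserves_injective_linearMap ι hι hpq)
    have h2 := associatedPrimes.subset_of_injective hj hassN
    obtain ⟨m, hm⟩ := LC.exists_depth_eq_nat (R := B) (N ⊗[A] M)
    rw [hm]
    by_contra hne
    have hm1 : (1 : ℕ∞) ≤ LocCoh.depth B (N ⊗[A] M) := by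
      rw [hm]
      exact_mod_cast (Nat.one_le_iff_ne_zero.mpr fun h => hne (by simp [h]))
    exact Alg6.one_le_depth_iff.mp hm1 h2
  | succ n ih =>
    intro M N _ _ _ _ _ _ _ _ _ _ _ a b hab ha hb
    by_cases ha0 : a = 0
    · subst ha0
      obtain ⟨b, rfl⟩ : ∃ b', b = b' + 1 := ⟨b - 1, by omega⟩
      haveI := nontrivial_quot_mN (A := A) (B := B) N
      have h1 : maximalIdeal B ∉ associatedPrimes B (N ⧸ mN A B N) :=
        Alg6.one_le_depth_iff.mp (by rw [hb]; exact_mod_cast Nat.le_add_left 1 b)
      obtain ⟨y, hy, hreg⟩ := (Alg6.exists_isSMulRegular_mem_iff (M := N ⧸ mN A B N) (maximalIdeal B)).mpr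
        (fun p hp hle => h1 (by
          rwa [(maximalIdeal.isMaximal B).eq_of_le (IsAssociatedPrime.isPrime hp).ne_top hle]))
      have hy' : RegFib A N y := regFib_iff.mpr hreg
      haveI : Module.Flat A (QuotSMulTop y N) := flat_quotSMulTop hy'
      haveI : Nontrivial (QuotSMulTop y N) :=
        Submodule.Quotient.nontrivial_iff.mpr fun h => Alg6.maximal_smul_top_ne_top (R := B) (M := N)
          (eq_top_iff.mpr (h.ge.trans (by
            rw [← Submodule.ideal_span_singleton_smul]
            exact Submodule.smul_mono_left (by simpa [Ideal.span_le] using hy))))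
      obtain ⟨e1⟩ := exists_quot_fibre (A := A) (N := N) y
      have hb' : LocCoh.depth B (QuotSMulTop y N ⧸ mN A B (QuotSMulTop y N)) = b := by
        have := LC.idealDepth_quotSMulTop_add_one (M := N ⧸ mN A B N) (maximalIdeal B) hy hreg
        rw [show LocCoh.idealDepth (maximalIdeal B) (N ⧸ mN A B N) = ((b + 1 : ℕ) : ℕ∞) from hb] at this
        rw [← Hensel.depth_congr e1]
        exact WithTop.add_right_cancel ENat.one_ne_top (by exact_mod_cast this)
      have hih := ih M (QuotSMulTop y N) 0 b (by omega) ha hb'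
      obtain ⟨e2⟩ := exists_quot_left (A := A) (N := N) y M
      rw [← Hensel.depth_congr e2] at hih
      have hlast := LC.idealDepth_quotSMulTop_add_one (M := N ⊗[A] M) (maximalIdeal B) hy (regular_tensor hy' M)
      unfold LocCoh.depth at hih ⊢
      rw [← hlast, hih]
      push_cast
      ring
    · obtain ⟨a, rfl⟩ : ∃ a', a = a' + 1 := ⟨a - 1, by omega⟩
      have h1 : maximalIdeal A ∉ associatedPrimes A M :=
        Alg6.one_le_depth_iff.mp (by rw [ha]; exact_mod_cast Nat.le_add_left 1 a)
      obtain ⟨x, hx, hreg⟩ := (Alg6.exists_isSMulRegular_mem_iff (M := M) (maximalIdeal A)).mpr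
        (fun p hp hle => h1 (by
          rwa [(maximalIdeal.isMaximal A).eq_of_le (IsAssociatedPrime.isPrime hp).ne_top hle]))
      haveI : Nontrivial (QuotSMulTop x M) :=
        Submodule.Quotient.nontrivial_iff.mpr fun h => Alg6.maximal_smul_top_ne_top (R := A) (M := M)
          (eq_top_iff.mpr (h.ge.trans (by
            rw [← Submodule.ideal_span_singleton_smul]
            exact Submodule.smul_mono_left (by simpa [Ideal.span_le] using hx))))
      have ha' : LocCoh.depth A (QuotSMulTop x M) = a := by
        have := LC.idealDepth_quotSMulTop_add_one (M := M) (maximalIdeal A) hx hreg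
        rw [show LocCoh.idealDepth (maximalIdeal A) M = ((a + 1 : ℕ) : ℕ∞) from ha] at this
        exact WithTop.add_right_cancel ENat.one_ne_top (by exact_mod_cast this)
      have hih := ih (QuotSMulTop x M) N a b (by omega) ha' hb
      obtain ⟨e2⟩ := exists_quot_right (B := B) (N := N) (x := x) M
      rw [← Hensel.depth_congr e2] at hih
      have hregT : IsSMulRegular (N ⊗[A] M) (algebraMap A B x) := fun p q hpq => hreg.lTensor N (by
        simpa only [algebraMap_smul] using hpq)
      have hlast := LC.idealDepth_quotSMulTop_add_one (M := N ⊗[A] M) (maximalIdeal B) (map_mem hx) hregT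
      unfold LocCoh.depth at hih ⊢
      rw [← hlast, hih]
      push_cast
      ring

omit [IsNoetherianRing A] [IsNoetherianRing B] in
/-- The depth of the fibre module may be computed over the top ring. -/
theorem depth_fibMod (N : Type u) [AddCommGroup N] [Module B N] :
    LocCoh.depth (EGA4.FibRing A B) (EGA4.FibMod A B N) = LocCoh.depth B (N ⧸ mN A B N) :=
  (Alg6.depth_eq_of_semilinear (Ideal.Quotient.mk (EGA4.mB A B)) Ideal.Quotient.mk_surjective
    (AddEquiv.refl (N ⧸ mN A B N)) fun r x => by
      obtain ⟨x, rfl⟩ := Submodule.Quotient.mk_surjective _ x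
      rfl).symm

/-- `depth (N ⊗ M) = depth M + depth (N / m N)`. -/
theorem depth_tensor (M : Type u) [AddCommGroup M] [Module A M] [Module.Finite A M] [Nontrivial M]
    [Nontrivial N] :
    LocCoh.depth B (N ⊗[A] M) =
      LocCoh.depth A M + LocCoh.depth (EGA4.FibRing A B) (EGA4.FibMod A B N) := by
  haveI := nontrivial_quot_mN (A := A) (B := B) N
  obtain ⟨a, ha⟩ := LC.exists_depth_eq_nat (R := A) M
  obtain ⟨b, hb⟩ := LC.exists_depth_eq_nat (R := B) (N ⧸ mN A B N)
  rw [depth_tensor_aux (a + b) M N a b rfl ha hb, depth_fibMod, ha, hb, Nat.cast_add]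

end Groth.Agent.FlatLoc6
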