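import Groth.Agent.FlatLoc6.SerreNormal
import Groth.Agent.RegLoc6.Open
import Groth.Agent.LC.DepthLoc
import Groth.Agent.LC.DepthExt
import Groth.Agent.FlatLoc6.EquidimCat

/-!
# Descending conditions from the quotient by a nonzerodivisor
-/

namespace Groth.Agent.FlatLoc6

universe u

open IsLocalRing
open scoped Pointwise

variable {A : Type u} [CommRing A] [IsNoetherianRing A]

/-- Depth, dimension and regularity across the quotient by a nonzerodivisor. -/
theorem cut_atPrime {t : A} (ht : t ∈ nonZeroDivisors A) (q : Ideal A) [q.IsPrime] (htq : t ∈ q) :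
    ∃ (q' : Ideal (A ⧸ Ideal.span {t})) (_ : q'.IsPrime), q'.comap (Ideal.Quotient.mk _) = q ∧
      LocCoh.depth (Localization.AtPrime q') (Localization.AtPrime q') + 1 =
        LocCoh.depth (Localization.AtPrime q) (Localization.AtPrime q) ∧
      q'.height + 1 = q.height ∧
      (IsRegularLocalRing (Localization.AtPrime q') → IsRegularLocalRing (Localization.AtPrime q)) := by
  have hle : Ideal.span {t} ≤ q := (Ideal.span_singleton_le_iff_mem q).mpr htq
  haveI hq' : (q.map (Ideal.Quotient.mk (Ideal.span {t}))).IsPrime :=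
    Ideal.map_isPrime_of_surjective Ideal.Quotient.mk_surjective (by rw [Ideal.mk_ker]; exact hle)
  set q' := q.map (Ideal.Quotient.mk (Ideal.span {t}))
  have hc : q'.comap (Ideal.Quotient.mk _) = q := by
    rw [Ideal.comap_map_of_surjective' _ Ideal.Quotient.mk_surjective, Ideal.mk_ker, sup_eq_left.mpr hle]
  refine ⟨q', hq', hc, ?_⟩
  let R := Localization.AtPrime q
  haveI : IsNoetherianRing R := IsLocalization.isNoetherianRing q.primeCompl R inferInstance
  let τ : R := algebraMap A R t
  have hτ : τ ∈ maximalIdeal R := (IsLocalization.AtPrime.to_map_mem_maximal_iff R q t).mpr htq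
  have hτreg : IsSMulRegular R τ := by
    have h := Alg6.isSMulRegular_localized (M := A) q (Module.Flat.isSMulRegular_of_nonZeroDivisors ht)
    intro x y hxy
    apply (LC.selfLoc q.primeCompl).symm.injective
    refine h ?_
    have h3 := congrArg (LC.selfLoc q.primeCompl).symm hxy
    rwa [map_smul, map_smul] at h3
  obtain ⟨ψ⟩ := RegLoc6.exists_quotLocalEquiv (Ideal.span {t}) q q' hc
  have hI : (Ideal.span {t}).map (algebraMap A R) = Ideal.span {τ} := by
    rw [Ideal.map_span, Set.image_singleton]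
  let φ : (R ⧸ Ideal.span {τ}) ≃+* Localization.AtPrime q' := (Ideal.quotEquivOfEq hI.symm).trans ψ
  refine ⟨?_, ?_, fun h => ?_⟩
  · unfold LocCoh.depth
    rw [← LC.idealDepth_quotSMulTop_add_one (maximalIdeal R) hτ hτreg]
    congr 1
    let e₁ : QuotSMulTop τ R ≃ₗ[R] R ⧸ Ideal.span {τ} :=
      Submodule.quotEquivOfEq _ _ (by rw [← Submodule.ideal_span_singleton_smul, Ideal.smul_eq_mul, Ideal.mul_top])
    exact ((LC.idealDepth_congr _ e₁).trans (Alg6.depth_eq_of_semilinear
      (φ.toRingHom.comp (Ideal.Quotient.mk _)) (φ.surjective.comp Ideal.Quotient.mk_surjective) φ.toAddEquiv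
      fun r x => by
        obtain ⟨x, rfl⟩ := Ideal.Quotient.mk_surjective x
        exact map_mul φ (Ideal.Quotient.mk _ r) (Ideal.Quotient.mk _ x))).symm
  · have h := ringKrullDim_quotient_span_singleton_succ_eq_ringKrullDim hτreg hτ
    rw [ringKrullDim_eq_of_ringEquiv φ, IsLocalization.AtPrime.ringKrullDim_eq_height q' (Localization.AtPrime q'),
      IsLocalization.AtPrime.ringKrullDim_eq_height q R, ← WithBot.coe_one, ← WithBot.coe_add, WithBot.coe_inj] at h
    exact h
  · haveI := h
    haveI : IsRegularLocalRing (R ⧸ Ideal.span {τ}) := .of_ringEquiv φ.symm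
    exact RegLoc6.of_quotient hτ hτreg

/-- For a prime missing `t`, a prime covering it and containing `t`. -/
theorem exists_cover [IsLocalRing A] {t : A} (htm : t ∈ maximalIdeal A) (p : Ideal A) [hp : p.IsPrime] (htp : t ∉ p) :
    ∃ (q : Ideal A) (_ : q.IsPrime), p ≤ q ∧ t ∈ q ∧ p.height + 1 ≤ q.height ∧
      LocCoh.depth (Localization.AtPrime q) (Localization.AtPrime q) ≤
        LocCoh.depth (Localization.AtPrime p) (Localization.AtPrime p) + 1 := by
  obtain ⟨q, hq, -⟩ := Ideal.exists_minimalPrimes_le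
    (sup_le (IsLocalRing.le_maximalIdeal hp.ne_top) ((Ideal.span_singleton_le_iff_mem _).2 htm))
  haveI := hq.1.1
  have hpq : p ≤ q := le_sup_left.trans hq.1.2
  have htq : t ∈ q := hq.1.2 (Ideal.mem_sup_right (Ideal.mem_span_singleton_self t))
  refine ⟨q, inferInstance, hpq, htq, ?_, ?_⟩
  · have hlt : (⟨p, hp⟩ : PrimeSpectrum A) < ⟨q, inferInstance⟩ :=
      lt_of_le_of_ne hpq fun e => htp (show t ∈ (⟨p, hp⟩ : PrimeSpectrum A).asIdeal by rw [e]; exact htq)
    rw [(⟨p, hp⟩ : PrimeSpectrum A).height_eq_orderHeight, (⟨q, inferInstance⟩ : PrimeSpectrum A).height_eq_orderHeight]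
    exact Order.height_add_one_le hlt
  · have h := LC.depth_localized_le_add_height (M := A) p q hpq
    rw [depth_self_atPrime, depth_self_atPrime] at h
    refine h.trans (add_le_add le_rfl ?_)
    haveI : (q.map (Ideal.Quotient.mk p)).IsPrime :=
      Ideal.map_isPrime_of_surjective Ideal.Quotient.mk_surjective (by rw [Ideal.mk_ker]; exact hpq)
    have hmin : q.map (Ideal.Quotient.mk p) ∈ (Ideal.span {Ideal.Quotient.mk p t}).minimalPrimes := by
      refine ⟨⟨inferInstance, (Ideal.span_singleton_le_iff_mem _).2 (Ideal.mem_map_of_mem _ htq)⟩, fun r hr hle => ?_⟩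
      haveI := hr.1
      have h2 : q ≤ r.comap (Ideal.Quotient.mk p) := hq.2 ⟨inferInstance, sup_le
        (Ideal.mk_ker.symm.le.trans (Ideal.ker_le_comap _))
        ((Ideal.span_singleton_le_iff_mem _).2 (hr.2 (Ideal.mem_span_singleton_self _)))⟩
        ((Ideal.comap_mono hle).trans (by
          rw [Ideal.comap_map_of_surjective' _ Ideal.Quotient.mk_surjective, Ideal.mk_ker, sup_eq_left.mpr hpq]))
      exact (Ideal.map_mono h2).trans Ideal.map_comap_le
    exact Ideal.height_le_one_of_isPrincipal_of_mem_minimalPrimes _ _ hmin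

/-- `(S_k)` lifts from the quotient by a nonzerodivisor of the maximal ideal. -/
theorem sk_of_quotient [IsLocalRing A] (k : ℕ) {t : A} (htm : t ∈ maximalIdeal A) (ht : t ∈ nonZeroDivisors A)
    (hS : LocCoh.HasSk k (A ⧸ Ideal.span {t}) (A ⧸ Ideal.span {t})) : LocCoh.HasSk k A A := by
  rw [hasSk_self_iff] at hS ⊢
  have hin : ∀ (q : Ideal A) [q.IsPrime], t ∈ q → min ((k : ℕ∞) + 1) q.height ≤
      LocCoh.depth (Localization.AtPrime q) (Localization.AtPrime q) := by
    intro q _ htq
    obtain ⟨q', _, -, hd, hh, -⟩ := cut_atPrime ht q htq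
    rw [← hd, ← hh, min_add_add_right]
    exact add_le_add (hS q') le_rfl
  intro p hp
  by_cases htp : t ∈ p
  · exact (min_le_min_right _ le_self_add).trans (hin p htp)
  obtain ⟨q, _, -, htq, hh, hd⟩ := exists_cover htm p htp
  refine (ENat.add_le_add_iff_right ENat.one_ne_top).1 (le_trans ?_ hd)
  refine le_trans ?_ (hin q htq)
  rw [← min_add_add_right]
  exact min_le_min_left _ hh

end Groth.Agent.FlatLoc6
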