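import Groth.Agent.FlatLoc6.Depth
import Mathlib.RingTheory.LocalRing.Module
import Mathlib.RingTheory.Ideal.AssociatedPrime.Localization
import Mathlib.RingTheory.Ideal.KrullsHeightTheorem
import Mathlib.RingTheory.KrullDimension.NonZeroDivisors

/-!
# Support and dimension of `N ⊗ M` for `N` flat over the base
-/

namespace Groth.Agent.FlatLoc6

universe u

open TensorProduct

variable {A B : Type u} [CommRing A] [CommRing B] [Algebra A B]
variable {N : Type u} [AddCommGroup N] [Module B N] [Module A N] [IsScalarTower A B N]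
variable {M : Type u} [AddCommGroup M] [Module A M]

/-- A point of the support carries a nonzero functional to its residue field. -/
theorem exists_functional {R : Type u} [CommRing R] {X : Type u} [AddCommGroup X] [Module R X]
    [Module.Finite R X] {q : PrimeSpectrum R} (hq : q ∈ Module.support R X) :
    ∃ f : X →ₗ[R] q.asIdeal.ResidueField, f ≠ 0 := by
  haveI := (Module.mem_support_iff_nontrivial_residueField_tensorProduct q).mp hq
  obtain ⟨z, hz⟩ := exists_ne (0 : q.asIdeal.ResidueField ⊗[R] X)
  obtain ⟨φ, hφ⟩ := Module.Projective.exists_dual_ne_zero q.asIdeal.ResidueField hz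
  refine ⟨(φ.restrictScalars R).comp (TensorProduct.mk R q.asIdeal.ResidueField X 1), fun h => hφ ?_⟩
  induction z using TensorProduct.induction_on with
  | zero => simp
  | tmul c x =>
    have h1 : φ (1 ⊗ₜ x) = 0 := LinearMap.congr_fun h x
    rw [show c ⊗ₜ[R] x = c • ((1 : q.asIdeal.ResidueField) ⊗ₜ[R] x) by rw [TensorProduct.smul_tmul', smul_eq_mul, mul_one],
      map_smul, h1, smul_zero]
  | add a b ha hb =>
    have h1 : ∀ w, φ w = 0 := fun w => by
      induction w using TensorProduct.induction_on with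
      | zero => simp
      | tmul c x =>
        rw [show c ⊗ₜ[R] x = c • ((1 : q.asIdeal.ResidueField) ⊗ₜ[R] x) by
          rw [TensorProduct.smul_tmul', smul_eq_mul, mul_one], map_smul,
          show φ (1 ⊗ₜ x) = 0 from LinearMap.congr_fun h x, smul_zero]
      | add a b ha hb => rw [map_add, ha, hb, add_zero]
    exact h1 _

theorem mem_support_of_functional {R : Type u} [CommRing R] {X : Type u} [AddCommGroup X] [Module R X]
    {q : PrimeSpectrum R} (F : X →ₗ[R] q.asIdeal.ResidueField) (x : X) (hx : F x ≠ 0) :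
    q ∈ Module.support R X :=
  Module.mem_support_iff'.mpr ⟨x, fun r hr h0 => by
    have h1 : F (r • x) = 0 := by rw [h0, map_zero]
    rw [map_smul, Algebra.smul_def, mul_eq_zero] at h1
    rcases h1 with h1 | h1
    · exact hr (Ideal.algebraMap_residueField_eq_zero.mp h1)
    · exact hx h1⟩

/-- The support of a tensor product. -/
theorem mem_support_tensor_iff [Module.Finite B N] [Module.Finite A M] (q : PrimeSpectrum B) :
    q ∈ Module.support B (N ⊗[A] M) ↔
      q ∈ Module.support B N ∧ PrimeSpectrum.comap (algebraMap A B) q ∈ Module.support A M := by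
  constructor
  · intro h
    obtain ⟨z, hz⟩ := Module.mem_support_iff'.mp h
    rw [Module.mem_support_iff_of_finite, Module.mem_support_iff_of_finite]
    refine ⟨fun b hb => ?_, fun a ha => ?_⟩
    · by_contra hq
      refine hz b hq ?_
      induction z using TensorProduct.induction_on with
      | zero => simp
      | tmul n m => rw [TensorProduct.smul_tmul', Module.mem_annihilator.mp hb n, TensorProduct.zero_tmul]
      | add p r _ _ =>
        have h0 : ∀ w : N ⊗[A] M, b • w = 0 := fun w => by
          induction w using TensorProduct.induction_on with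
          | zero => simp
          | tmul n m => rw [TensorProduct.smul_tmul', Module.mem_annihilator.mp hb n, TensorProduct.zero_tmul]
          | add p r hp hr => rw [smul_add, hp, hr, add_zero]
        exact h0 _
    · by_contra hq
      refine hz (algebraMap A B a) hq ?_
      have h0 : ∀ w : N ⊗[A] M, algebraMap A B a • w = 0 := fun w => by
        induction w using TensorProduct.induction_on with
        | zero => simp
        | tmul n m =>
          rw [TensorProduct.smul_tmul', algebraMap_smul, TensorProduct.smul_tmul,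
            Module.mem_annihilator.mp ha m, TensorProduct.tmul_zero]
        | add p r hp hr => rw [smul_add, hp, hr, add_zero]
      exact h0 _
  · rintro ⟨hN, hM⟩
    obtain ⟨f, hf⟩ := exists_functional hN
    obtain ⟨g, hg⟩ := exists_functional hM
    obtain ⟨n, hn⟩ : ∃ n, f n ≠ 0 := by by_contra h; push Not at h; exact hf (LinearMap.ext h)
    obtain ⟨m, hm⟩ : ∃ m, g m ≠ 0 := by by_contra h; push Not at h; exact hg (LinearMap.ext h)
    let j : (PrimeSpectrum.comap (algebraMap A B) q).asIdeal.ResidueField →ₐ[A] q.asIdeal.ResidueField :=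
      Ideal.ResidueField.mapₐ _ q.asIdeal (Algebra.ofId A B) rfl
    let F : N ⊗[A] M →ₗ[B] q.asIdeal.ResidueField := AlgebraTensorModule.lift
      { toFun := fun n =>
          { toFun := fun m => f n * j (g m)
            map_add' := fun x y => by rw [map_add, map_add, mul_add]
            map_smul' := fun a x => by rw [map_smul, map_smul, RingHom.id_apply, mul_smul_comm] }
        map_add' := fun x y => LinearMap.ext fun m => by simp [add_mul]
        map_smul' := fun b x => LinearMap.ext fun m => by simp }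
    refine mem_support_of_functional F (n ⊗ₜ m) ?_
    show f n * j (g m) ≠ 0
    exact mul_ne_zero hn ((map_ne_zero j).mpr hm)

/-- Going down on the support of a flat module. -/
theorem exists_le_of_flat [IsNoetherianRing B] [Module.Finite B N] [Module.Flat A N]
    {p : Ideal A} [hp : p.IsPrime] {Q : PrimeSpectrum B} (hQ : Q ∈ Module.support B N)
    (hle : p ≤ Q.asIdeal.comap (algebraMap A B)) :
    ∃ P ∈ Module.support B N, P.asIdeal ≤ Q.asIdeal ∧ P.asIdeal.comap (algebraMap A B) = p := by
  haveI : Module.Finite B (N ⊗[A] (A ⧸ p)) := LocalCrit.finite_tensor (C := B) N (A ⧸ p)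
  have hQ' : Q ∈ Module.support B (N ⊗[A] (A ⧸ p)) := by
    refine (mem_support_tensor_iff Q).mpr ⟨hQ, ?_⟩
    rw [Module.mem_support_iff_of_finite, Ideal.annihilator_quotient]
    exact hle
  obtain ⟨P, hP, hPQ⟩ := Ideal.exists_minimalPrimes_le (J := Q.asIdeal)
    (Module.mem_support_iff_of_finite.mp hQ')
  have hass := Module.associatedPrimes.minimalPrimes_annihilator_subset_associatedPrimes B (N ⊗[A] (A ⧸ p)) hP
  haveI := hP.1.1
  have hsupp : (⟨P, hP.1.1⟩ : PrimeSpectrum B) ∈ Module.support B N :=
    ((mem_support_tensor_iff _).mp (Module.mem_support_iff_of_finite.mpr hP.1.2)).1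
  refine ⟨⟨P, hP.1.1⟩, hsupp, hPQ, le_antisymm (fun a ha => ?_) ?_⟩
  · by_contra hap
    obtain ⟨-, z, hz⟩ := Alg6.mem_ass_iff.mp hass
    have hreg : IsSMulRegular (A ⧸ p) a := by
      rw [isSMulRegular_iff_right_eq_zero_of_smul]
      intro c hc
      obtain ⟨c, rfl⟩ := Ideal.Quotient.mk_surjective c
      rw [Algebra.smul_def, Ideal.Quotient.algebraMap_eq, ← map_mul, Ideal.Quotient.eq_zero_iff_mem] at hc
      exact Ideal.Quotient.eq_zero_iff_mem.mpr ((hp.mem_or_mem hc).resolve_left hap)
    have h0 : algebraMap A B a • z = 0 := (hz _).mp ha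
    rw [algebraMap_smul] at h0
    have hz0 : z = 0 := (hreg.lTensor N).right_eq_zero_of_smul h0
    exact hP.1.1.ne_top ((Ideal.eq_top_iff_one _).mpr ((hz 1).mpr (by rw [hz0, smul_zero])))
  · intro a ha
    have h2 : algebraMap A B a ∈ Module.annihilator B (N ⊗[A] (A ⧸ p)) := by
      rw [Module.mem_annihilator]
      intro z
      induction z using TensorProduct.induction_on with
      | zero => simp
      | tmul n c =>
        obtain ⟨c, rfl⟩ := Ideal.Quotient.mk_surjective c
        rw [TensorProduct.smul_tmul', algebraMap_smul, TensorProduct.smul_tmul, Algebra.smul_def,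
          Ideal.Quotient.algebraMap_eq, Ideal.Quotient.eq_zero_iff_mem.mpr ha, zero_mul, TensorProduct.tmul_zero]
      | add x y hx hy => rw [smul_add, hx, hy, add_zero]
    exact hP.1.2 h2

section Dim

variable [IsLocalRing A] [IsLocalRing B] [IsLocalHom (algebraMap A B)] [IsNoetherianRing A] [IsNoetherianRing B]
variable [Module.Finite B N] [Module.Flat A N] [Module.Finite A M]

/-- The ideal cutting out the support of `N ⊗ M`. -/
noncomputable abbrev suppIdeal (A B N M : Type u) [CommRing A] [CommRing B] [Algebra A B] [AddCommGroup N]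
    [Module B N] [AddCommGroup M] [Module A M] : Ideal B :=
  Module.annihilator B N ⊔ (Module.annihilator A M).map (algebraMap A B)

omit [IsLocalRing A] [IsLocalRing B] [IsLocalHom (algebraMap A B)] [IsNoetherianRing A] [IsNoetherianRing B]
  [Module.Flat A N] in
theorem supportDim_tensor_eq :
    Module.supportDim B (N ⊗[A] M) = ringKrullDim (B ⧸ suppIdeal A B N M) := by
  have h : Module.support B (N ⊗[A] M) = PrimeSpectrum.zeroLocus (suppIdeal A B N M : Set B) := by
    ext q
    rw [mem_support_tensor_iff, Module.mem_support_iff_of_finite, Module.mem_support_iff_of_finite,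
      PrimeSpectrum.mem_zeroLocus, SetLike.coe_subset_coe, sup_le_iff, Ideal.map_le_iff_le_comap]
    rfl
  rw [ringKrullDim_quotient, ← h]
  rfl

/-- `dim (N ⊗ M) = dim M + dim (N / m N)`. -/
theorem supportDim_tensor [Nontrivial M] [Nontrivial N] :
    Module.supportDim B (N ⊗[A] M) =
      Module.supportDim A M + Module.supportDim B (N ⧸ mN A B N) := by
  let I := Module.annihilator A M
  let J : Ideal B := suppIdeal A B N M
  have hIm : I ≤ IsLocalRing.maximalIdeal A := IsLocalRing.le_maximalIdeal fun h => by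
    obtain ⟨m, hm⟩ := exists_ne (0 : M)
    exact hm (by simpa using Module.mem_annihilator.mp (h ▸ Submodule.mem_top : (1 : A) ∈ I) m)
  have hAnnN : Module.annihilator B N ≤ IsLocalRing.maximalIdeal B := IsLocalRing.le_maximalIdeal fun h => by
    obtain ⟨m, hm⟩ := exists_ne (0 : N)
    exact hm (by simpa using Module.mem_annihilator.mp (h ▸ Submodule.mem_top : (1 : B) ∈ Module.annihilator B N) m)
  have hJm : J ≤ IsLocalRing.maximalIdeal B := sup_le hAnnN
    ((Ideal.map_mono hIm).trans (IsLocalRing.map_maximalIdeal_le (algebraMap A B)))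
  haveI : Nontrivial (A ⧸ I) := Ideal.Quotient.nontrivial_iff.mpr fun h =>
    (IsLocalRing.maximalIdeal.isMaximal A).ne_top (top_le_iff.mp (h ▸ hIm))
  haveI : Nontrivial (B ⧸ J) := Ideal.Quotient.nontrivial_iff.mpr fun h =>
    (IsLocalRing.maximalIdeal.isMaximal B).ne_top (top_le_iff.mp (h ▸ hJm))
  have hIJ : I ≤ J.comap (algebraMap A B) := Ideal.map_le_iff_le_comap.mp le_sup_right
  letI : Algebra (A ⧸ I) (B ⧸ J) := (Ideal.quotientMap J (algebraMap A B) hIJ).toAlgebra
  have hcomap : ∀ (Q : Ideal (B ⧸ J)), (Q.comap (algebraMap (A ⧸ I) (B ⧸ J))).comap (Ideal.Quotient.mk I) =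
      (Q.comap (Ideal.Quotient.mk J)).comap (algebraMap A B) := fun Q => rfl
  haveI hgd : Algebra.HasGoingDown (A ⧸ I) (B ⧸ J) := by
    refine ⟨fun {p'} _ Q hQ hlt => ?_⟩
    have hQ' : (⟨Q.comap (Ideal.Quotient.mk J), inferInstance⟩ : PrimeSpectrum B) ∈ Module.support B N := by
      rw [Module.mem_support_iff_of_finite]
      intro b hb
      show Ideal.Quotient.mk J b ∈ Q
      rw [Ideal.Quotient.eq_zero_iff_mem.mpr (le_sup_left (b := I.map (algebraMap A B)) hb)]
      exact Q.zero_mem
    obtain ⟨P, hP, hPQ, hPp⟩ := exists_le_of_flat (A := A) (p := p'.comap (Ideal.Quotient.mk I)) hQ'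
      (by rw [← hcomap]; exact Ideal.comap_mono hlt.le)
    have hJP : J ≤ P.asIdeal := by
      refine sup_le (Module.mem_support_iff_of_finite.mp hP) (Ideal.map_le_iff_le_comap.mpr ?_)
      rw [hPp]
      intro a ha
      show Ideal.Quotient.mk I a ∈ p'
      rw [Ideal.Quotient.eq_zero_iff_mem.mpr ha]; exact p'.zero_mem
    have hcm : (P.asIdeal.map (Ideal.Quotient.mk J)).comap (Ideal.Quotient.mk J) = P.asIdeal := by
      rw [Ideal.comap_map_of_surjective' _ Ideal.Quotient.mk_surjective, Ideal.mk_ker, sup_eq_left.mpr hJP]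
    refine ⟨P.asIdeal.map (Ideal.Quotient.mk J), ?_, ?_, ⟨?_⟩⟩
    · exact (Ideal.map_mono hPQ).trans Ideal.map_comap_le
    · exact Ideal.map_isPrime_of_surjective Ideal.Quotient.mk_surjective (by rwa [Ideal.mk_ker])
    · apply Ideal.comap_injective_of_surjective (Ideal.Quotient.mk I) Ideal.Quotient.mk_surjective
      show p'.comap _ = _
      rw [Ideal.under_def, hcomap, hcm, hPp]
  haveI : IsLocalRing (A ⧸ I) := IsLocalRing.of_surjective' _ Ideal.Quotient.mk_surjective
  haveI : IsLocalRing (B ⧸ J) := IsLocalRing.of_surjective' _ Ideal.Quotient.mk_surjective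
  have hmA : IsLocalRing.maximalIdeal (A ⧸ I) = (IsLocalRing.maximalIdeal A).map (Ideal.Quotient.mk I) :=
    (IsLocalRing.eq_maximalIdeal (Ideal.IsMaximal.map_of_surjective_of_ker_le Ideal.Quotient.mk_surjective
      (by rwa [Ideal.mk_ker]))).symm
  have hmB : IsLocalRing.maximalIdeal (B ⧸ J) = (IsLocalRing.maximalIdeal B).map (Ideal.Quotient.mk J) :=
    (IsLocalRing.eq_maximalIdeal (Ideal.IsMaximal.map_of_surjective_of_ker_le Ideal.Quotient.mk_surjective
      (by rwa [Ideal.mk_ker]))).symm
  haveI : (IsLocalRing.maximalIdeal (B ⧸ J)).LiesOver (IsLocalRing.maximalIdeal (A ⧸ I)) := ⟨by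
    apply Ideal.comap_injective_of_surjective (Ideal.Quotient.mk I) Ideal.Quotient.mk_surjective
    show _ = ((IsLocalRing.maximalIdeal (B ⧸ J)).comap (algebraMap (A ⧸ I) (B ⧸ J))).comap _
    rw [hcomap, hmA, hmB, Ideal.comap_map_of_surjective' _ Ideal.Quotient.mk_surjective, Ideal.mk_ker,
      sup_eq_left.mpr hIm, Ideal.comap_map_of_surjective' _ Ideal.Quotient.mk_surjective, Ideal.mk_ker,
      sup_eq_left.mpr hJm]
    have h0 : (IsLocalRing.maximalIdeal B).comap (algebraMap A B) = IsLocalRing.maximalIdeal A :=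
      IsLocalRing.maximalIdeal_comap (algebraMap A B)
    exact h0.symm⟩
  have key := Ideal.height_eq_height_add_of_liesOver_of_hasGoingDown
    (IsLocalRing.maximalIdeal (A ⧸ I)) (IsLocalRing.maximalIdeal (B ⧸ J))
  -- the fibre
  set K : Ideal (B ⧸ J) := (IsLocalRing.maximalIdeal (A ⧸ I)).map (algebraMap (A ⧸ I) (B ⧸ J)) with hK
  have hKJ : K = ((IsLocalRing.maximalIdeal A).map (algebraMap A B)).map (Ideal.Quotient.mk J) := by
    rw [hK, hmA, Ideal.map_map, Ideal.map_map]
    rfl
  haveI : Nontrivial ((B ⧸ J) ⧸ K) := Ideal.Quotient.nontrivial_iff.mpr fun h => by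
    have : K ≤ IsLocalRing.maximalIdeal (B ⧸ J) := by
      rw [hKJ, hmB]; exact Ideal.map_mono (IsLocalRing.map_maximalIdeal_le (algebraMap A B))
    exact (IsLocalRing.maximalIdeal.isMaximal (B ⧸ J)).ne_top (top_le_iff.mp (h ▸ this))
  haveI : IsLocalRing ((B ⧸ J) ⧸ K) := IsLocalRing.of_surjective' _ Ideal.Quotient.mk_surjective
  have hmK : (IsLocalRing.maximalIdeal (B ⧸ J)).map (Ideal.Quotient.mk K) =
      IsLocalRing.maximalIdeal ((B ⧸ J) ⧸ K) := by
    refine IsLocalRing.eq_maximalIdeal (Ideal.IsMaximal.map_of_surjective_of_ker_le Ideal.Quotient.mk_surjective ?_)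
    rw [Ideal.mk_ker, hKJ, hmB]; exact Ideal.map_mono (IsLocalRing.map_maximalIdeal_le (algebraMap A B))
  rw [hmK] at key
  have key' := congrArg (fun x : ℕ∞ => (x : WithBot ℕ∞)) key
  simp only [WithBot.coe_add, IsLocalRing.maximalIdeal_height_eq_ringKrullDim] at key'
  obtain ⟨e⟩ := exists_residueEquiv (A := A) (B := B) N
  rw [supportDim_tensor_eq, key', Module.supportDim_eq_ringKrullDim_quotient_annihilator,
    ← Module.supportDim_eq_of_equiv e, supportDim_tensor_eq]
  congr 1
  rw [ringKrullDim_eq_of_ringEquiv (RingEquiv.trans (Ideal.quotEquivOfEq hKJ) (DoubleQuot.quotQuotEquivQuotSup J _))]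
  refine ringKrullDim_eq_of_ringEquiv (Ideal.quotEquivOfEq ?_)
  show J ⊔ _ = Module.annihilator B N ⊔ (Module.annihilator A (IsLocalRing.ResidueField A)).map _
  rw [show Module.annihilator A (IsLocalRing.ResidueField A) = IsLocalRing.maximalIdeal A from Ideal.annihilator_quotient]
  exact le_antisymm (sup_le (sup_le le_sup_left ((Ideal.map_mono hIm).trans le_sup_right)) le_sup_right)
    (sup_le (le_sup_left.trans le_sup_left) le_sup_right)

omit [Module.Finite A M] [Module.Flat A N] [Module.Finite B N] [IsNoetherianRing A] [IsNoetherianRing B] in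
theorem supportDim_fibMod :
    Module.supportDim (EGA4.FibRing A B) (EGA4.FibMod A B N) = Module.supportDim B (N ⧸ mN A B N) :=
  (Alg6.supportDim_eq_of_semilinear (Ideal.Quotient.mk (EGA4.mB A B)) Ideal.Quotient.mk_surjective
    (AddEquiv.refl (N ⧸ mN A B N)) fun r x => by
      obtain ⟨x, rfl⟩ := Submodule.Quotient.mk_surjective _ x
      rfl).symm

end Dim

end Groth.Agent.FlatLoc6
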