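import Groth.Agent.FlatLoc6.GeomComp

/-!
# Finite extensions of residue fields as fraction fields of finite domains
-/

namespace Groth.Agent.FlatLoc6

universe u

open TensorProduct IsLocalRing

variable {A : Type u} [CommRing A]

theorem exists_domainModel (p : Ideal A) [p.IsPrime] (L : Type u) [Field L] [Algebra p.ResidueField L]
    [Module.Finite p.ResidueField L] [Algebra A L] [IsScalarTower A p.ResidueField L] :
    ∃ B : Subalgebra A L, Module.Finite A B ∧ IsFractionRing B L := by
  classical
  haveI : (p : Ideal A).IsPrime := ‹_›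
  letI : Algebra (A ⧸ p) L := ((algebraMap p.ResidueField L).comp (algebraMap (A ⧸ p) p.ResidueField)).toAlgebra
  haveI : IsScalarTower (A ⧸ p) p.ResidueField L := IsScalarTower.of_algebraMap_eq' rfl
  haveI : IsScalarTower A (A ⧸ p) L := IsScalarTower.of_algebraMap_eq fun a => by
    show algebraMap A L a = algebraMap p.ResidueField L (algebraMap (A ⧸ p) p.ResidueField (algebraMap A (A ⧸ p) a))
    rw [← IsScalarTower.algebraMap_apply A (A ⧸ p) p.ResidueField, ← IsScalarTower.algebraMap_apply A p.ResidueField L]
  haveI : Algebra.IsAlgebraic (A ⧸ p) L := Algebra.IsAlgebraic.trans (A ⧸ p) p.ResidueField L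
  let b := Module.finBasis p.ResidueField L
  let s : Finset L := Finset.univ.image b
  obtain ⟨y, hy0, hy⟩ := Algebra.IsAlgebraic.exists_integral_multiples (R := A ⧸ p) s
  let S : Finset L := s.image fun x => y • x
  let B : Subalgebra A L := Algebra.adjoin A (S : Set L)
  have hfin : Module.Finite A B := Module.Finite.iff_fg.mpr <| fg_adjoin_of_finite S.finite_toSet fun x hx => by
    obtain ⟨z, hz, rfl⟩ := Finset.mem_image.mp hx
    exact isIntegral_trans (R := A) (A := A ⧸ p) (y • z) (hy z hz)
  refine ⟨B, hfin, ?_⟩
  haveI : FaithfulSMul B L := (faithfulSMul_iff_algebraMap_injective B L).mpr Subtype.val_injective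
  have hne : ∀ a : A, a ∉ p → algebraMap A L a ≠ 0 := fun a ha h => ha (by
    rwa [IsScalarTower.algebraMap_apply A p.ResidueField L, map_eq_zero_iff _ (algebraMap p.ResidueField L).injective,
      Ideal.algebraMap_residueField_eq_zero] at h)
  let U : Submodule p.ResidueField L :=
    { carrier := {z | ∃ a, a ∉ p ∧ algebraMap A L a * z ∈ B}
      zero_mem' := ⟨1, fun h => ‹p.IsPrime›.ne_top ((Ideal.eq_top_iff_one p).mpr h), by simp⟩
      add_mem' := by
        rintro z w ⟨a, ha, hz⟩ ⟨c, hc, hw⟩
        refine ⟨a * c, fun h => (‹p.IsPrime›.mem_or_mem h).elim ha hc, ?_⟩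
        rw [map_mul, mul_add]
        refine add_mem ?_ ?_
        · rw [mul_right_comm]; exact mul_mem hz (B.algebraMap_mem c)
        · rw [mul_assoc]; exact mul_mem (B.algebraMap_mem a) hw
      smul_mem' := by
        rintro κ z ⟨a, ha, hz⟩
        obtain ⟨⟨r, t⟩, hrt⟩ := IsLocalization.surj (nonZeroDivisors (A ⧸ p)) κ
        obtain ⟨r, rfl⟩ := Ideal.Quotient.mk_surjective r
        obtain ⟨t, ht'⟩ := t
        obtain ⟨t, rfl⟩ := Ideal.Quotient.mk_surjective t
        have ht : t ∉ p := fun h => nonZeroDivisors.ne_zero ht' (Ideal.Quotient.eq_zero_iff_mem.mpr h)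
        refine ⟨t * a, fun h => (‹p.IsPrime›.mem_or_mem h).elim ht ha, ?_⟩
        have h1 : algebraMap p.ResidueField L κ * algebraMap A L t = algebraMap A L r := by
          have := congrArg (algebraMap p.ResidueField L) hrt
          rw [map_mul] at this
          have e : ∀ x : A, algebraMap (A ⧸ p) p.ResidueField (Ideal.Quotient.mk p x) = algebraMap A p.ResidueField x :=
            fun x => (IsScalarTower.algebraMap_apply A (A ⧸ p) p.ResidueField x).symm
          simp only [e, ← IsScalarTower.algebraMap_apply A p.ResidueField L] at this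
          exact this
        rw [Algebra.smul_def, map_mul, show algebraMap A L t * algebraMap A L a *
          (algebraMap p.ResidueField L κ * z) =
          (algebraMap p.ResidueField L κ * algebraMap A L t) * (algebraMap A L a * z) by ring, h1]
        exact mul_mem (B.algebraMap_mem r) hz }
  have hU : ∀ z, z ∈ U := by
    intro z
    rw [← b.sum_repr z]
    refine U.sum_mem fun i _ => U.smul_mem _ ?_
    obtain ⟨y', rfl⟩ := Ideal.Quotient.mk_surjective y
    refine ⟨y', fun h => hy0 (Ideal.Quotient.eq_zero_iff_mem.mpr h), ?_⟩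
    have hmem : (Ideal.Quotient.mk p y') • b i ∈ B :=
      Algebra.subset_adjoin (Finset.mem_image.mpr ⟨b i, Finset.mem_image.mpr ⟨i, Finset.mem_univ i, rfl⟩, rfl⟩)
    rwa [Algebra.smul_def, ← Ideal.Quotient.algebraMap_eq, ← IsScalarTower.algebraMap_apply A (A ⧸ p) L] at hmem
  refine IsFractionRing.of_field B L fun z => ?_
  obtain ⟨a, ha, hz⟩ := hU z
  refine ⟨⟨_, hz⟩, ⟨_, B.algebraMap_mem a⟩, ?_⟩
  show z = algebraMap A L a * z / algebraMap A L a
  rw [mul_div_cancel_left₀ _ (hne a ha)]

/-- The generic fibre of `B ⊗ C` over a domain `B` is a localization with the same local rings. -/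
theorem exists_genericFibre (B C L : Type u) [CommRing B] [IsDomain B] [CommRing C] [Field L] [Algebra A B]
    [Algebra A C] [Algebra B L] [IsFractionRing B L] [Algebra A L] [IsScalarTower A B L] :
    ∃ (T : Type u) (_ : CommRing T) (_ : Algebra (B ⊗[A] C) T),
      IsLocalization (Algebra.algebraMapSubmonoid (B ⊗[A] C) (nonZeroDivisors B)) T ∧
      Nonempty (T ≃+* L ⊗[A] C) :=
  ⟨(B ⊗[A] C) ⊗[B] L, inferInstance, inferInstance, inferInstance,
    ⟨(Algebra.TensorProduct.comm B (B ⊗[A] C) L).toRingEquiv.trans
      (Algebra.TensorProduct.cancelBaseChange A B L L C).toRingEquiv⟩⟩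

theorem disjoint_of_comap_eq_bot {B R : Type u} [CommRing B] [Nontrivial B] [CommRing R] [Algebra B R] (q : Ideal R)
    (hq : q.comap (algebraMap B R) = ⊥) :
    Disjoint (Algebra.algebraMapSubmonoid R (nonZeroDivisors B) : Set R) (q : Set R) := by
  rw [Set.disjoint_left]
  rintro _ ⟨b, hb, rfl⟩ h
  have h0 : b ∈ q.comap (algebraMap B R) := h
  rw [hq, Ideal.mem_bot] at h0
  exact nonZeroDivisors.ne_zero hb h0

theorem comap_eq_bot_of_isLocalization {B R T : Type u} [CommRing B] [IsDomain B] [CommRing R] [Algebra B R]
    [CommRing T] [Algebra R T] [IsLocalization (Algebra.algebraMapSubmonoid R (nonZeroDivisors B)) T]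
    (Q : Ideal T) [Q.IsPrime] : (Q.comap (algebraMap R T)).comap (algebraMap B R) = ⊥ := by
  rw [eq_bot_iff]
  intro b hb
  by_contra hb0
  exact ‹Q.IsPrime›.ne_top (Ideal.eq_top_of_isUnit_mem Q hb
    (IsLocalization.map_units T (⟨algebraMap B R b, b, mem_nonZeroDivisors_of_ne_zero hb0, rfl⟩ :
      Algebra.algebraMapSubmonoid R (nonZeroDivisors B))))

/-- A finitely generated extension of the residue field from a finite domain. -/
theorem exists_residue_setup (B : Type u) [CommRing B] [IsDomain B] [Algebra A B] [Module.Finite A B] :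
    ∃ (p : Ideal A) (_ : p.IsPrime) (_ : Algebra p.ResidueField (FractionRing B)),
      IsScalarTower A p.ResidueField (FractionRing B) ∧ Algebra.EssFiniteType p.ResidueField (FractionRing B) := by
  haveI : (RingHom.ker (algebraMap A (FractionRing B))).IsPrime := RingHom.ker_isPrime _
  obtain ⟨_, _⟩ := exists_residueAlgebra (L := FractionRing B) (RingHom.ker (algebraMap A (FractionRing B))) rfl
  haveI : Algebra.EssFiniteType B (FractionRing B) :=
    Algebra.EssFiniteType.of_isLocalization _ (nonZeroDivisors B)
  haveI : Algebra.EssFiniteType A (FractionRing B) := Algebra.EssFiniteType.comp A B _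
  exact ⟨RingHom.ker (algebraMap A (FractionRing B)), inferInstance, inferInstance, inferInstance,
    Algebra.EssFiniteType.of_comp A _ _⟩

end Groth.Agent.FlatLoc6

namespace Groth.Agent.FlatLoc6

universe v

theorem isReduced_atPrime_iff {R : Type v} [CommRing R] (M : Submonoid R) (T : Type v) [CommRing T] [Algebra R T]
    [IsLocalization M T] (Q : Ideal T) [Q.IsPrime] :
    IsReduced (Localization.AtPrime Q) ↔ IsReduced (Localization.AtPrime (Q.comap (algebraMap R T))) := by
  haveI : IsLocalization.AtPrime (Localization.AtPrime Q) (Q.comap (algebraMap R T)) :=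
    IsLocalization.isLocalization_isLocalization_atPrime_isLocalization M (Localization.AtPrime Q) Q
  let e := (IsLocalization.algEquiv (Q.comap (algebraMap R T)).primeCompl
    (Localization.AtPrime Q) (Localization.AtPrime (Q.comap (algebraMap R T)))).toRingEquiv
  exact ⟨fun h => haveI := h; isReduced_of_injective e.symm e.symm.injective,
    fun h => haveI := h; isReduced_of_injective e e.injective⟩

end Groth.Agent.FlatLoc6
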