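import Groth.Agent.GenFree.Basic
import Groth.Agent.QCoh.FlatOver

/-!
# Generic flatness from generic freeness
-/

universe u

namespace Groth.Agent.FlatLoc6

/-- A localization at which `f` is inverted of a generically free module is flat. -/
theorem flat_of_gfree {R S M M' : Type u} [CommRing R] [CommRing S] [Algebra R S]
    [AddCommGroup M] [Module R M] [Module S M] [IsScalarTower R S M]
    [AddCommGroup M'] [Module R M'] [Module S M'] [IsScalarTower R S M']
    (W : Submonoid S) (l : M →ₗ[S] M') [IsLocalizedModule W l] {f : R} (hf : algebraMap R S f ∈ W)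
    (h : GenFree.GFree R f M) : Module.Flat R M' := by
  obtain ⟨ι, φ, hφ, hr⟩ := h
  let fS : Submonoid S := Submonoid.powers (algebraMap R S f)
  let Mf := LocalizedModule fS M
  let mk : M →ₗ[S] Mf := LocalizedModule.mkLinearMap fS M
  haveI := IsLocalizedModule.restrictScalars_powers (A := S) f mk
  let ψ : (ι →₀ R) →ₗ[R] Mf := (mk.restrictScalars R).comp φ
  haveI : IsLocalizedModule (Submonoid.powers f) ψ :=
    { map_units := fun s => IsLocalizedModule.map_units (mk.restrictScalars R) s
      surj := fun y => by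
        obtain ⟨⟨m, s⟩, hm⟩ := IsLocalizedModule.surj (Submonoid.powers f) (mk.restrictScalars R) y
        obtain ⟨k, c, hc⟩ := hr m
        refine ⟨⟨c, ⟨f ^ k, k, rfl⟩ * s⟩, ?_⟩
        rw [mul_smul, hm]
        show (f ^ k) • (mk.restrictScalars R m) = mk.restrictScalars R (φ c)
        rw [hc, map_smul]
      exists_of_eq := fun {x₁ x₂} e => by
        obtain ⟨c, hc⟩ := IsLocalizedModule.exists_of_eq (S := Submonoid.powers f) (f := mk.restrictScalars R) e
        refine ⟨c, hφ ?_⟩
        simpa only [Submonoid.smul_def, map_smul] using hc }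
  haveI : Module.Flat R Mf := QCoh.flat_base_of_isLocalizedModule (A := R) (B := R) (Submonoid.powers f) ψ
  have hle : fS ≤ W := Submonoid.powers_le.mpr hf
  have hunit : ∀ x : fS, IsUnit ((algebraMap S (Module.End S M')) x) :=
    fun x => IsLocalizedModule.map_units l ⟨x, hle x.2⟩
  let g : Mf →ₗ[S] M' := IsLocalizedModule.lift fS mk l hunit
  have hg : ∀ m, g (mk m) = l m := LinearMap.congr_fun (IsLocalizedModule.lift_comp fS mk l hunit)
  haveI : IsLocalizedModule W g :=
    { map_units := IsLocalizedModule.map_units l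
      surj := fun y => by
        obtain ⟨⟨m, s⟩, hm⟩ := IsLocalizedModule.surj W l y
        exact ⟨⟨mk m, s⟩, hm.trans (hg m).symm⟩
      exists_of_eq := fun {x₁ x₂} e => by
        obtain ⟨⟨m₁, s₁⟩, h₁⟩ := IsLocalizedModule.surj fS mk x₁
        obtain ⟨⟨m₂, s₂⟩, h₂⟩ := IsLocalizedModule.surj fS mk x₂
        have h3 : l ((s₂ : S) • m₁) = l ((s₁ : S) • m₂) := by
          rw [map_smul, map_smul, ← hg, ← hg, ← h₁, ← h₂, Submonoid.smul_def, Submonoid.smul_def,
            map_smul, map_smul, smul_smul, smul_smul, mul_comm, e]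
        obtain ⟨w, hw⟩ := IsLocalizedModule.exists_of_eq (S := W) (f := l) h3
        refine ⟨w * ⟨(s₁ : S) * s₂, mul_mem (hle s₁.2) (hle s₂.2)⟩, ?_⟩
        have h4 := congrArg mk hw
        simp only [Submonoid.smul_def, map_smul, ← h₁, ← h₂, smul_smul] at h4
        simp only [Submonoid.smul_def, Submonoid.coe_mul]
        rw [show (w : S) * (↑s₁ * ↑s₂) = ↑w * ↑s₂ * ↑s₁ by ring]
        rw [h4]
        congr 1
        ring }
  exact QCoh.flat_base_of_isLocalizedModule (A := R) W g

end Groth.Agent.FlatLoc6
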