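import Mathlib

/-!
# Finitely generated field extensions become separably generated after a finite purely inseparable one
-/

namespace Groth.Agent.FlatLoc6

universe u

open IntermediateField

theorem exists_insep_model (k K : Type u) [Field k] [Field K] [Algebra k K] [Algebra.EssFiniteType k K] :
    ∃ (k' : Type u) (_ : Field k') (_ : Algebra k k') (F : Type u) (_ : Field F) (_ : Algebra k' F)
      (_ : Algebra k F) (_ : IsScalarTower k k' F) (K' : Type u) (_ : Field K') (_ : Algebra F K')
      (_ : Algebra k' K') (_ : IsScalarTower k' F K') (_ : Algebra k K') (_ : IsScalarTower k k' K')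
      (_ : Algebra K K') (_ : IsScalarTower k K K'),
      Module.Finite k k' ∧ IsPurelyInseparable k k' ∧
        (∃ ι : Type u, Finite ι ∧ Nonempty (FractionRing (MvPolynomial ι k') ≃ₐ[k'] F)) ∧
        Module.Finite F K' ∧ Algebra.IsSeparable F K' := by
  classical
  let Ω := AlgebraicClosure K
  let P : IntermediateField k Ω := perfectClosure k Ω
  obtain ⟨T, hT⟩ := IntermediateField.fg_top k K
  let T' : Finset Ω := T.image (algebraMap K Ω)
  let L : IntermediateField P Ω := adjoin P (T' : Set Ω)
  haveI : Algebra.EssFiniteType P L := IntermediateField.essFiniteType_iff.mpr ⟨T', rfl⟩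
  obtain ⟨s, hs, hsep⟩ := exists_isTranscendenceBasis_and_isSeparable_of_perfectField P L
  let F₁ : IntermediateField P L := adjoin P (s : Set L)
  let s' : Finset Ω := s.image (algebraMap L Ω)
  have hT'L : ∀ x ∈ T', x ∈ L := fun x hx => subset_adjoin P (T' : Set Ω) hx
  have hF₁ : ∀ y : F₁, algebraMap L Ω (y : L) ∈ adjoin P (s' : Set Ω) := by
    intro y
    have h1 : F₁.map L.val = adjoin P (s' : Set Ω) := by
      rw [adjoin_map, Finset.coe_image]
      rfl
    rw [← h1]
    exact ⟨(y : L), y.2, rfl⟩
  let q : Ω → Polynomial F₁ := fun x => if hx : x ∈ L then minpoly F₁ (⟨x, hx⟩ : L) else 0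
  let C : Finset Ω := T'.biUnion fun x => (q x).support.image fun i => algebraMap L Ω (((q x).coeff i : F₁) : L)
  have hfin : ∀ X : Set Ω, ∀ x ∈ adjoin P X, ∃ G : Finset Ω, (G : Set Ω) ⊆ P ∧
      x ∈ adjoin k ((G : Set Ω) ∪ X) := by
    intro X x hx
    have hx' : x ∈ restrictScalars k (adjoin P X) := hx
    rw [IntermediateField.restrictScalars_adjoin] at hx'
    obtain ⟨T₀, hT₀, hx₀⟩ := exists_finset_of_mem_adjoin hx'
    refine ⟨T₀.filter (· ∈ P), fun y hy => (Finset.mem_filter.mp hy).2, adjoin.mono k _ _ (fun y hy => ?_) hx₀⟩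
    rcases hT₀ hy with h | h
    · exact Or.inl (Finset.mem_filter.mpr ⟨hy, h⟩)
    · exact Or.inr h
  have hs'L : ∀ x ∈ s', x ∈ adjoin P (T' : Set Ω) := by
    intro x hx
    obtain ⟨y, _, rfl⟩ := Finset.mem_image.mp hx
    exact y.2
  have hC : ∀ x ∈ C, x ∈ adjoin P (s' : Set Ω) := by
    intro x hx
    simp only [C, Finset.mem_biUnion, Finset.mem_image] at hx
    obtain ⟨z, _, i, _, rfl⟩ := hx
    exact hF₁ _
  choose G₁ hG₁P hG₁ using fun x : {x // x ∈ s'} => hfin _ x.1 (hs'L _ x.2)
  choose G₂ hG₂P hG₂ using fun x : {x // x ∈ C} => hfin _ x.1 (hC _ x.2)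
  let G : Finset Ω := s'.attach.biUnion G₁ ∪ C.attach.biUnion G₂
  have hGP : (G : Set Ω) ⊆ P := by
    intro x hx
    simp only [G, Finset.coe_union, Set.mem_union, Finset.mem_coe, Finset.mem_biUnion] at hx
    rcases hx with ⟨a, _, h⟩ | ⟨a, _, h⟩
    · exact hG₁P a h
    · exact hG₂P a h
  let k' : IntermediateField k Ω := adjoin k (G : Set Ω)
  have hk'P : k' ≤ P := adjoin_le_iff.mpr hGP
  haveI : Module.Finite k k' := finiteDimensional_adjoin fun x hx =>
    ((IntermediateField.isIntegral_iff (S := P) (x := ⟨x, hGP hx⟩)).mp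
      (Algebra.IsIntegral.isIntegral (R := k) (⟨x, hGP hx⟩ : P)))
  haveI : IsPurelyInseparable k k' := (le_perfectClosure_iff k Ω k').mp hk'P
  let F : IntermediateField k' Ω := adjoin k' (s' : Set Ω)
  haveI : IsScalarTower k F Ω := IsScalarTower.of_algebraMap_eq fun _ => rfl
  let K' : IntermediateField F Ω := adjoin F (T' : Set Ω)
  have hmem : ∀ X : Set Ω, ∀ x, x ∈ adjoin k ((G : Set Ω) ∪ X) → x ∈ adjoin k' X := by
    intro X x hx
    have : x ∈ restrictScalars k (adjoin k' X) := by
      rw [IntermediateField.restrictScalars_adjoin]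
      exact adjoin.mono k _ _ (Set.union_subset_union_left X (subset_adjoin k _)) hx
    exact this
  have hsepT : ∀ x ∈ (T' : Set Ω), IsSeparable F x := by
    intro x hx
    let xL : L := ⟨x, hT'L x hx⟩
    let f : F₁ →+* Ω := (algebraMap L Ω).comp (algebraMap F₁ L)
    have hqx : q x = minpoly F₁ xL := dif_pos (hT'L x hx)
    have hsx : IsSeparable F₁ xL := Algebra.IsSeparable.isSeparable F₁ xL
    have hlift : (minpoly F₁ xL).map f ∈ Polynomial.lifts (algebraMap F Ω) := by
      rw [Polynomial.lifts_iff_coeff_lifts]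
      intro i
      rw [Polynomial.coeff_map]
      by_cases hi : i ∈ (minpoly F₁ xL).support
      · have hc : f ((minpoly F₁ xL).coeff i) ∈ C := by
          simp only [C, Finset.mem_biUnion, Finset.mem_image]
          exact ⟨x, hx, i, by rw [hqx]; exact hi, by rw [hqx]; rfl⟩
        refine ⟨⟨_, hmem _ _ (adjoin.mono k _ _ (Set.union_subset_union_left _ ?_) (hG₂ ⟨_, hc⟩))⟩, rfl⟩
        exact fun y hy => Finset.mem_union_right _ (Finset.mem_biUnion.mpr ⟨⟨_, hc⟩, Finset.mem_attach _ _, hy⟩)
      · rw [Polynomial.notMem_support_iff.mp hi, map_zero]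
        exact ⟨0, map_zero _⟩
    obtain ⟨g, hg⟩ := (Polynomial.mem_lifts _).mp hlift
    have hgsep : g.Separable := by
      rw [← Polynomial.separable_map (algebraMap F Ω), hg, Polynomial.separable_map]
      exact hsx
    have hgx : Polynomial.aeval x g = 0 := by
      have h0 : Polynomial.eval₂ f x (minpoly F₁ xL) = 0 := by
        rw [show x = algebraMap L Ω xL from rfl, ← Polynomial.hom_eval₂, ← Polynomial.aeval_def, minpoly.aeval,
          map_zero]
      rw [Polynomial.aeval_def, ← Polynomial.eval_map, hg, Polynomial.eval_map]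
      exact h0
    exact hgsep.of_dvd (minpoly.dvd F x hgx)
  haveI hsepK : Algebra.IsSeparable F K' := (isSeparable_adjoin_iff_isSeparable F Ω).mpr hsepT
  haveI : Module.Finite F K' := finiteDimensional_adjoin fun x hx => (hsepT x hx).isIntegral
  have hKK' : ∀ z : K, algebraMap K Ω z ∈ K' := by
    intro z
    have h1 : (⊤ : IntermediateField k K).map (IsScalarTower.toAlgHom k K Ω) ≤ adjoin k (T' : Set Ω) := by
      rw [← hT, adjoin_map, Finset.coe_image]
      rfl
    have h2 : algebraMap K Ω z ∈ adjoin k (T' : Set Ω) := h1 ⟨z, trivial, rfl⟩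
    have h3 : adjoin k (T' : Set Ω) ≤ (K'.restrictScalars k) := adjoin_le_iff.mpr fun x hx => subset_adjoin F _ hx
    exact h3 h2
  letI : Algebra K K' := ((algebraMap K Ω).codRestrict K'.toSubfield.toSubring hKK').toAlgebra
  haveI : IsScalarTower k K K' := IsScalarTower.of_algebraMap_eq fun a => Subtype.ext
    (IsScalarTower.algebraMap_apply k K Ω a)
  haveI : IsScalarTower k k' K' := IsScalarTower.of_algebraMap_eq fun _ => rfl
  refine ⟨k', inferInstance, inferInstance, F, inferInstance, inferInstance, inferInstance, inferInstance, K',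
    inferInstance, inferInstance, inferInstance, inferInstance, inferInstance, inferInstance, inferInstance,
    inferInstance, inferInstance, inferInstance, ⟨{x : L // x ∈ s}, inferInstance, ?_⟩, inferInstance, hsepK⟩
  letI : Algebra k' P := (IntermediateField.inclusion hk'P).toRingHom.toAlgebra
  haveI : IsScalarTower k' P Ω := IsScalarTower.of_algebraMap_eq' rfl
  have hindep : AlgebraicIndependent k' (fun y : {x : L // x ∈ s} => algebraMap L Ω (y : L)) :=
    AlgebraicIndependent.restrictScalars (K := P) (IntermediateField.inclusion hk'P).injective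
      (hs.1.map' (f := L.val) L.val.injective)
  refine ⟨hindep.aevalEquivField.trans (IntermediateField.equivOfEq ?_)⟩
  show adjoin k' _ = adjoin k' (s' : Set Ω)
  congr 1
  ext y
  simp [s', eq_comm]

end Groth.Agent.FlatLoc6
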