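import Groth.Agent.FlatLoc6.SerreNormal
import Groth.Agent.FlatLoc6.Rk
import Groth.Agent.FlatLoc6.Sk

/-!
# Normality along a flat map
-/

namespace Groth.Agent.FlatLoc6

universe u

open TensorProduct IsLocalRing

variable {A B : Type u} [CommRing A] [CommRing B] [IsNoetherianRing A] [IsNoetherianRing B] [Algebra A B]
  [Module.Flat A B]

/-- The depth condition ascends for the rings themselves. -/
theorem sk_self_ascend (k : ℕ) (q : Ideal B) [q.IsPrime]
    (hfib : min (k : WithBot ℕ∞) (fibDim A q B) ≤ ((fibDepth A q B : ℕ∞) : WithBot ℕ∞))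
    (hA : min (k : ℕ∞) (q.comap (algebraMap A B)).height ≤
      LocCoh.depth (Localization.AtPrime (q.comap (algebraMap A B))) (Localization.AtPrime (q.comap (algebraMap A B)))) :
    min (k : ℕ∞) q.height ≤ LocCoh.depth (Localization.AtPrime q) (Localization.AtPrime q) := by
  have hB : (⟨q, ‹_›⟩ : PrimeSpectrum B) ∈ Module.support B B := by
    rw [Module.mem_support_iff]
    exact (LC.selfLoc q.primeCompl).toEquiv.nontrivial
  have hA' : (⟨q.comap (algebraMap A B), inferInstance⟩ : PrimeSpectrum A) ∈ Module.support A A := by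
    rw [Module.mem_support_iff]
    exact (LC.selfLoc (q.comap (algebraMap A B)).primeCompl).toEquiv.nontrivial
  obtain ⟨h1, h2⟩ := formulas_atPrime B A _ q rfl hB hA'
  let e : LocalizedModule q.primeCompl (B ⊗[A] A) ≃ₗ[Localization.AtPrime q] LocalizedModule q.primeCompl B :=
    IsLocalizedModule.mapEquiv q.primeCompl (LocalizedModule.mkLinearMap _ _) (LocalizedModule.mkLinearMap _ _)
      (Localization.AtPrime q) (AlgebraTensorModule.rid A B B)
  rw [Hensel.depth_congr e, depth_self_atPrime, depth_self_atPrime] at h1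
  rw [Module.supportDim_eq_of_equiv e, supportDim_self_atPrime, supportDim_self_atPrime] at h2
  have hA2 : min (k : WithBot ℕ∞) (((q.comap (algebraMap A B)).height : ℕ∞) : WithBot ℕ∞) ≤
      ((LocCoh.depth (Localization.AtPrime (q.comap (algebraMap A B)))
        (Localization.AtPrime (q.comap (algebraMap A B))) : ℕ∞) : WithBot ℕ∞) := by
    rw [← WithBot.coe_natCast, ← WithBot.coe_min, WithBot.coe_le_coe]; exact hA
  have key := sk_add (k := k) WithBot.coe_ne_bot (fibDim_ne_bot (A := A) B q hB) hA2 hfib
  rw [← h2, ← h1, ← WithBot.coe_natCast, ← WithBot.coe_min, WithBot.coe_le_coe] at key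
  exact key

/-- A normal fibre satisfies the fibre condition of `(S_2)`. -/
theorem fib_le_two_of_normal (q : Ideal B) [q.IsPrime] [IsDomain (EGA4.FibLocRing A B q)]
    [IsIntegrallyClosed (EGA4.FibLocRing A B q)] :
    min (2 : WithBot ℕ∞) (fibDim A q B) ≤ ((fibDepth A q B : ℕ∞) : WithBot ℕ∞) := by
  haveI := isLocalRing_fibLocRing (A := A) q
  haveI : IsNoetherianRing (Localization.AtPrime q) := IsLocalization.isNoetherianRing q.primeCompl _ inferInstance
  let J : Ideal (Localization.AtPrime q) := (q.comap (algebraMap A B)).map (algebraMap A (Localization.AtPrime q))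
  have hJ : (J • ⊤ : Submodule (Localization.AtPrime q) (LocalizedModule q.primeCompl B)).map
      (LC.selfLoc q.primeCompl).toLinearMap = J := by
    rw [Submodule.map_smul'', Submodule.map_top, LinearMap.range_eq_top.mpr (LC.selfLoc q.primeCompl).surjective,
      Ideal.smul_eq_mul, Ideal.mul_top]
  let e : EGA4.FibLocMod A B q B ≃ₗ[Localization.AtPrime q] EGA4.FibLocRing A B q :=
    Submodule.Quotient.equiv _ J (LC.selfLoc q.primeCompl) hJ
  have hd : fibDepth A q B = LocCoh.depth (EGA4.FibLocRing A B q) (EGA4.FibLocRing A B q) :=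
    (Hensel.depth_congr e).trans (Alg6.depth_eq_of_semilinear (Ideal.Quotient.mk J) Ideal.Quotient.mk_surjective
      (AddEquiv.refl (EGA4.FibLocRing A B q)) fun r x => by
        obtain ⟨x, rfl⟩ := Ideal.Quotient.mk_surjective x
        rfl)
  have hs : fibDim A q B = ringKrullDim (EGA4.FibLocRing A B q) :=
    ((Module.supportDim_eq_of_equiv e).trans (Alg6.supportDim_eq_of_semilinear (Ideal.Quotient.mk J)
      Ideal.Quotient.mk_surjective (AddEquiv.refl (EGA4.FibLocRing A B q)) fun r x => by
        obtain ⟨x, rfl⟩ := Ideal.Quotient.mk_surjective x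
        rfl)).trans (Module.supportDim_self_eq_ringKrullDim _)
  rw [hd, hs]
  exact depth_of_normal _

end Groth.Agent.FlatLoc6
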