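import Groth.Agent.FlatLoc6.GeomExt
import Groth.Agent.FlatLoc6.NormalFibre
import Groth.Agent.GeomReg.Basic
import Groth.Agent.RegLoc6.FlatDescent
import Groth.Agent.S9406
import Groth.Agent.S2610
import Groth.Agent.S2611
import Groth.Prelude.Def_Found

/-!
# Geometric regularity and normality under finitely generated field extensions
-/

namespace Groth.Agent.FlatLoc6

universe u

open TensorProduct IsLocalRing

/-- The permanence properties used to pass to finitely generated field extensions. -/
structure Permanence (P : ∀ (R : Type u) [CommRing R], Prop) : Prop where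
  equiv : ∀ {R S : Type u} [CommRing R] [CommRing S], (R ≃+* S) → P R → P S
  smooth : ∀ (A B : Type u) [CommRing A] [CommRing B] [Algebra A B] [Algebra.Smooth A B], P A → P B
  loc : ∀ {R : Type u} [CommRing R] (M : Submonoid R) (C : Type u) [CommRing C] [Algebra R C]
    [IsLocalization M C], P R → P C
  desc : ∀ (A B : Type u) [CommRing A] [CommRing B] [Algebra A B] [Module.FaithfullyFlat A B], P B → P A

variable {P : ∀ (R : Type u) [CommRing R], Prop}

theorem Permanence.fractionRing (hP : Permanence P) (k' S' : Type u) [Field k'] [CommRing S'] [Algebra k' S']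
    (ι : Type u) [Finite ι] (h : P S') : P (FractionRing (MvPolynomial ι k') ⊗[k'] S') := by
  let Q := MvPolynomial ι k'
  let F := FractionRing (MvPolynomial ι k')
  haveI : Algebra.Smooth k' Q := ⟨inferInstance, inferInstance⟩
  haveI : Algebra.Smooth S' (S' ⊗[k'] Q) := ⟨inferInstance, inferInstance⟩
  have h1 : P (S' ⊗[k'] Q) := hP.smooth S' (S' ⊗[k'] Q) h
  have h2 : P (Q ⊗[k'] S') := hP.equiv (Algebra.TensorProduct.comm k' S' Q).toRingEquiv h1
  have h3 : P ((Q ⊗[k'] S') ⊗[Q] F) :=
    hP.loc (Algebra.algebraMapSubmonoid (Q ⊗[k'] S') (nonZeroDivisors Q)) _ h2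
  exact hP.equiv (R := (Q ⊗[k'] S') ⊗[Q] F) ((Algebra.TensorProduct.comm Q (Q ⊗[k'] S') F).toRingEquiv.trans
    (Algebra.TensorProduct.cancelBaseChange k' Q F F S').toRingEquiv) h3

theorem Permanence.separable (hP : Permanence P) (k' F K' S' : Type u) [Field k'] [Field F] [Field K']
    [CommRing S'] [Algebra k' S'] [Algebra k' F] [Algebra F K'] [Algebra k' K'] [IsScalarTower k' F K']
    [Module.Finite F K'] [Algebra.IsSeparable F K'] (h : P (F ⊗[k'] S')) : P (K' ⊗[k'] S') := by
  haveI : Algebra.FormallyEtale F K' := Algebra.FormallyEtale.of_isSeparable F K'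
  haveI : Algebra.FinitePresentation F K' := Algebra.FinitePresentation.of_finiteType.mp inferInstance
  haveI : Algebra.Etale F K' := ⟨inferInstance, inferInstance⟩
  have h1 : P ((F ⊗[k'] S') ⊗[F] K') := hP.smooth (F ⊗[k'] S') _ h
  exact hP.equiv (R := (F ⊗[k'] S') ⊗[F] K') ((Algebra.TensorProduct.comm F (F ⊗[k'] S') K').toRingEquiv.trans
    (Algebra.TensorProduct.cancelBaseChange k' F K' K' S').toRingEquiv) h1

theorem Permanence.descend_field (hP : Permanence P) (k K K' S : Type u) [Field k] [Field K] [Field K']
    [CommRing S] [Algebra k S] [Algebra k K] [Algebra K K'] [Algebra k K'] [IsScalarTower k K K']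
    (h : P (K' ⊗[k] S)) : P (K ⊗[k] S) := by
  have h1 : P ((K ⊗[k] S) ⊗[K] K') :=
    hP.equiv (S := (K ⊗[k] S) ⊗[K] K') ((Algebra.TensorProduct.comm K (K ⊗[k] S) K').toRingEquiv.trans
      (Algebra.TensorProduct.cancelBaseChange k K K' K' S).toRingEquiv).symm h
  exact hP.desc (K ⊗[k] S) ((K ⊗[k] S) ⊗[K] K') h1

/-- Stability under finite purely inseparable extensions gives stability under finitely generated ones. -/
theorem Permanence.of_insep (hP : Permanence P) (k S : Type u) [Field k] [CommRing S] [Algebra k S]
    (h : ∀ (k' : Type u) [Field k'] [Algebra k k'], Module.Finite k k' → IsPurelyInseparable k k' →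
      P (k' ⊗[k] S))
    (K : Type u) [Field K] [Algebra k K] [Algebra.EssFiniteType k K] : P (K ⊗[k] S) := by
  obtain ⟨k', _, _, F, _, _, _, _, K', _, _, _, _, _, _, _, _, hfin, hins, ⟨ι, hι, ⟨e⟩⟩, _, _⟩ :=
    exists_insep_model k K
  have h1 : P (k' ⊗[k] S) := h k' hfin hins
  have h2 : P (F ⊗[k'] (k' ⊗[k] S)) :=
    hP.equiv (Algebra.TensorProduct.congr e (AlgEquiv.refl (R := k') (A₁ := k' ⊗[k] S))).toRingEquiv
      (hP.fractionRing k' (k' ⊗[k] S) ι h1)
  have h3 : P (K' ⊗[k'] (k' ⊗[k] S)) := hP.separable k' F K' (k' ⊗[k] S) h2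
  exact hP.descend_field k K K' S
    (hP.equiv (Algebra.TensorProduct.cancelBaseChange k k' K' K' S).toRingEquiv h3)

/-- Noetherian normal rings. -/
def NoethNormal (R : Type u) [CommRing R] : Prop := IsNoetherianRing R ∧ EGA4.IsNormalRing R

theorem isNormalRing_of_isRegularRing (R : Type u) [CommRing R] [IsRegularRing R] : EGA4.IsNormalRing R :=
  fun p _ => ⟨RegLoc6.isDomain_of_isRegularLocalRing _,
    haveI := RegLoc6.isDomain_of_isRegularLocalRing (Localization.AtPrime p)
    RegLoc6.isIntegrallyClosed_of_isRegularLocalRing _⟩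

theorem isNoetherianRing_of_faithfullyFlat (A B : Type u) [CommRing A] [CommRing B] [Algebra A B]
    [Module.FaithfullyFlat A B] [IsNoetherianRing B] : IsNoetherianRing A :=
  Submodule.IsNoetherian.of_isNoetherian_tensorProduct_of_faithfullyFlat (R := A) (M := A) (A := B)
    (isNoetherian_of_linearEquiv (TensorProduct.AlgebraTensorModule.rid A B B).symm)

theorem permanence_regular : Permanence.{u} (fun R _ => IsRegularRing R) where
  equiv e h := haveI := h; IsRegularRing.of_ringEquiv e
  smooth A B _ _ _ _ h := haveI := h; GeomReg.isRegularRing_of_smooth A B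
  loc M C _ _ _ h := haveI := h; GeomReg.isRegularRing_of_isLocalization M C
  desc A B _ _ _ _ h := haveI := h; S9406.result A B

theorem normal_of_flat_of_fibres (A B : Type u) [CommRing A] [CommRing B] [IsNoetherianRing A] [IsNoetherianRing B]
    [Algebra A B] [Module.Flat A B] (hA : EGA4.IsNormalRing A)
    (hfib : ∀ (p : Ideal A) [p.IsPrime], EGA4.IsNormalRing (p.Fiber B)) : EGA4.IsNormalRing B := by
  intro q _
  obtain ⟨_, _⟩ := hA (q.comap (algebraMap A B))
  exact S2611.result A B (fun q' _ => fibLocRing_normal_of_fiber _ q' rfl (hfib _)) q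

theorem isNormalRing_of_faithfullyFlat (A B : Type u) [CommRing A] [CommRing B] [IsNoetherianRing A]
    [IsNoetherianRing B] [Algebra A B] [Module.FaithfullyFlat A B] (h : EGA4.IsNormalRing B) :
    EGA4.IsNormalRing A := by
  intro p _
  obtain ⟨Q, hQ⟩ := PrimeSpectrum.comap_surjective_of_faithfullyFlat (A := A) (B := B) ⟨p, ‹_›⟩
  have hQ' : Q.asIdeal.comap (algebraMap A B) = p := congrArg PrimeSpectrum.asIdeal hQ
  subst hQ'
  obtain ⟨_, _⟩ := h Q.asIdeal
  exact S2610.result A B Q.asIdeal

theorem isNormalRing_of_isLocalization {R : Type u} [CommRing R] (M : Submonoid R) (C : Type u) [CommRing C]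
    [Algebra R C] [IsLocalization M C] (h : EGA4.IsNormalRing R) : EGA4.IsNormalRing C := by
  intro Q _
  haveI : IsLocalization.AtPrime (Localization.AtPrime Q) (Q.comap (algebraMap R C)) :=
    IsLocalization.isLocalization_isLocalization_atPrime_isLocalization M (Localization.AtPrime Q) Q
  let e := (IsLocalization.algEquiv (Q.comap (algebraMap R C)).primeCompl
    (Localization.AtPrime (Q.comap (algebraMap R C))) (Localization.AtPrime Q)).toRingEquiv
  obtain ⟨_, _⟩ := h (Q.comap (algebraMap R C))
  exact ⟨e.symm.toMulEquiv.isDomain,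
    IsIntegrallyClosed.of_equiv (R := Localization.AtPrime (Q.comap (algebraMap R C))) e⟩

theorem permanence_normal : Permanence.{u} (fun R _ => NoethNormal R) where
  equiv {R S} _ _ e h := ⟨haveI := h.1; isNoetherianRing_of_ringEquiv R e, isNormalRing_of_ringEquiv e h.2⟩
  smooth A B _ _ _ _ h := by
    haveI := h.1
    haveI : IsNoetherianRing B := Algebra.FiniteType.isNoetherianRing A B
    refine ⟨inferInstance, normal_of_flat_of_fibres A B h.2 fun p _ => ?_⟩
    haveI : IsRegularRing p.ResidueField := inferInstance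
    haveI : IsRegularRing (p.Fiber B) := GeomReg.isRegularRing_of_smooth p.ResidueField (p.Fiber B)
    exact isNormalRing_of_isRegularRing _
  loc {R} _ M C _ _ _ h := ⟨haveI := h.1; IsLocalization.isNoetherianRing M C inferInstance,
    isNormalRing_of_isLocalization M C h.2⟩
  desc A B _ _ _ _ h :=
    haveI := h.1
    haveI := isNoetherianRing_of_faithfullyFlat A B
    ⟨inferInstance, isNormalRing_of_faithfullyFlat A B h.2⟩

theorem isNoetherianRing_tensor_finite (k k' S : Type u) [Field k] [Field k'] [Algebra k k'] [Module.Finite k k']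
    [CommRing S] [Algebra k S] [IsNoetherianRing S] : IsNoetherianRing (k' ⊗[k] S) :=
  haveI : IsNoetherianRing (S ⊗[k] k') := GeomReg.isNoetherianRing_tensor k k' S
  isNoetherianRing_of_ringEquiv _ (Algebra.TensorProduct.comm k S k').toRingEquiv

/-- A geometrically regular algebra stays regular under finitely generated extensions. -/
theorem regular_tensor_of_geometricallyRegular {k S : Type u} [Field k] [CommRing S] [Algebra k S]
    (h : CAlg.IsGeometricallyRegular k S) (K : Type u) [Field K] [Algebra k K] [Algebra.EssFiniteType k K] :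
    IsRegularRing (K ⊗[k] S) :=
  permanence_regular.of_insep k S (fun k' _ _ hf _ => h k' hf) K

/-- A geometrically normal Noetherian algebra stays normal under finitely generated extensions. -/
theorem normal_tensor_of_isGeomNormal {k S : Type u} [Field k] [CommRing S] [Algebra k S] [IsNoetherianRing S]
    (h : EGA4.IsGeomNormal k S) (K : Type u) [Field K] [Algebra k K] [Algebra.EssFiniteType k K] :
    IsNoetherianRing (K ⊗[k] S) ∧ EGA4.IsNormalRing (K ⊗[k] S) :=
  permanence_normal.of_insep k S
    (fun k' _ _ hf _ => ⟨haveI := hf; isNoetherianRing_tensor_finite k k' S, h k' hf⟩) K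

end Groth.Agent.FlatLoc6

namespace Groth.Agent.FlatLoc6

universe v

open TensorProduct

/-- Two field extensions, one finite, have a common extension finite over the other. -/
theorem exists_compositum (k K k' : Type v) [Field k] [Field K] [Field k'] [Algebra k K] [Algebra k k']
    [Module.Finite k k'] : ∃ (L : Type v) (_ : Field L) (_ : Algebra k L) (_ : Algebra K L) (_ : Algebra k' L)
      (_ : IsScalarTower k K L) (_ : IsScalarTower k k' L), Module.Finite K L := by
  haveI : Nontrivial (K ⊗[k] k') := inferInstance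
  obtain ⟨m, hm⟩ := Ideal.exists_maximal (K ⊗[k] k')
  letI := Ideal.Quotient.field m
  letI : Algebra k' ((K ⊗[k] k') ⧸ m) :=
    ((Ideal.Quotient.mk m).comp Algebra.TensorProduct.includeRight.toRingHom).toAlgebra
  haveI : IsScalarTower k k' ((K ⊗[k] k') ⧸ m) := IsScalarTower.of_algebraMap_eq fun a => by
    show Ideal.Quotient.mk m (algebraMap k (K ⊗[k] k') a) =
      Ideal.Quotient.mk m (Algebra.TensorProduct.includeRight (algebraMap k k' a))
    rw [AlgHom.commutes]
  exact ⟨(K ⊗[k] k') ⧸ m, inferInstance, inferInstance, inferInstance, inferInstance, inferInstance, inferInstance,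
    Module.Finite.of_surjective (Ideal.Quotient.mkₐ K m).toLinearMap Ideal.Quotient.mk_surjective⟩

/-- Stability of a property under finitely generated extensions does not depend on the base. -/
theorem Permanence.baseChange_iff {P : ∀ (R : Type v) [CommRing R], Prop} (hP : Permanence P) (k S : Type v)
    [Field k] [CommRing S] [Algebra k S] (K : Type v) [Field K] [Algebra k K] [Algebra.EssFiniteType k K] :
    (∀ (k' : Type v) [Field k'] [Algebra k k'], Module.Finite k k' → P (k' ⊗[k] S)) ↔
      (∀ (L : Type v) [Field L] [Algebra K L], Module.Finite K L → P (L ⊗[K] (K ⊗[k] S))) := by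
  constructor
  · intro h L _ _ hL
    letI : Algebra k L := ((algebraMap K L).comp (algebraMap k K)).toAlgebra
    haveI : IsScalarTower k K L := IsScalarTower.of_algebraMap_eq' rfl
    haveI : Algebra.EssFiniteType k L := Algebra.EssFiniteType.comp k K L
    exact hP.equiv (Algebra.TensorProduct.cancelBaseChange k K L L S).symm.toRingEquiv
      (hP.of_insep k S (fun k' _ _ hf _ => h k' hf) L)
  · intro h k' _ _ hk'
    obtain ⟨L, _, _, _, _, _, _, hL⟩ := exists_compositum k K k'
    exact hP.descend_field k k' L S (hP.equiv (Algebra.TensorProduct.cancelBaseChange k K L L S).toRingEquiv (h L hL))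

end Groth.Agent.FlatLoc6
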